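import Cfsg.Agent.H282.SK.Tools
import Mathlib
import Cfsg.Agent.H199.PslAut
import Cfsg.Agent.H199.PslGraphField
import Cfsg.Agent.S2119
import Cfsg.Agent.H277.SK.AltSix
import Cfsg.Agent.S0256
import Cfsg.Agent.Lib.KleinGen
import Cfsg.Agent.Lib.Cores
import Cfsg.Agent.H225.AxB
import Cfsg.Agent.ClassicalGeometry.SympBasic
import Cfsg.Agent.ClassicalGeometry.SympSiegel
import Cfsg.Agent.ClassicalGeometry.SympAutTwo
import Cfsg.Agent.H731.SK.Rows
import Cfsg.Agent.WeakTI.ResNear_m3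
import Cfsg.Agent.ClassicalGeometry.SympAutExists
import Cfsg.Agent.H865.RhoEleven
import Cfsg.Agent.H859.ClassEleven
import Cfsg.Agent.S5569
import Cfsg.Agent.H856.AutM22
import Cfsg.Agent.H337.JankoOfIso
import Cfsg.Agent.KFacts.J4.SheetJ4
import Cfsg.Agent.H573.Spor.Suz
import Cfsg.Agent.CpAutSuz.Classes
import Cfsg.Agent.H323.SuzOutB
import Cfsg.Agent.H474.Suz13.Main
import Cfsg.Agent.KFacts.SuzFix
import Cfsg.Agent.H877.SK.B.Ctx
import Cfsg.Agent.H896.Van.Suz
import Cfsg.Agent.Lib.PermNetFast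
import Cfsg.Agent.LThreeMB.Quo
import Cfsg.Agent.FastGrp
import Cfsg.Agent.Prune
set_option linter.all false

section
prune_inst 0x7ffca8f9aab839dedfff7e77a69ccdfdb9b03fffa4dff9cbffe069ef0bdf4b0849c123ad0be810fc1ea3421400e87b43f9ffceffea6bd87ffffd1df45ffbff8ffdf7bd08519688340fbc0ff703f0778e7f3ffffffffcffffffffffffffffffbeffbffffffffd

-- part: H284/SK/Row
section
prune_inst 0x201020043800100000008000020004609000000000400000000000000801080000000800321000000000008040000000000000000000000000000000000400000000000000000000000000000000000000000000000000000000000000000000000000000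
set_option linter.all false
open scoped Cfsg.Agent.FastGrp

-- part: H284/SK/Act
section
/-!
# S3010 (Sidki pairs): the action of `G` on a group `P` isomorphic to `K` (helper284)

For a minimal counterexample `Cx V K` and `e : K ≃* P`: `act : G →* Aut P` (injective), `el : P →* G` with image `K`.
`Cx.comm_of_O2`: if no nontrivial element of `K` lies in `O_2(C_G(⟨v, x⟩))` then the elements of `O_2(C_G(⟨v, x⟩))`
centralise `C_K(⟨v, x⟩)`.
-/

set_option autoImplicit false
set_option linter.unusedVariables false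
set_option linter.style.haveILetI false

universe u

open Subgroup Cfsg
open Cfsg.Agent.H282.SK

namespace Cfsg.Agent.H284.SK

section act

variable {G : Type u} [Group G] [Finite G] {V K : Subgroup G} {P : Type*} [Group P]

/-- `P → K ≤ G` -/
def el (e : K ≃* P) : P →* G := K.subtype.comp e.symm.toMonoidHom

theorem el_mem (e : K ≃* P) (y : P) : el e y ∈ K := (e.symm y).2

theorem el_injective (e : K ≃* P) : Function.Injective (el e) := fun a b h =>
  e.symm.injective (Subtype.ext h)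

theorem exists_el (e : K ≃* P) {k : G} (hk : k ∈ K) : ∃ y, el e y = k :=
  ⟨e ⟨k, hk⟩, by show ((e.symm (e ⟨k, hk⟩) : K) : G) = k; rw [MulEquiv.symm_apply_apply]⟩

/-- the action of `G` on `P` -/
noncomputable def act (h : Cx V K) (e : K ≃* P) : G →* MulAut P :=
  haveI := h.norm
  (MulAut.congr e).toMonoidHom.comp MulAut.conjNormal

theorem el_act (h : Cx V K) (e : K ≃* P) (g : G) (y : P) : el e (act h e g y) = g * el e y * g⁻¹ := by
  haveI := h.norm
  show ((e.symm (e (MulAut.conjNormal g (e.symm y))) : K) : G) = _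
  rw [MulEquiv.symm_apply_apply, MulAut.conjNormal_apply]
  rfl

theorem act_el (h : Cx V K) (e : K ≃* P) (y z : P) : act h e (el e y) z = y * z * y⁻¹ := by
  apply el_injective e
  rw [el_act, map_mul, map_mul, map_inv]

theorem act_el' (h : Cx V K) (e : K ≃* P) (y : P) : act h e (el e y) = MulAut.conj y := by
  ext z
  rw [act_el, MulAut.conj_apply]

theorem act_injective (h : Cx V K) (e : K ≃* P) : Function.Injective (act h e) := by
  rw [injective_iff_map_eq_one]
  intro g hg
  apply h.eq_one_of_comm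
  intro k hk
  obtain ⟨y, rfl⟩ := exists_el e hk
  have h1 := el_act h e g y
  rw [hg, MulAut.one_apply] at h1
  nth_rw 2 [h1]
  group

theorem act_apply_eq_iff (h : Cx V K) (e : K ≃* P) {g : G} {y : P} :
    act h e g y = y ↔ Commute g (el e y) := by
  constructor
  · intro h1
    have h2 := el_act h e g y
    rw [h1] at h2
    show g * el e y = el e y * g
    nth_rw 2 [h2]
    group
  · intro h1
    apply el_injective e
    rw [el_act, h1.eq, mul_inv_cancel_right]

end act

section O2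

variable {G : Type u} [Group G] [Finite G] {V K : Subgroup G}

/-- If `O_2(C)` meets `K` trivially then it centralises `C ∩ K`. -/
theorem comm_of_O2 (h : Cx V K) {C : Subgroup G} (h0 : ∀ r ∈ O2 C, r ∈ K → r = 1) {w y : G} (hw : w ∈ O2 C)
    (hy : y ∈ C) (hyK : y ∈ K) : Commute w y := by
  have h1 : w * y * w⁻¹ * y⁻¹ ∈ O2 C := by
    have e : w * y * w⁻¹ * y⁻¹ = w * (y * w⁻¹ * y⁻¹) := by group
    rw [e]
    exact (O2 C).mul_mem hw (conj_mem_O2 hy ((O2 C).inv_mem hw))
  have h2 := h0 _ h1 (K.mul_mem (h.norm.conj_mem y hyK w) (K.inv_mem hyK))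
  rw [mul_inv_eq_one, mul_inv_eq_iff_eq_mul] at h2
  exact h2

/-- To see that `O_2(C) ∩ K = 1` it is enough to look at involutions. -/
theorem O2_inf_of_invol {C K : Subgroup G} (h0 : ∀ r ∈ O2 C, r ∈ K → r * r = 1 → r = 1) :
    ∀ r ∈ O2 C, r ∈ K → r = 1 := by
  intro r hr hrK
  by_contra hne
  obtain ⟨k, hk⟩ := isPGroup_O2 C ⟨r, hr⟩
  have hk' : r ^ 2 ^ k = 1 := congrArg Subtype.val hk
  classical
  have hex : ∃ j, r ^ 2 ^ j = 1 := ⟨k, hk'⟩
  have hj := Nat.find_spec hex
  have hj0 : Nat.find hex ≠ 0 := by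
    intro h1
    rw [h1, pow_zero, pow_one] at hj
    exact hne hj
  obtain ⟨j, hj1⟩ := Nat.exists_eq_succ_of_ne_zero hj0
  have h2 : ¬ r ^ 2 ^ j = 1 := Nat.find_min hex (by omega)
  apply h2
  apply h0 _ ((O2 C).pow_mem hr _) (K.pow_mem hrK _)
  rw [← pow_add, ← two_mul, ← pow_succ']
  rw [hj1] at hj
  exact hj

end O2

end Cfsg.Agent.H284.SK
end

-- part: H284/SK/Fld
section
/-!
# S3010 (Sidki pairs), characteristic 2: the field of degree `2k` and its involution (helper284)

`exists_field`: for a finite field `F` of characteristic 2 with `q` elements and `k ≥ 1` there is a field `L` of degree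
`2k` over `F`, the `F`-automorphism `τ = (x ↦ x ^ q ^ k)` of order 2 whose fixed space has dimension `k`, an element `ζ`
of order `q ^ k + 1` inverted by `τ` which generates `L`, such that the minimal polynomial of `ζ` is fixed by no
automorphism of `F` of order 2; for `k ≥ 2` there is `a ∈ L`, `τ a = a`, `a ^ (q - 1) ∉ F`.
-/

set_option autoImplicit false
set_option linter.style.haveILetI false
set_option linter.unusedVariables false

open Polynomial Module

namespace Cfsg.Agent.H284.SK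

/-- The data: a field `L` of degree `2k` over `F` with its involution `τ` and `ζ`. -/
structure Fd (F : Type*) [Field F] (k : ℕ) (L : Type) [Field L] [Algebra F L] (τ : L ≃ₐ[F] L) (ζ : L) : Prop where
  fr : finrank F L = 2 * k
  tt : ∀ x, τ (τ x) = x
  kr : finrank F (LinearMap.ker (τ.toLinearMap - LinearMap.id)) = k
  inv : τ ζ = ζ⁻¹
  odd : Odd (orderOf ζ)
  ne_one : ζ ≠ 1
  adj : Algebra.adjoin F {ζ} = ⊤
  mn : ∀ σ : F ≃+* F, σ * σ = 1 → σ ≠ 1 → aeval ζ ((minpoly F ζ).map (σ : F →+* F)) ≠ 0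
  big : 2 ≤ k → ∃ a : L, a ≠ 0 ∧ τ a = a ∧ ∀ c : F, a ^ (Nat.card F - 1) ≠ algebraMap F L c

section

variable {F : Type*} [Field F] [Finite F]

/-- An element `ζ` of an extension `L` of degree `2 k` whose order is `|F|^k + 1` generates `L`. -/
theorem adjoin_eq_top {L : Type*} [Field L] [Algebra F L] [Module.Finite F L] {k : ℕ} (hk : 1 ≤ k)
    (hd : finrank F L = 2 * k) {ζ : L} (hζ : orderOf ζ = Nat.card F ^ k + 1) :
    IntermediateField.adjoin F {ζ} = ⊤ := by
  have hL : Finite L := Module.finite_of_finite F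
  set E := IntermediateField.adjoin F {ζ} with hE
  have h1 : finrank F E * finrank E L = 2 * k := by rw [← hd]; exact finrank_mul_finrank F E L
  have hq : 1 < Nat.card F := Finite.one_lt_card
  have hζ0 : ζ ≠ 0 := by
    rintro rfl
    have : orderOf (0 : L) = 0 := by
      rw [orderOf_eq_zero_iff']
      intro n hn h
      rw [zero_pow hn.ne'] at h
      exact zero_ne_one h
    omega
  have h2 : ζ ∈ E := IntermediateField.mem_adjoin_simple_self F ζ
  have h3 : ζ ^ (Nat.card E - 1) = 1 := by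
    have hf : Fintype E := Fintype.ofFinite E
    have := FiniteField.pow_card_sub_one_eq_one (⟨ζ, h2⟩ : E) (fun h => hζ0 (congrArg Subtype.val h))
    rw [Fintype.card_eq_nat_card] at this
    exact congrArg Subtype.val this
  have h4 : Nat.card E = Nat.card F ^ finrank F E := Module.natCard_eq_pow_finrank
  have h5 : Nat.card F ^ k + 1 ∣ Nat.card F ^ finrank F E - 1 := by
    rw [← hζ, ← h4]; exact orderOf_dvd_of_pow_eq_one h3
  have h6 : 0 < finrank F E := Module.finrank_pos
  have h7 : 1 < Nat.card F ^ finrank F E := Nat.one_lt_pow h6.ne' hq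
  have h8 : Nat.card F ^ k + 1 ≤ Nat.card F ^ finrank F E - 1 := Nat.le_of_dvd (by omega) h5
  have h9 : k < finrank F E := by
    by_contra hle
    push Not at hle
    have := Nat.pow_le_pow_right (by omega : 0 < Nat.card F) hle
    omega
  have h10 : finrank E L = 1 := by
    have h11 : 0 < finrank E L := Module.finrank_pos
    by_contra hne
    have h12 : 2 ≤ finrank E L := by omega
    have : finrank F E * 2 ≤ 2 * k := by rw [← h1]; exact Nat.mul_le_mul_left _ h12
    omega
  exact IntermediateField.finrank_eq_one_iff_eq_top.1 h10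

/-- The minimal polynomial of `ζ` is not fixed by `σ`. -/
theorem map_minpoly_ne {L : Type*} [Field L] [Algebra F L] [Module.Finite F L] {k : ℕ} (hk : 1 ≤ k)
    (hd : finrank F L = 2 * k) {ζ : L} (hζ : orderOf ζ = Nat.card F ^ k + 1) (σ : F ≃+* F) (hσ : σ * σ = 1)
    (hσ1 : σ ≠ 1) : aeval ζ ((minpoly F ζ).map (σ : F →+* F)) ≠ 0 := by
  intro h0
  have hL : Finite L := Module.finite_of_finite F
  have hint : IsIntegral F ζ := Algebra.IsIntegral.isIntegral ζ
  -- `μ^σ = μ`
  have hmon : ((minpoly F ζ).map (σ : F →+* F)).Monic := (minpoly.monic hint).map _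
  have hdvd : minpoly F ζ ∣ (minpoly F ζ).map (σ : F →+* F) := minpoly.dvd F ζ h0
  have heq : (minpoly F ζ).map (σ : F →+* F) = minpoly F ζ := by
    refine Polynomial.eq_of_monic_of_dvd_of_natDegree_le (minpoly.monic hint) hmon hdvd ?_
    rw [Polynomial.natDegree_map]
  -- the fixed field
  let F₀ : Subfield F := FixedPoints.subfield (Subgroup.zpowers σ) F
  have hfin : Finite (F ≃+* F) := Finite.of_injective (fun e : F ≃+* F => (e : F → F)) DFunLike.coe_injective
  have hmem : ∀ x : F, x ∈ F₀ ↔ σ x = x := by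
    intro x
    constructor
    · intro h
      exact h ⟨σ, Subgroup.mem_zpowers σ⟩
    · rintro h ⟨g, hg⟩
      obtain ⟨i, rfl⟩ := Subgroup.mem_zpowers_iff.1 hg
      show (σ ^ i) x = x
      have : σ ∈ MulAction.stabilizer (F ≃+* F) x := h
      exact (Subgroup.zpow_mem _ this i : _)
  have hcard : finrank F₀ F = 2 := by
    have h1 : finrank F₀ F = Nat.card (Subgroup.zpowers σ) := by
      haveI : Fintype (Subgroup.zpowers σ) := Fintype.ofFinite _
      rw [Nat.card_eq_fintype_card]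
      exact FixedPoints.finrank_eq_card (Subgroup.zpowers σ) F
    rw [h1, Nat.card_zpowers]
    exact orderOf_eq_prime (by rw [pow_two]; exact hσ) hσ1
  have hlift : ∃ μ₀ : F₀[X], μ₀.map (algebraMap F₀ F) = minpoly F ζ ∧ μ₀.natDegree = (minpoly F ζ).natDegree ∧
      μ₀.Monic := by
    have h2 : minpoly F ζ ∈ Polynomial.lifts (algebraMap F₀ F) := by
      rw [Polynomial.lifts_iff_coeff_lifts]
      intro n
      refine ⟨⟨(minpoly F ζ).coeff n, ?_⟩, rfl⟩
      rw [hmem]
      have := congrArg (fun p => Polynomial.coeff p n) heq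
      simpa using this
    obtain ⟨μ₀, h3, h4, h5⟩ := Polynomial.lifts_and_natDegree_eq_and_monic h2 (minpoly.monic hint)
    exact ⟨μ₀, h3, h4, h5⟩
  obtain ⟨μ₀, h3, h4, h5⟩ := hlift
  have : IsScalarTower F₀ F L := inferInstance
  have : Module.Finite F₀ L := Module.Finite.trans F L
  have h6 : aeval ζ μ₀ = 0 := by
    have : aeval ζ (μ₀.map (algebraMap F₀ F)) = 0 := by rw [h3]; exact minpoly.aeval F ζ
    rwa [Polynomial.aeval_map_algebraMap] at this
  have hint₀ : IsIntegral F₀ ζ := Algebra.IsIntegral.isIntegral ζ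
  set E := IntermediateField.adjoin F₀ {ζ} with hE
  have h7 : finrank F₀ E ≤ 2 * k := by
    rw [hE, IntermediateField.adjoin.finrank hint₀]
    have h8 : (minpoly F₀ ζ).natDegree ≤ μ₀.natDegree := by
      apply Polynomial.natDegree_le_of_dvd (minpoly.dvd F₀ ζ h6) h5.ne_zero
    have h9 : (minpoly F ζ).natDegree ≤ finrank F L := minpoly.natDegree_le ζ
    omega
  have hq : 1 < Nat.card F := Finite.one_lt_card
  have hζ0 : ζ ≠ 0 := by
    rintro rfl
    have : orderOf (0 : L) = 0 := by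
      rw [orderOf_eq_zero_iff']
      intro n hn h
      rw [zero_pow hn.ne'] at h
      exact zero_ne_one h
    omega
  have h10 : ζ ∈ E := IntermediateField.mem_adjoin_simple_self F₀ ζ
  have h11 : ζ ^ (Nat.card E - 1) = 1 := by
    have hf : Fintype E := Fintype.ofFinite E
    have := FiniteField.pow_card_sub_one_eq_one (⟨ζ, h10⟩ : E) (fun h => hζ0 (congrArg Subtype.val h))
    rw [Fintype.card_eq_nat_card] at this
    exact congrArg Subtype.val this
  have h12 : Nat.card E = Nat.card F₀ ^ finrank F₀ E := Module.natCard_eq_pow_finrank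
  have h13 : Nat.card F = Nat.card F₀ ^ 2 := by
    rw [← hcard]; exact Module.natCard_eq_pow_finrank
  have hq0 : 1 < Nat.card F₀ := Finite.one_lt_card
  have h14 : Nat.card E ≤ Nat.card F ^ k := by
    rw [h12, h13, ← pow_mul]
    exact Nat.pow_le_pow_right (by omega) h7
  have h15 : Nat.card F ^ k + 1 ∣ Nat.card E - 1 := by
    rw [← hζ]; exact orderOf_dvd_of_pow_eq_one h11
  have h16 : 1 < Nat.card E := Finite.one_lt_card
  have := Nat.le_of_dvd (by omega) h15
  omega

end

section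

variable (F : Type*) [Field F] [Finite F] [CharP F 2]

theorem even_card : Even (Nat.card F) := by
  haveI : Fintype F := Fintype.ofFinite F
  rw [Nat.card_eq_fintype_card]
  obtain ⟨n, hn, h⟩ := FiniteField.card F 2
  rw [h]
  exact (Nat.even_pow.2 ⟨even_two, n.ne_zero⟩)

theorem exists_field {k : ℕ} (hk : 1 ≤ k) :
    ∃ (L : Type) (_ : Field L) (_ : Algebra F L) (_ : Module.Finite F L) (τ : L ≃ₐ[F] L) (ζ : L), Fd F k L τ ζ := by
  haveI : NeZero (2 * k) := ⟨by omega⟩
  let L := FiniteField.Extension F 2 (2 * k)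
  have hfr : finrank F L = 2 * k := FiniteField.finrank_extension F 2 (2 * k)
  set q := Nat.card F with hqd
  have hq : 1 < q := Finite.one_lt_card
  have hcL : Nat.card L = q ^ (2 * k) := FiniteField.natCard_extension F 2 (2 * k)
  let τ : L ≃ₐ[F] L := FiniteField.Extension.frob F 2 (2 * k) ^ k
  have hτ : ∀ x, τ x = x ^ q ^ k := fun x => FiniteField.Extension.frob_iterate_apply F 2 (2 * k) k
  have hfL : Fintype L := Fintype.ofFinite L
  have hpc : ∀ x : L, x ^ q ^ (2 * k) = x := by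
    intro x
    have := FiniteField.pow_card x
    rwa [Fintype.card_eq_nat_card, hcL] at this
  have htt : ∀ x, τ (τ x) = x := by
    intro x
    rw [hτ, hτ, ← pow_mul, ← pow_add, ← two_mul, hpc]
  -- generator of `Lˣ`
  obtain ⟨g, hg⟩ := IsCyclic.exists_ofOrder_eq_natCard (α := Lˣ)
  have hcu : Nat.card Lˣ = (q ^ k - 1) * (q ^ k + 1) := by
    rw [Nat.card_units, hcL, mul_comm 2 k, pow_mul]
    have h1 : 1 ≤ q ^ k := Nat.one_le_pow _ _ (by omega)
    obtain ⟨m, hm⟩ : ∃ m, q ^ k = m + 1 := ⟨q ^ k - 1, by omega⟩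
    rw [hm, pow_two]
    have : (m + 1) * (m + 1) - 1 = (m + 1 - 1) * (m + 1 + 1) := by
      rw [Nat.add_sub_cancel]
      apply Nat.sub_eq_of_eq_add
      ring
    exact this
  have hqk : 1 < q ^ k := Nat.one_lt_pow (by omega) hq
  have hg' : orderOf (g : L) = (q ^ k - 1) * (q ^ k + 1) := by rw [orderOf_units, hg, hcu]
  have hg0 : (g : L) ≠ 0 := g.ne_zero
  let ζ : L := (g : L) ^ (q ^ k - 1)
  have hζo : orderOf ζ = q ^ k + 1 := by
    have h1 : orderOf ((g : L) ^ (q ^ k - 1)) = orderOf (g : L) / Nat.gcd (orderOf (g : L)) (q ^ k - 1) :=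
      orderOf_pow' (g : L) (by omega)
    show orderOf ((g : L) ^ (q ^ k - 1)) = q ^ k + 1
    rw [h1, hg', Nat.gcd_eq_right (Dvd.intro _ rfl), Nat.mul_div_cancel_left _ (by omega)]
  have hζ0 : ζ ≠ 0 := pow_ne_zero _ hg0
  have hζ1 : ζ ≠ 1 := by
    intro h
    rw [h, orderOf_one] at hζo
    omega
  have hζi : τ ζ = ζ⁻¹ := by
    rw [hτ, ← mul_eq_one_iff_eq_inv₀ hζ0, ← pow_succ, ← hζo, pow_orderOf_eq_one]
  have hodd : Odd (orderOf ζ) := by
    rw [hζo]
    exact ((even_card F).pow_of_ne_zero (by omega)).add_one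
  have hadj := adjoin_eq_top hk hfr hζo
  refine ⟨L, inferInstance, inferInstance, inferInstance, τ, ζ, ⟨hfr, htt, ?_, hζi, hodd, hζ1, ?_, ?_, ?_⟩⟩
  · -- the fixed space
    let H : Subgroup (L ≃ₐ[F] L) := Subgroup.zpowers τ
    have hτ1 : τ ≠ 1 := by
      intro h
      have h1 : ζ = ζ⁻¹ := by rw [← hζi, h]; rfl
      have h2 : ζ * ζ = 1 := by nth_rw 2 [h1]; exact mul_inv_cancel₀ hζ0
      have h3 : orderOf ζ ∣ 2 := orderOf_dvd_of_pow_eq_one (by rw [pow_two]; exact h2)
      have := Nat.le_of_dvd (by norm_num) h3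
      omega
    have h2 : Nat.card H = 2 := by
      rw [Nat.card_zpowers]
      exact orderOf_eq_prime (by rw [pow_two]; ext x; exact htt x) hτ1
    have h3 : finrank (IntermediateField.fixedField H) L = 2 := by
      rw [IntermediateField.finrank_fixedField_eq_card, h2]
    have h4 : finrank F (IntermediateField.fixedField H) * finrank (IntermediateField.fixedField H) L = 2 * k :=
      (finrank_mul_finrank F _ L).trans hfr
    have h5 : LinearMap.ker (τ.toLinearMap - LinearMap.id) =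
        Subalgebra.toSubmodule (IntermediateField.fixedField H).toSubalgebra := by
      ext x
      rw [LinearMap.mem_ker, LinearMap.sub_apply, sub_eq_zero]
      show τ x = x ↔ x ∈ IntermediateField.fixedField H
      rw [IntermediateField.mem_fixedField_iff]
      constructor
      · rintro h f hf
        obtain ⟨i, rfl⟩ := Subgroup.mem_zpowers_iff.1 hf
        have : τ ∈ MulAction.stabilizer (L ≃ₐ[F] L) x := h
        exact Subgroup.zpow_mem _ this i
      · intro h
        exact h τ (Subgroup.mem_zpowers τ)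
    rw [h5]
    change finrank F (IntermediateField.fixedField H) = k
    rw [h3] at h4
    omega
  · have h1 := IntermediateField.adjoin_simple_toSubalgebra_of_isAlgebraic
      (Algebra.IsAlgebraic.isAlgebraic (R := F) ζ)
    rw [← h1, hadj]
    rfl
  · intro σ hσ hσ1
    exact map_minpoly_ne hk hfr hζo σ hσ hσ1
  · intro hk2
    refine ⟨(g : L) ^ (q ^ k + 1), pow_ne_zero _ hg0, ?_, ?_⟩
    · rw [hτ, ← pow_mul, add_mul, one_mul, ← pow_add, ← two_mul, pow_add, hpc, pow_add, pow_one, mul_comm]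
    · intro c hc
      have hc0 : c ≠ 0 := by
        rintro rfl
        rw [map_zero] at hc
        exact pow_ne_zero _ (pow_ne_zero _ hg0) hc
      have h1 : (((g : L) ^ (q ^ k + 1)) ^ (q - 1)) ^ (q - 1) = 1 := by
        rw [hc, ← map_pow]
        haveI : Fintype F := Fintype.ofFinite F
        have := FiniteField.pow_card_sub_one_eq_one c hc0
        rw [Fintype.card_eq_nat_card] at this
        rw [this, map_one]
      rw [← pow_mul, ← pow_mul] at h1
      have h2 := orderOf_dvd_of_pow_eq_one h1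
      rw [hg', mul_comm (q ^ k - 1)] at h2
      have h3 : q ^ k - 1 ∣ (q - 1) * (q - 1) := Nat.dvd_of_mul_dvd_mul_left (by omega) h2
      have h4 : 0 < (q - 1) * (q - 1) := Nat.mul_pos (by omega) (by omega)
      have h5 := Nat.le_of_dvd h4 h3
      have h6 : q ^ 2 ≤ q ^ k := Nat.pow_le_pow_right (by omega) hk2
      obtain ⟨m, hm⟩ : ∃ m, q = m + 2 := ⟨q - 2, by omega⟩
      rw [hm] at h5 h6 hqk
      have h7 : (m + 2 - 1) * (m + 2 - 1) = m * m + 2 * m + 1 := by
        rw [show m + 2 - 1 = m + 1 by omega]; ring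
      have h8 : (m + 2) ^ 2 = m * m + 4 * m + 4 := by ring
      omega

end

end Cfsg.Agent.H284.SK
end

-- part: H284/SK/Norm
section
/-!
# S3010 (Sidki pairs), characteristic 2: normal form of linear involutions (helper284)

`exists_sq_zero` : a linear map `N` with `N² = 0` is `(a, b, z) ↦ (0, a, 0)` on `F^k × F^k × F^c`.
`exists_model` : a linear involution `s ≠ 1` of a space `M` in characteristic 2 is `(τ, 1)` on `L × F^c`, `L` the field of
degree `2 k` of `exists_field`.
-/

set_option autoImplicit false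
set_option linter.style.haveILetI false
set_option linter.unusedVariables false

open Module

namespace Cfsg.Agent.H284.SK

theorem exists_sq_zero {F M : Type*} [Field F] [AddCommGroup M] [Module F M] [FiniteDimensional F M]
    (N : M →ₗ[F] M) (hN : ∀ x, N (N x) = 0) :
    ∃ (c : ℕ) (φ : ((Fin (finrank F (LinearMap.range N)) → F) × (Fin (finrank F (LinearMap.range N)) → F) ×
        (Fin c → F)) ≃ₗ[F] M),
      (∀ a b z, N (φ (a, b, z)) = φ (0, a, 0)) ∧ finrank F (LinearMap.range N) + c = finrank F (LinearMap.ker N) := by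
  classical
  obtain ⟨Q, hQ⟩ := Submodule.exists_isCompl (LinearMap.ker N)
  -- `N` restricted to `Q` is injective with the range of `N`
  have hinj : ∀ a ∈ Q, N a = 0 → a = 0 := by
    intro a ha h
    have : a ∈ LinearMap.ker N ⊓ Q := ⟨h, ha⟩
    rw [hQ.inf_eq_bot] at this
    exact (Submodule.mem_bot F).1 this
  have hle : LinearMap.range N ≤ LinearMap.ker N := by
    rintro _ ⟨x, rfl⟩
    exact hN x
  obtain ⟨R, hR⟩ := Submodule.exists_isCompl ((LinearMap.range N).comap (LinearMap.ker N).subtype)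
  set R' : Submodule F M := R.map (LinearMap.ker N).subtype with hR'
  have hR'le : R' ≤ LinearMap.ker N := by
    rintro _ ⟨x, -, rfl⟩
    exact x.2
  have hdis : ∀ a, a ∈ LinearMap.range N → a ∈ R' → a = 0 := by
    rintro a ha ⟨y, hy, rfl⟩
    have h1 : y ∈ (LinearMap.range N).comap (LinearMap.ker N).subtype ⊓ R := ⟨ha, hy⟩
    rw [hR.inf_eq_bot, Submodule.mem_bot] at h1
    rw [h1]; rfl
  have hsup : ∀ a ∈ LinearMap.ker N, ∃ b ∈ LinearMap.range N, ∃ c ∈ R', a = b + c := by
    intro a ha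
    have h1 : (⟨a, ha⟩ : LinearMap.ker N) ∈ (LinearMap.range N).comap (LinearMap.ker N).subtype ⊔ R := by
      rw [hR.sup_eq_top]; exact Submodule.mem_top
    obtain ⟨b, hb, c, hc, h⟩ := Submodule.mem_sup.1 h1
    exact ⟨b, hb, c, ⟨c, hc, rfl⟩, (congrArg Subtype.val h).symm⟩
  have hfQ : finrank F Q = finrank F (LinearMap.range N) := by
    have h1 := LinearMap.finrank_range_add_finrank_ker N
    have h2 := Submodule.finrank_add_eq_of_isCompl hQ
    omega
  set k := finrank F (LinearMap.range N) with hk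
  set c := finrank F R' with hc
  let bQ : (Fin k → F) ≃ₗ[F] Q := ((Module.finBasisOfFinrankEq F Q hfQ).equivFun).symm
  let bR : (Fin c → F) ≃ₗ[F] R' := ((Module.finBasisOfFinrankEq F R' rfl).equivFun).symm
  let f : ((Fin k → F) × (Fin k → F) × (Fin c → F)) →ₗ[F] M :=
    LinearMap.coprod (Q.subtype ∘ₗ bQ.toLinearMap)
      (LinearMap.coprod (N ∘ₗ Q.subtype ∘ₗ bQ.toLinearMap) (R'.subtype ∘ₗ bR.toLinearMap))
  have hf : ∀ a b z, f (a, b, z) = (bQ a : M) + (N (bQ b) + (bR z : M)) := fun a b z => rfl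
  have hNf : ∀ a b z, N (f (a, b, z)) = N (bQ a) := by
    intro a b z
    have h1 : N (bR z : M) = 0 := hR'le (bR z).2
    rw [hf, map_add, map_add, hN, h1, add_zero, add_zero]
  have hfi : Function.Injective f := by
    rw [← LinearMap.ker_eq_bot, LinearMap.ker_eq_bot']
    rintro ⟨a, b, z⟩ h
    have h1 : N (bQ a) = 0 := by rw [← hNf a b z, h, map_zero]
    have h2 : (bQ a : M) = 0 := hinj _ (bQ a).2 h1
    rw [hf, h2, zero_add] at h
    have h3 : (bR z : M) ∈ LinearMap.range N := by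
      rw [← neg_eq_of_add_eq_zero_right h]
      exact Submodule.neg_mem _ ⟨_, rfl⟩
    have h4 : (bR z : M) = 0 := hdis _ h3 (bR z).2
    rw [h4, add_zero] at h
    have h5 : (bQ b : M) = 0 := hinj _ (bQ b).2 h
    have h6 : a = 0 := by
      apply bQ.injective; rw [map_zero]; exact Subtype.ext h2
    have h7 : b = 0 := by
      apply bQ.injective; rw [map_zero]; exact Subtype.ext h5
    have h8 : z = 0 := by
      apply bR.injective; rw [map_zero]; exact Subtype.ext h4
    rw [h6, h7, h8]; rfl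
  have hfs : Function.Surjective f := by
    intro x
    have h1 : x ∈ LinearMap.ker N ⊔ Q := by rw [hQ.sup_eq_top]; exact Submodule.mem_top
    obtain ⟨y, hy, a, ha, rfl⟩ := Submodule.mem_sup.1 h1
    obtain ⟨_, ⟨b, rfl⟩, z, hz, rfl⟩ := hsup y hy
    have h2 : b ∈ LinearMap.ker N ⊔ Q := by rw [hQ.sup_eq_top]; exact Submodule.mem_top
    obtain ⟨y', hy', b', hb', rfl⟩ := Submodule.mem_sup.1 h2
    refine ⟨(bQ.symm ⟨a, ha⟩, bQ.symm ⟨b', hb'⟩, bR.symm ⟨z, hz⟩), ?_⟩
    rw [hf, LinearEquiv.apply_symm_apply, LinearEquiv.apply_symm_apply, LinearEquiv.apply_symm_apply, map_add,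
      show N y' = 0 from hy', zero_add, add_comm]
  have hbij : Function.Bijective f := ⟨hfi, hfs⟩
  refine ⟨c, LinearEquiv.ofBijective f hbij, ?_, ?_⟩
  · intro a b z
    change N (f (a, b, z)) = f (0, a, 0)
    rw [hNf, hf, map_zero, map_zero]
    simp
  · have h1 := Submodule.finrank_add_eq_of_isCompl hR
    have h2 : finrank F ((LinearMap.range N).comap (LinearMap.ker N).subtype) = k := by
      rw [hk]
      exact LinearEquiv.finrank_eq (Submodule.comapSubtypeEquivOfLe hle)
    have h3 : finrank F R = c := by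
      rw [hc, hR']
      exact (LinearEquiv.finrank_eq (Submodule.equivMapOfInjective _ (Submodule.subtype_injective _) R))
    omega

/-- a linear involution of characteristic 2 in normal form -/
theorem exists_nf {F M : Type*} [Field F] [CharP F 2] [AddCommGroup M] [Module F M] [FiniteDimensional F M]
    (s : M →ₗ[F] M) (hs : ∀ x, s (s x) = x) {k : ℕ} (hk : finrank F (LinearMap.range (s - LinearMap.id)) = k) :
    ∃ (c : ℕ) (φ : ((Fin k → F) × (Fin k → F) × (Fin c → F)) ≃ₗ[F] M),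
      (∀ a b z, s (φ (a, b, z)) = φ (a, a + b, z)) ∧ k + c = finrank F (LinearMap.ker (s - LinearMap.id)) := by
  subst hk
  have hN : ∀ x : M, (s - LinearMap.id : M →ₗ[F] M) ((s - LinearMap.id : M →ₗ[F] M) x) = 0 := by
    intro x
    have h2 : (2 : F) = 0 := CharTwo.two_eq_zero
    simp only [LinearMap.sub_apply, LinearMap.id_apply, map_sub, hs]
    have h3 : x - s x - (s x - x) = (2 : F) • (x - s x) := by
      rw [two_smul]; abel
    rw [h3, h2, zero_smul]
  obtain ⟨c, φ, h1, h2⟩ := exists_sq_zero (s - LinearMap.id) hN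
  refine ⟨c, φ, ?_, h2⟩
  intro a b z
  have h3 := h1 a b z
  rw [LinearMap.sub_apply, LinearMap.id_apply, sub_eq_iff_eq_add, ← map_add] at h3
  rw [h3]
  congr 1
  simp

/-- **The model.** -/
theorem exists_model {F : Type*} [Field F] [Finite F] [CharP F 2] {n : ℕ} (s : (Fin n → F) →ₗ[F] (Fin n → F))
    (hs : ∀ x, s (s x) = x) (hs1 : s ≠ LinearMap.id) :
    ∃ (k : ℕ) (_ : 1 ≤ k) (c : ℕ) (_ : 2 * k + c = n) (L : Type) (_ : Field L) (_ : Algebra F L)
      (_ : Module.Finite F L) (τ : L ≃ₐ[F] L) (ζ : L) (_ : Fd F k L τ ζ)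
      (Φ : (Fin n → F) ≃ₗ[F] (L × (Fin c → F))), ∀ x, Φ (s x) = (τ (Φ x).1, (Φ x).2) := by
  set k := finrank F (LinearMap.range (s - LinearMap.id)) with hk
  have hk1 : 1 ≤ k := by
    by_contra h
    have h0 : finrank F (LinearMap.range (s - LinearMap.id)) = 0 := by omega
    rw [Submodule.finrank_eq_zero, LinearMap.range_eq_bot, sub_eq_zero] at h0
    exact hs1 h0
  obtain ⟨c, φ, h1, h2⟩ := exists_nf s hs hk.symm
  obtain ⟨L, hL1, hL2, hL3, τ, ζ, hF⟩ := exists_field F hk1
  have hrk : finrank F (LinearMap.range (τ.toLinearMap - LinearMap.id)) = k := by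
    have h3 := LinearMap.finrank_range_add_finrank_ker (τ.toLinearMap - LinearMap.id)
    rw [hF.kr, hF.fr] at h3
    omega
  obtain ⟨c', ψ, h3, h4⟩ := exists_nf τ.toLinearMap hF.tt hrk
  rw [hF.kr] at h4
  obtain rfl : c' = 0 := by omega
  have h5 : 2 * k + c = n := by
    have h6 := LinearEquiv.finrank_eq φ
    rw [Module.finrank_prod, Module.finrank_prod] at h6
    simp only [Module.finrank_fin_fun] at h6
    omega
  -- the map
  let g : ((Fin k → F) × (Fin k → F) × (Fin c → F)) ≃ₗ[F] (L × (Fin c → F)) :=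
    { toFun := fun x => (ψ (x.1, x.2.1, 0), x.2.2)
      invFun := fun y => ((ψ.symm y.1).1, (ψ.symm y.1).2.1, y.2)
      map_add' := by
        intro x y
        refine Prod.ext ?_ rfl
        change ψ (x.1 + y.1, x.2.1 + y.2.1, 0) = ψ (x.1, x.2.1, 0) + ψ (y.1, y.2.1, 0)
        rw [← map_add]
        congr 1
        simp
      map_smul' := by
        intro r x
        refine Prod.ext ?_ rfl
        change ψ (r • x.1, r • x.2.1, 0) = r • ψ (x.1, x.2.1, 0)
        rw [← map_smul]
        congr 1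
        simp
      left_inv := by
        intro x
        simp
      right_inv := by
        intro y
        refine Prod.ext ?_ rfl
        change ψ ((ψ.symm y.1).1, (ψ.symm y.1).2.1, 0) = y.1
        have : ((ψ.symm y.1).1, (ψ.symm y.1).2.1, (0 : Fin 0 → F)) = ψ.symm y.1 := by
          refine Prod.ext rfl (Prod.ext rfl (Subsingleton.elim _ _))
        rw [this, LinearEquiv.apply_symm_apply] }
  refine ⟨k, hk1, c, h5, L, hL1, hL2, hL3, τ, ζ, hF, φ.symm.trans g, ?_⟩
  intro x
  obtain ⟨⟨a, b, z⟩, rfl⟩ := φ.surjective x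
  rw [h1, LinearEquiv.trans_apply, LinearEquiv.trans_apply, LinearEquiv.symm_apply_apply,
    LinearEquiv.symm_apply_apply]
  change (ψ (a, a + b, 0), z) = (τ (ψ (a, b, 0)), z)
  refine Prod.ext ?_ rfl
  exact (h3 a b 0).symm

end Cfsg.Agent.H284.SK
end

-- part: H284/SK/Sl
section
/-!
# S3010 (Sidki pairs), characteristic 2: tools for `SL_n(F)` (helper284)
-/

set_option autoImplicit false
set_option linter.unusedVariables false
set_option linter.unusedSectionVars false
set_option linter.style.haveILetI false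

open Matrix
open Cfsg.Agent.ClassicalGeometry.AutPSL.Root
open Cfsg.Agent.ClassicalGeometry.AutPSL.Auto
open Cfsg.Agent.H199.PslAut

namespace Cfsg.Agent.H284.SK

section mk

variable {F : Type*} [Field F] {n : ℕ} {M : Type*} [AddCommGroup M] [Module F M]

/-- The element of `SL_n(F)` that acts as `A` on `M`, `Φ : F^n ≃ M`. -/
def mkS (Φ : (Fin n → F) ≃ₗ[F] M) (A : M →ₗ[F] M) (hA : LinearMap.det A = 1) :
    Matrix.SpecialLinearGroup (Fin n) F :=
  ⟨LinearMap.toMatrix' ((Φ.symm : M →ₗ[F] (Fin n → F)) ∘ₗ A ∘ₗ (Φ : (Fin n → F) →ₗ[F] M)), by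
    rw [LinearMap.det_toMatrix']
    have h := LinearMap.det_conj A Φ.symm
    rw [LinearEquiv.symm_symm] at h
    rw [← hA, ← h]⟩

theorem mkS_mulVec (Φ : (Fin n → F) ≃ₗ[F] M) (A : M →ₗ[F] M) (hA : LinearMap.det A = 1) (x : Fin n → F) :
    (mkS Φ A hA : Matrix (Fin n) (Fin n) F) *ᵥ x = Φ.symm (A (Φ x)) := by
  show LinearMap.toMatrix' _ *ᵥ x = _
  rw [LinearMap.toMatrix'_mulVec]
  rfl

theorem mkS_mulVec' (Φ : (Fin n → F) ≃ₗ[F] M) (A : M →ₗ[F] M) (hA : LinearMap.det A = 1) (x : Fin n → F) :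
    Φ ((mkS Φ A hA : Matrix (Fin n) (Fin n) F) *ᵥ x) = A (Φ x) := by
  rw [mkS_mulVec, LinearEquiv.apply_symm_apply]

theorem mkS_mulVec_symm (Φ : (Fin n → F) ≃ₗ[F] M) (A : M →ₗ[F] M) (hA : LinearMap.det A = 1) (x : M) :
    (mkS Φ A hA : Matrix (Fin n) (Fin n) F) *ᵥ (Φ.symm x) = Φ.symm (A x) := by
  rw [mkS_mulVec, LinearEquiv.apply_symm_apply]

/-- an element of `SL_n(F)` is determined by its action on `M` -/
theorem sl_ext' (Φ : (Fin n → F) ≃ₗ[F] M) {X Y : Matrix.SpecialLinearGroup (Fin n) F}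
    (h : ∀ x, Φ ((X : Matrix (Fin n) (Fin n) F) *ᵥ x) = Φ ((Y : Matrix (Fin n) (Fin n) F) *ᵥ x)) : X = Y :=
  sl_ext fun x => Φ.injective (h x)

theorem mkS_pow (Φ : (Fin n → F) ≃ₗ[F] M) (A : M →ₗ[F] M) (hA : LinearMap.det A = 1) (m : ℕ) (x : Fin n → F) :
    Φ (((mkS Φ A hA ^ m : Matrix.SpecialLinearGroup (Fin n) F) : Matrix (Fin n) (Fin n) F) *ᵥ x) =
      (A ^ m) (Φ x) := by
  induction m generalizing x with
  | zero =>
    rw [pow_zero, pow_zero, Matrix.SpecialLinearGroup.coe_one, one_mulVec]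
    rfl
  | succ m ih => rw [pow_succ, sl_mul_mulVec, ih, mkS_mulVec', pow_succ]; rfl

theorem mkS_pow_eq_one (Φ : (Fin n → F) ≃ₗ[F] M) (A : M →ₗ[F] M) (hA : LinearMap.det A = 1) {m : ℕ}
    (h : A ^ m = 1) : mkS Φ A hA ^ m = 1 := by
  apply sl_ext' Φ
  intro x
  rw [mkS_pow, h, Matrix.SpecialLinearGroup.coe_one, one_mulVec]
  rfl

end mk

section char2

variable {F : Type*} [Field F] [CharP F 2] {n : ℕ}

theorem eq_one_of_sq {x : F} (h : x * x = 1) : x = 1 := by
  have h2 : (2 : F) = 0 := CharTwo.two_eq_zero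
  have h3 : (x - 1) * (x - 1) = 0 := by linear_combination h - (x - 1) * h2
  rcases mul_eq_zero.1 h3 with h4 | h4 <;> exact sub_eq_zero.1 h4

theorem eq_one_of_eq_inv {x : F} (hx : x ≠ 0) (h : x = x⁻¹) : x = 1 := by
  apply eq_one_of_sq
  nth_rw 2 [h]
  exact mul_inv_cancel₀ hx

theorem det_eq_one_of_sq {M : Type*} [AddCommGroup M] [Module F M] {A : M →ₗ[F] M} (h : ∀ x, A (A x) = x) :
    LinearMap.det A = 1 := by
  apply eq_one_of_sq
  rw [← map_mul]
  have : A * A = 1 := LinearMap.ext h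
  rw [this, map_one]

/-- an element inverted by an involution has determinant 1 -/
theorem det_eq_one_of_inv {M : Type*} [AddCommGroup M] [Module F M] {A S : M →ₗ[F] M} (hS : ∀ x, S (S x) = x)
    (h : ∀ x, S (A (S (A x))) = x) : LinearMap.det A = 1 := by
  apply eq_one_of_sq
  have h1 : S * A * S * A = 1 := LinearMap.ext h
  have h2 := congrArg LinearMap.det h1
  rw [map_mul, map_mul, map_mul, det_eq_one_of_sq hS, one_mul, mul_one, map_one] at h2
  exact h2

end char2

section pr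

variable {F : Type*} [Field F] [CharP F 2] {n : ℕ}

theorem smul_ne_zero_of {X Y : Matrix.SpecialLinearGroup (Fin n) F} [Nonempty (Fin n)] {c : F}
    (h : (Y : Matrix (Fin n) (Fin n) F) = c • (X : Matrix (Fin n) (Fin n) F)) : c ≠ 0 := by
  rintro rfl
  rw [zero_smul] at h
  have h1 := Y.2
  rw [show (Y.1 : Matrix (Fin n) (Fin n) F) = 0 from h, Matrix.det_zero] at h1
  exact zero_ne_one h1

/-- **Exactness.** An automorphism `ψ` of `SL_n(F)` that fixes modulo scalars an involution `s` and an element `X`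
inverted by `s` fixes both. -/
theorem exact_of_pr [Nonempty (Fin n)] (ψ : MulAut (Matrix.SpecialLinearGroup (Fin n) F))
    {s X : Matrix.SpecialLinearGroup (Fin n) F} (hs : s * s = 1) (hX : s * X * s = X⁻¹)
    (h1 : pr (ψ s) = pr s) (h2 : pr (ψ X) = pr X) : ψ s = s ∧ ψ X = X := by
  obtain ⟨c, hc⟩ := exists_smul_of_pr_eq h1
  obtain ⟨d, hd⟩ := exists_smul_of_pr_eq h2
  have hc0 := smul_ne_zero_of hc
  have hd0 := smul_ne_zero_of hd
  -- from matrices to elements
  have key : ∀ {A B : Matrix.SpecialLinearGroup (Fin n) F} {r : F},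
      (A : Matrix (Fin n) (Fin n) F) = r • (B : Matrix (Fin n) (Fin n) F) → r = 1 → A = B := by
    intro A B r h hr
    apply Subtype.ext
    rw [hr, one_smul] at h
    exact h
  have hone : ∀ {r : F}, ((1 : Matrix.SpecialLinearGroup (Fin n) F) : Matrix (Fin n) (Fin n) F) =
      r • ((1 : Matrix.SpecialLinearGroup (Fin n) F) : Matrix (Fin n) (Fin n) F) → r = 1 := by
    intro r h
    have i : Fin n := Classical.arbitrary _
    have h3 := congrFun (congrFun h i) i
    rw [Matrix.SpecialLinearGroup.coe_one, Matrix.smul_apply, one_apply_eq, smul_eq_mul, mul_one] at h3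
    exact h3.symm
  have hs' : ψ s * ψ s = 1 := by rw [← map_mul, hs, map_one]
  have hc1 : c = 1 := by
    have h3 : (s : Matrix (Fin n) (Fin n) F) * s = (c * c) • ((ψ s : Matrix (Fin n) (Fin n) F) * (ψ s)) := by
      rw [hc, smul_mul_assoc, mul_smul_comm, smul_smul]
    rw [← Matrix.SpecialLinearGroup.coe_mul, ← Matrix.SpecialLinearGroup.coe_mul, hs, hs'] at h3
    exact eq_one_of_sq (hone h3)
  have hss : ψ s = s := (key hc hc1).symm
  refine ⟨hss, ?_⟩
  have hX' : s * ψ X * s = (ψ X)⁻¹ := by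
    have := congrArg ψ hX
    rw [map_mul, map_mul, hss, map_inv] at this
    exact this
  -- `X = d ψ X`
  have hd1 : d = 1 := by
    have h3 : ((X⁻¹ : Matrix.SpecialLinearGroup (Fin n) F) : Matrix (Fin n) (Fin n) F) =
        d • (((ψ X)⁻¹ : Matrix.SpecialLinearGroup (Fin n) F) : Matrix (Fin n) (Fin n) F) := by
      rw [← hX, ← hX', Matrix.SpecialLinearGroup.coe_mul, Matrix.SpecialLinearGroup.coe_mul,
        Matrix.SpecialLinearGroup.coe_mul, Matrix.SpecialLinearGroup.coe_mul, hd, mul_smul_comm, smul_mul_assoc]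
    have h4 : ((1 : Matrix.SpecialLinearGroup (Fin n) F) : Matrix (Fin n) (Fin n) F) =
        (d * d) • ((1 : Matrix.SpecialLinearGroup (Fin n) F) : Matrix (Fin n) (Fin n) F) := by
      have h5 : ((X * X⁻¹ : Matrix.SpecialLinearGroup (Fin n) F) : Matrix (Fin n) (Fin n) F) =
          (d * d) • ((ψ X * (ψ X)⁻¹ : Matrix.SpecialLinearGroup (Fin n) F) : Matrix (Fin n) (Fin n) F) := by
        rw [Matrix.SpecialLinearGroup.coe_mul,
          Matrix.SpecialLinearGroup.coe_mul, h3, hd, smul_mul_assoc, mul_smul_comm, smul_smul]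
      rwa [mul_inv_cancel, mul_inv_cancel] at h5
    exact eq_one_of_sq (hone h4)
  exact (key hd hd1).symm

/-- linear involutions come from involutions of `SL_n(F)` -/
theorem exists_sl_of_sq [Finite F] (hn : 2 ≤ n) (g : GL (Fin n) F) (h : Psi n F g * Psi n F g = 1) :
    ∃ R : Matrix.SpecialLinearGroup (Fin n) F, R * R = 1 ∧ Psi n F (R : GL (Fin n) F) = Psi n F g := by
  haveI : Nonempty (Fin n) := ⟨⟨0, by omega⟩⟩
  rw [← map_mul, Psi_eq_one_iff hn] at h
  obtain ⟨u, hu⟩ := h
  haveI : Fintype F := Fintype.ofFinite F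
  have hch : ringChar F = 2 := ringChar.eq F 2
  obtain ⟨t, ht⟩ := FiniteField.isSquare_of_char_two hch (u : F)
  have ht0 : t ≠ 0 := by
    rintro rfl
    rw [mul_zero] at ht
    exact u.ne_zero ht
  set t' : Fˣ := Units.mk0 t ht0 with ht'
  have hut : u = t' * t' := Units.ext ht
  set g' : GL (Fin n) F := g * scal n F t'⁻¹ with hg'
  have hcomm : ∀ (r : Fˣ) (a : GL (Fin n) F), scal n F r * a = a * scal n F r := by
    intro r a
    apply Units.ext
    rw [Units.val_mul, Units.val_mul, coe_scal]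
    exact (Matrix.scalar_commute (r : F) (fun _ => Commute.all _ _) (a : Matrix (Fin n) (Fin n) F)).eq
  have hsq : g' * g' = 1 := by
    rw [hg', mul_assoc, ← mul_assoc (scal n F t'⁻¹) g, hcomm, mul_assoc g, ← mul_assoc g, ← map_mul, hu, hut,
      ← map_mul]
    simp
  have hdet : (g' : Matrix (Fin n) (Fin n) F).det = 1 := by
    apply eq_one_of_sq
    rw [← det_mul, ← Units.val_mul, hsq, Units.val_one, det_one]
  let R : Matrix.SpecialLinearGroup (Fin n) F := ⟨(g' : Matrix (Fin n) (Fin n) F), hdet⟩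
  refine ⟨R, ?_, ?_⟩
  · apply Subtype.ext
    show (g' : Matrix (Fin n) (Fin n) F) * g' = 1
    rw [← Units.val_mul, hsq, Units.val_one]
  · have h1 : (R : GL (Fin n) F) = g' := Units.ext rfl
    rw [h1, hg', map_mul, Psi_scal, mul_one]

end pr

end Cfsg.Agent.H284.SK
end

-- part: H284/SK/Model
section
/-!
# S3010 (Sidki pairs), characteristic 2: the element `X` inverted by an involution `s` of `SL_n(F)` (helper284)
-/

set_option autoImplicit false
set_option linter.unusedVariables false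
set_option linter.unusedSectionVars false
set_option linter.style.haveILetI false

open Matrix
open Cfsg.Agent.ClassicalGeometry.AutPSL.Root
open Cfsg.Agent.ClassicalGeometry.AutPSL.Auto
open Cfsg.Agent.H199.PslAut

namespace Cfsg.Agent.H284.SK

section L

variable {F : Type*} [Field F] {k : ℕ} {L : Type} [Field L] [Algebra F L] {τ : L ≃ₐ[F] L} {ζ : L}

/-- induction principle: a property closed under sums, products, scalars and true for `ζ` holds for all of `L` -/
theorem Fd.induct (hF : Fd F k L τ ζ) (S : Subalgebra F L) (h : ζ ∈ S) (x : L) : x ∈ S := by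
  have h1 : Algebra.adjoin F {ζ} ≤ S := Algebra.adjoin_le (by simpa using h)
  rw [hF.adj] at h1
  exact h1 Algebra.mem_top

/-- an `F`-linear map commuting with `ζ` is a multiplication -/
theorem Fd.comm (hF : Fd F k L τ ζ) {N : Type*} [AddCommGroup N] [Module F N] (f : L →ₗ[F] L)
    (h : ∀ x, f (ζ * x) = ζ * f x) (x : L) : f x = x * f 1 := by
  let S : Subalgebra F L :=
    { carrier := {a | ∀ x, f (a * x) = a * f x}
      mul_mem' := by
        intro a b ha hb x
        rw [mul_assoc, ha, hb, mul_assoc]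
      add_mem' := by
        intro a b ha hb x
        rw [add_mul, map_add, ha, hb, add_mul]
      algebraMap_mem' := by
        intro r x
        rw [← Algebra.smul_def, map_smul, Algebra.smul_def] }
  have h1 : x ∈ S := hF.induct S h x
  have h2 := h1 1
  rwa [mul_one] at h2

theorem Fd.zeta_ne_zero (hF : Fd F k L τ ζ) : ζ ≠ 0 := by
  rintro rfl
  have h := hF.odd
  have : orderOf (0 : L) = 0 := by
    rw [orderOf_eq_zero_iff']
    intro n hn h
    rw [zero_pow hn.ne'] at h
    exact zero_ne_one h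
  rw [this] at h
  exact absurd h (by decide)

theorem Fd.sub_ne_zero (hF : Fd F k L τ ζ) : ζ - 1 ≠ 0 := _root_.sub_ne_zero.2 hF.ne_one

end L

section model

variable {F : Type*} [Field F] {k c : ℕ} {L : Type} [Field L] [Algebra F L] {τ : L ≃ₐ[F] L} {ζ : L}

/-- `(ℓ, z) ↦ (a ℓ, z)` -/
def Am (F : Type*) [Field F] {L : Type} [Field L] [Algebra F L] (c : ℕ) (a : L) :
    (L × (Fin c → F)) →ₗ[F] (L × (Fin c → F)) :=
  LinearMap.prodMap (LinearMap.mulLeft F a) LinearMap.id

@[simp] theorem Am_apply (a : L) (p : L × (Fin c → F)) : Am F c a p = (a * p.1, p.2) := rfl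

/-- `(ℓ, z) ↦ (ℓ, B z)` -/
def Bm (L : Type) [Field L] [Algebra F L] (B : (Fin c → F) →ₗ[F] (Fin c → F)) :
    (L × (Fin c → F)) →ₗ[F] (L × (Fin c → F)) :=
  LinearMap.prodMap LinearMap.id B

@[simp] theorem Bm_apply (B : (Fin c → F) →ₗ[F] (Fin c → F)) (p : L × (Fin c → F)) :
    Bm L B p = (p.1, B p.2) := rfl

/-- `(ℓ, z) ↦ (τ ℓ, z)` -/
def Tm (F : Type*) [Field F] {L : Type} [Field L] [Algebra F L] (c : ℕ) (τ : L ≃ₐ[F] L) :
    (L × (Fin c → F)) →ₗ[F] (L × (Fin c → F)) :=
  LinearMap.prodMap τ.toLinearMap LinearMap.id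

@[simp] theorem Tm_apply (p : L × (Fin c → F)) : Tm F c τ p = (τ p.1, p.2) := rfl

theorem Am_pow (a : L) (m : ℕ) : (Am F c a) ^ m = Am F c (a ^ m) := by
  induction m with
  | zero =>
    rw [pow_zero, pow_zero]
    apply LinearMap.ext
    intro p
    simp
  | succ m ih =>
    rw [pow_succ, ih]
    apply LinearMap.ext
    intro p
    show Am F c (a ^ m) (Am F c a p) = Am F c (a ^ (m + 1)) p
    simp only [Am_apply]
    rw [← mul_assoc, ← pow_succ]

theorem Am_one : Am F c (1 : L) = 1 := by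
  apply LinearMap.ext
  intro p
  simp

/-- an endomorphism commuting with `(ζ, 1)` -/
theorem Fd.block (hF : Fd F k L τ ζ) (A : (L × (Fin c → F)) →ₗ[F] (L × (Fin c → F)))
    (h : ∀ p, A (Am F c ζ p) = Am F c ζ (A p)) :
    ∃ (u : L) (B : (Fin c → F) →ₗ[F] (Fin c → F)), ∀ l z, A (l, z) = (l * u, B z) := by
  have h1 : ∀ l, (A (l, 0)).2 = 0 := by
    intro l
    have h2 := h (l / (ζ - 1), 0)
    simp only [Am_apply] at h2
    have h3 : A (l, 0) = A (ζ * (l / (ζ - 1)), 0) - A (l / (ζ - 1), 0) := by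
      rw [← map_sub]
      congr 1
      refine Prod.ext ?_ (by simp)
      show l = ζ * (l / (ζ - 1)) - l / (ζ - 1)
      have h4 := hF.sub_ne_zero
      field_simp
    rw [h3, h2]
    simp
  have h2 : ∀ z, (A (0, z)).1 = 0 := by
    intro z
    have h3 := h (0, z)
    simp only [Am_apply, mul_zero] at h3
    have h4 := congrArg Prod.fst h3
    simp only at h4
    have h5 : (ζ - 1) * (A (0, z)).1 = 0 := by
      rw [sub_mul, one_mul, sub_eq_zero]; exact h4.symm
    exact (mul_eq_zero.1 h5).resolve_left hF.sub_ne_zero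
  let f : L →ₗ[F] L := LinearMap.fst F L (Fin c → F) ∘ₗ A ∘ₗ LinearMap.inl F L (Fin c → F)
  let B : (Fin c → F) →ₗ[F] (Fin c → F) := LinearMap.snd F L (Fin c → F) ∘ₗ A ∘ₗ LinearMap.inr F L (Fin c → F)
  have hf : ∀ x, f (ζ * x) = ζ * f x := by
    intro x
    have h3 := h (x, 0)
    simp only [Am_apply] at h3
    exact congrArg Prod.fst h3
  refine ⟨f 1, B, ?_⟩
  intro l z
  have h3 : A (l, z) = A (l, 0) + A (0, z) := by
    rw [← map_add]
    congr 1
    simp
  rw [h3]
  refine Prod.ext ?_ ?_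
  · show (A (l, 0)).1 + (A (0, z)).1 = l * f 1
    rw [h2, add_zero, ← hF.comm (N := F) f hf]
    rfl
  · show (A (l, 0)).2 + (A (0, z)).2 = B z
    rw [h1, zero_add]
    rfl

variable [CharP F 2]

theorem Fd.det_zeta (hF : Fd F k L τ ζ) : LinearMap.det (Am F c ζ) = 1 := by
  apply det_eq_one_of_inv (S := Tm F c τ)
  · intro x
    simp [hF.tt]
  · intro x
    have h0 := hF.zeta_ne_zero
    simp only [Am_apply, Tm_apply, map_mul, hF.inv, hF.tt, map_inv₀, inv_inv]
    refine Prod.ext ?_ rfl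
    show ζ⁻¹ * (ζ * x.1) = x.1
    rw [← mul_assoc, inv_mul_cancel₀ h0, one_mul]

variable {n : ℕ}

/-- **The element `X`.** -/
noncomputable def Fd.X (hF : Fd F k L τ ζ) (Φ : (Fin n → F) ≃ₗ[F] (L × (Fin c → F))) :
    Matrix.SpecialLinearGroup (Fin n) F := mkS Φ (Am F c ζ) hF.det_zeta

theorem Fd.X_mulVec (hF : Fd F k L τ ζ) (Φ : (Fin n → F) ≃ₗ[F] (L × (Fin c → F))) (x : Fin n → F) :
    Φ ((hF.X Φ : Matrix (Fin n) (Fin n) F) *ᵥ x) = (ζ * (Φ x).1, (Φ x).2) := mkS_mulVec' _ _ _ _

theorem Fd.X_pow (hF : Fd F k L τ ζ) (Φ : (Fin n → F) ≃ₗ[F] (L × (Fin c → F))) : hF.X Φ ^ orderOf ζ = 1 :=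
  mkS_pow_eq_one _ _ _ (by rw [Am_pow, pow_orderOf_eq_one, Am_one])

theorem Fd.s_X_s (hF : Fd F k L τ ζ) (Φ : (Fin n → F) ≃ₗ[F] (L × (Fin c → F)))
    {s : Matrix.SpecialLinearGroup (Fin n) F}
    (hΦ : ∀ x, Φ ((s : Matrix (Fin n) (Fin n) F) *ᵥ x) = (τ (Φ x).1, (Φ x).2)) :
    s * hF.X Φ * s = (hF.X Φ)⁻¹ := by
  rw [eq_inv_iff_mul_eq_one]
  apply sl_ext' Φ
  intro x
  have h0 := hF.zeta_ne_zero
  rw [sl_mul_mulVec, sl_mul_mulVec, sl_mul_mulVec, hΦ, hF.X_mulVec, hΦ, hF.X_mulVec, map_mul, hF.inv, hF.tt,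
    ← mul_assoc, inv_mul_cancel₀ h0, one_mul, Matrix.SpecialLinearGroup.coe_one, one_mulVec]

theorem Fd.s_sq (hF : Fd F k L τ ζ) (Φ : (Fin n → F) ≃ₗ[F] (L × (Fin c → F)))
    {s : Matrix.SpecialLinearGroup (Fin n) F}
    (hΦ : ∀ x, Φ ((s : Matrix (Fin n) (Fin n) F) *ᵥ x) = (τ (Φ x).1, (Φ x).2)) : s * s = 1 := by
  apply sl_ext' Φ
  intro x
  rw [sl_mul_mulVec, hΦ, hΦ, hF.tt, Matrix.SpecialLinearGroup.coe_one, one_mulVec]

variable [Finite F]

/-- an involution of `SL_n(F)`: the model -/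
theorem exists_model_sl {s : Matrix.SpecialLinearGroup (Fin n) F} (hs : s * s = 1) (hs1 : s ≠ 1) :
    ∃ (k : ℕ) (_ : 1 ≤ k) (c : ℕ) (_ : 2 * k + c = n) (L : Type) (_ : Field L) (_ : Algebra F L)
      (_ : Module.Finite F L) (τ : L ≃ₐ[F] L) (ζ : L) (_ : Fd F k L τ ζ)
      (Φ : (Fin n → F) ≃ₗ[F] (L × (Fin c → F))),
      ∀ x, Φ ((s : Matrix (Fin n) (Fin n) F) *ᵥ x) = (τ (Φ x).1, (Φ x).2) := by
  have h1 : ∀ x, Matrix.toLin' (s : Matrix (Fin n) (Fin n) F) x = (s : Matrix (Fin n) (Fin n) F) *ᵥ x :=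
    fun x => rfl
  have := exists_model (F := F) (Matrix.toLin' (s : Matrix (Fin n) (Fin n) F)) (fun x => by
    rw [h1, h1, ← sl_mul_mulVec, hs, Matrix.SpecialLinearGroup.coe_one, one_mulVec]) (fun h => by
    apply hs1
    apply sl_ext
    intro x
    rw [← h1, h, Matrix.SpecialLinearGroup.coe_one, one_mulVec]
    rfl)
  exact this

/-- a linear involution `≠ 1` inverts an element `≠ 1` of odd order -/
theorem exists_inv {c : ℕ} (R : (Fin c → F) →ₗ[F] (Fin c → F)) (hR : ∀ x, R (R x) = x) (hR1 : R ≠ LinearMap.id) :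
    ∃ (B : (Fin c → F) →ₗ[F] (Fin c → F)) (m : ℕ), Odd m ∧ B ^ m = 1 ∧ B ≠ 1 ∧ ∀ x, R (B (R (B x))) = x := by
  obtain ⟨k, hk, d, hd, L, hL1, hL2, hL3, τ, ζ, hF, Φ, hΦ⟩ := exists_model R hR hR1
  let B : (Fin c → F) →ₗ[F] (Fin c → F) :=
    (Φ.symm : (L × (Fin d → F)) →ₗ[F] (Fin c → F)) ∘ₗ Am F d ζ ∘ₗ (Φ : (Fin c → F) →ₗ[F] (L × (Fin d → F)))
  have hB : ∀ x, Φ (B x) = (ζ * (Φ x).1, (Φ x).2) := by
    intro x
    show Φ (Φ.symm (Am F d ζ (Φ x))) = _
    rw [LinearEquiv.apply_symm_apply]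
    rfl
  have h0 := hF.zeta_ne_zero
  have hpow : ∀ (m : ℕ) x, Φ ((B ^ m) x) = (ζ ^ m * (Φ x).1, (Φ x).2) := by
    intro m
    induction m with
    | zero => intro x; simp
    | succ m ih =>
      intro x
      rw [pow_succ, Module.End.mul_apply, ih, hB]
      refine Prod.ext ?_ rfl
      show ζ ^ m * (ζ * (Φ x).1) = _
      rw [← mul_assoc, ← pow_succ]
  refine ⟨B, orderOf ζ, hF.odd, ?_, ?_, ?_⟩
  · apply LinearMap.ext
    intro x
    apply Φ.injective
    rw [hpow, pow_orderOf_eq_one, one_mul]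
    rfl
  · intro h
    have h1 := hB (Φ.symm (1, 0))
    rw [h, Module.End.one_apply, LinearEquiv.apply_symm_apply] at h1
    have h2 := congrArg Prod.fst h1
    simp only [mul_one] at h2
    exact hF.ne_one h2.symm
  · intro x
    apply Φ.injective
    rw [hΦ, hB, hΦ, hB, map_mul, hF.inv, hF.tt]
    refine Prod.ext ?_ rfl
    show ζ⁻¹ * (ζ * (Φ x).1) = (Φ x).1
    rw [← mul_assoc, inv_mul_cancel₀ h0, one_mul]

end model

end Cfsg.Agent.H284.SK
end

-- part: H284/SK/PslA
section
/-!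
# S3010 (Sidki pairs), `K = PSL_n(q)`, `q` even: `O_2(C_G(⟨v, x⟩))` (helper284)

`v = s` an involution of `SL_n(F)`, `x = X`. `R0`: `O_2(C_G(⟨v, x⟩)) ∩ K = 1`. `outer`: some `w ∈ V` is a bilinear
polarity that commutes with `v`, `x` and all of `C_K(⟨v, x⟩)`.
-/

set_option autoImplicit false
set_option linter.unusedVariables false
set_option linter.unusedSectionVars false
set_option linter.style.haveILetI false

universe u

open Matrix Subgroup Cfsg
open Cfsg.Agent.H282.SK
open Cfsg.Agent.ClassicalGeometry.AutPSL.Root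
open Cfsg.Agent.ClassicalGeometry.AutPSL.Auto
open Cfsg.Agent.H199.PslAut

namespace Cfsg.Agent.H284.SK

variable {F : Type*} [Field F] [Finite F] [CharP F 2] {n : ℕ}
variable {G : Type u} [Group G] [Finite G] {V K : Subgroup G}

local notation "PSLn" => Matrix.ProjectiveSpecialLinearGroup (Fin n) F
local notation "SLn" => Matrix.SpecialLinearGroup (Fin n) F

theorem odd_of_pow {M : Type*} [Monoid M] {x : M} {m : ℕ} (hm : Odd m) (h : x ^ m = 1) : Odd (orderOf x) :=
  Odd.of_dvd_nat hm (orderOf_dvd_of_pow_eq_one h)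

/-- an involution of `K` lifts to an involution of `SL_n(F)` -/
theorem exists_lift (hn : 2 ≤ n) (y : PSLn) (hy : y * y = 1) : ∃ R : SLn, R * R = 1 ∧ pr R = y := by
  haveI : Nontrivial (Fin n) := Fin.nontrivial_iff_two_le.2 hn
  obtain ⟨Y, rfl⟩ := pr_surjective y
  have h1 : Psi n F (Y : GL (Fin n) F) * Psi n F (Y : GL (Fin n) F) = 1 := by
    rw [Psi_coe, ← map_mul, hy, map_one]
  obtain ⟨R, hR, hRY⟩ := exists_sl_of_sq hn _ h1
  refine ⟨R, hR, ?_⟩
  -- `R Y⁻¹` acts trivially, hence is scalar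
  have h2 : Psi n F (R : GL (Fin n) F) = Psi n F (Y : GL (Fin n) F) := hRY
  obtain ⟨u, hu⟩ := (Psi_eq_Psi_iff hn).1 h2
  have h3 : (R : Matrix (Fin n) (Fin n) F) = (u : F) • (Y : Matrix (Fin n) (Fin n) F) := by
    have h4 := congrArg (fun g : GL (Fin n) F => (g : Matrix (Fin n) (Fin n) F)) hu
    simp only [Units.val_mul, coe_scal] at h4
    rw [Matrix.scalar_apply, ← Matrix.smul_one_eq_diagonal, Matrix.smul_mul, one_mul] at h4
    exact h4
  exact (pr_eq_of_smul h3).symm

section R0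

variable {k c : ℕ} {L : Type} [Field L] [Algebra F L] {τ : L ≃ₐ[F] L} {ζ : L}

/-- `C_G(⟨v, x⟩)` -/
def CD (e : K ≃* PSLn) (s X : SLn) : Subgroup G :=
  centralizer ({el e (pr s)} : Set G) ⊓ centralizer ({el e (pr X)} : Set G)

theorem mem_CD {e : K ≃* PSLn} {s X : SLn} {g : G} :
    g ∈ CD e s X ↔ Commute g (el e (pr s)) ∧ Commute g (el e (pr X)) := by
  rw [CD, mem_inf, mem_centralizer_singleton_iff, mem_centralizer_singleton_iff]
  rfl

theorem comm_el {e : K ≃* PSLn} {Y Z : SLn} (h : Y * Z = Z * Y) : Commute (el e (pr Y)) (el e (pr Z)) := by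
  show _ * _ = _ * _
  rw [← map_mul, ← map_mul, ← map_mul, ← map_mul, h]

theorem el_mem_CD {e : K ≃* PSLn} {s X Y : SLn} (h1 : Y * s = s * Y) (h2 : Y * X = X * Y) :
    el e (pr Y) ∈ CD e s X := mem_CD.2 ⟨comm_el h1, comm_el h2⟩

/-- **No inner elements.** -/
theorem R0 (h : Cx V K) (e : K ≃* PSLn) (hn : 2 ≤ n) (hF : Fd F k L τ ζ)
    (Φ : (Fin n → F) ≃ₗ[F] (L × (Fin c → F))) {s : SLn}
    (hΦ : ∀ x, Φ ((s : Matrix (Fin n) (Fin n) F) *ᵥ x) = (τ (Φ x).1, (Φ x).2)) :
    ∀ r ∈ O2 (CD e s (hF.X Φ)), r ∈ K → r = 1 := by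
  haveI : Nonempty (Fin n) := ⟨⟨0, by omega⟩⟩
  apply O2_inf_of_invol
  intro r hr hrK hrr
  obtain ⟨y, rfl⟩ := exists_el e hrK
  have hyy : y * y = 1 := by
    apply el_injective e
    rw [map_mul, hrr, map_one]
  obtain ⟨R, hR, rfl⟩ := exists_lift hn y hyy
  set X := hF.X Φ with hX
  have hC := mem_CD.1 (O2_le _ hr)
  have hinv : R⁻¹ = R := by rw [inv_eq_iff_mul_eq_one]; exact hR
  have hRR : (R : Matrix (Fin n) (Fin n) F) * R = 1 := by
    rw [← Matrix.SpecialLinearGroup.coe_mul, hR, Matrix.SpecialLinearGroup.coe_one]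
  -- exactness
  have hcm : ∀ Y : SLn, Commute (el e (pr R)) (el e (pr Y)) → pr (MulAut.conj R Y) = pr Y := by
    intro Y hY
    apply el_injective e
    rw [MulAut.conj_apply, map_mul, map_mul, map_inv, map_mul, map_mul, map_inv, hY.eq, mul_inv_cancel_right]
  obtain ⟨h1, h2⟩ := exact_of_pr (MulAut.conj R) (hF.s_sq Φ hΦ) (hF.s_X_s Φ hΦ) (hcm _ hC.1) (hcm _ hC.2)
  rw [MulAut.conj_apply, mul_inv_eq_iff_eq_mul] at h1 h2
  -- blocks
  let A : (L × (Fin c → F)) →ₗ[F] (L × (Fin c → F)) :=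
    (Φ : (Fin n → F) →ₗ[F] (L × (Fin c → F))) ∘ₗ Matrix.toLin' (R : Matrix (Fin n) (Fin n) F) ∘ₗ
      (Φ.symm : (L × (Fin c → F)) →ₗ[F] (Fin n → F))
  have hA : ∀ x, Φ ((R : Matrix (Fin n) (Fin n) F) *ᵥ x) = A (Φ x) := by
    intro x
    show _ = Φ (Matrix.toLin' (R : Matrix (Fin n) (Fin n) F) (Φ.symm (Φ x)))
    rw [LinearEquiv.symm_apply_apply]
    rfl
  have hAX : ∀ p, A (Am F c ζ p) = Am F c ζ (A p) := by
    intro p
    obtain ⟨x, rfl⟩ := Φ.surjective p
    have h3 : Am F c ζ (Φ x) = Φ ((X : Matrix (Fin n) (Fin n) F) *ᵥ x) := (hF.X_mulVec Φ x).symm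
    have h4 : Am F c ζ (A (Φ x)) = Φ ((X : Matrix (Fin n) (Fin n) F) *ᵥ ((R : Matrix (Fin n) (Fin n) F) *ᵥ x)) := by
      rw [hF.X_mulVec, hA]; rfl
    rw [h3, h4, ← hA, ← sl_mul_mulVec, ← sl_mul_mulVec, h2]
  have hAA : ∀ p, A (A p) = p := by
    intro p
    obtain ⟨x, rfl⟩ := Φ.surjective p
    rw [← hA, ← hA, ← sl_mul_mulVec, hR, Matrix.SpecialLinearGroup.coe_one, one_mulVec]
  obtain ⟨u, B, hAB⟩ := hF.block A hAX
  have hu : u = 1 := by
    have h3 := hAA (1, 0)
    rw [hAB, hAB, one_mul] at h3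
    have h4 : u * u = 1 := congrArg Prod.fst h3
    haveI : CharP L 2 := charP_of_injective_algebraMap (algebraMap F L).injective 2
    exact eq_one_of_sq h4
  have hBB : ∀ z, B (B z) = z := by
    intro z
    have h3 := hAA (0, z)
    rw [hAB, hAB] at h3
    exact congrArg Prod.snd h3
  have hAB' : ∀ p, A p = Bm L B p := by
    rintro ⟨l, z⟩
    rw [hAB, hu, mul_one]; rfl
  by_cases hB1 : B = LinearMap.id
  · -- `R = 1`
    have h3 : R = 1 := by
      apply sl_ext' Φ
      intro x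
      rw [hA, hAB', hB1, Matrix.SpecialLinearGroup.coe_one, one_mulVec]
      rfl
    rw [h3, map_one, map_one]
  · exfalso
    obtain ⟨D, m, hm, hDm, hD1, hBD⟩ := exists_inv B hBB hB1
    have hdet : LinearMap.det (Bm L D) = 1 := by
      apply det_eq_one_of_inv (S := Bm L B)
      · intro p
        refine Prod.ext rfl ?_
        exact hBB _
      · intro p
        refine Prod.ext rfl ?_
        exact hBD _
    set Y := mkS Φ (Bm L D) hdet with hY
    have hYv : ∀ x, Φ ((Y : Matrix (Fin n) (Fin n) F) *ᵥ x) = ((Φ x).1, D (Φ x).2) :=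
      fun x => mkS_mulVec' Φ (Bm L D) hdet x
    have hpow : (Bm L D) ^ m = 1 := by
      have h3 : ∀ j, (Bm L D) ^ j = Bm L (D ^ j) := by
        intro j
        induction j with
        | zero =>
          rw [pow_zero, pow_zero]
          apply LinearMap.ext; intro p; simp
        | succ j ih =>
          rw [pow_succ, ih, pow_succ]
          apply LinearMap.ext; intro p
          rfl
      rw [h3, hDm]
      apply LinearMap.ext; intro p; simp
    have hYm : Y ^ m = 1 := mkS_pow_eq_one Φ _ _ hpow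
    have hYs : Y * s = s * Y := by
      apply sl_ext' Φ
      intro x
      rw [sl_mul_mulVec, sl_mul_mulVec, hYv, hΦ, hΦ, hYv]
    have hYX : Y * X = X * Y := by
      apply sl_ext' Φ
      intro x
      rw [sl_mul_mulVec, sl_mul_mulVec, hYv, hF.X_mulVec, hF.X_mulVec, hYv]
    have hRY : R * Y * R⁻¹ = Y⁻¹ := by
      rw [hinv, eq_inv_iff_mul_eq_one]
      apply sl_ext' Φ
      intro x
      rw [sl_mul_mulVec, sl_mul_mulVec, sl_mul_mulVec, hA, hYv, hA, hYv, hAB', hAB', Matrix.SpecialLinearGroup.coe_one,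
        one_mulVec]
      refine Prod.ext rfl ?_
      exact hBD _
    have hmem := el_mem_CD (e := e) hYs hYX
    have hodd : Odd (orderOf (el e (pr Y))) := odd_of_pow hm (by rw [← map_pow, ← map_pow, hYm, map_one, map_one])
    have hi : el e (pr R) * el e (pr Y) * (el e (pr R))⁻¹ = (el e (pr Y))⁻¹ := by
      rw [← map_inv, ← map_inv, ← map_mul, ← map_mul, ← map_mul, ← map_mul, hRY, map_inv, map_inv]
    have h5 := eq_one_of_inv hr hmem hodd hi
    have h6 : pr Y = 1 := el_injective e (by rw [h5, map_one])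
    have h7 : pr (1 : SLn) = pr Y := by rw [h6, map_one]
    obtain ⟨d, hd⟩ := exists_smul_of_pr_eq h7
    have h8 : ∀ x, Φ ((Y : Matrix (Fin n) (Fin n) F) *ᵥ x) = d • Φ x := by
      intro x
      rw [hd, Matrix.smul_mulVec, Matrix.SpecialLinearGroup.coe_one, one_mulVec, map_smul]
    have h9 : d = 1 := by
      have h10 := h8 (Φ.symm (1, 0))
      rw [hYv, LinearEquiv.apply_symm_apply] at h10
      have h11 := congrArg Prod.fst h10
      simp only [Prod.smul_mk] at h11
      rw [Algebra.smul_def, mul_one, ← map_one (algebraMap F L)] at h11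
      exact ((algebraMap F L).injective h11).symm
    apply hD1
    apply LinearMap.ext
    intro z
    have h10 := h8 (Φ.symm (0, z))
    rw [hYv, LinearEquiv.apply_symm_apply, h9, one_smul] at h10
    exact congrArg Prod.snd h10

end R0

end Cfsg.Agent.H284.SK
end

-- part: H284/SK/PslB
section
/-!
# S3010 (Sidki pairs), `K = PSL_n(q)`, `q` even: the outer element (helper284)

`outer`: if `v = s ∈ V` is an involution of `SL_n(F)`, then some `w ∈ V` is a bilinear polarity (`act w = Ψ(g) ι`, `g`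
symmetric) that commutes with `v`, `x` and all of `C_K(⟨v, x⟩)`.
-/

set_option autoImplicit false
set_option linter.unusedVariables false
set_option linter.unusedSectionVars false
set_option linter.style.haveILetI false

universe u

open Matrix Subgroup Cfsg
open Cfsg.Agent.H282.SK
open Cfsg.Agent.ClassicalGeometry.AutPSL.Root
open Cfsg.Agent.ClassicalGeometry.AutPSL.Auto
open Cfsg.Agent.H199.PslAut

namespace Cfsg.Agent.H284.SK

variable {F : Type*} [Field F] {n : ℕ}

local notation "PSLn" => Matrix.ProjectiveSpecialLinearGroup (Fin n) F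
local notation "SLn" => Matrix.SpecialLinearGroup (Fin n) F
local notation "Mn" => Matrix (Fin n) (Fin n) F

section rel

theorem phi_one : phi n F 1 = 1 := map_one _

theorem sq_semi (g : GL (Fin n) F) (σ : F ≃+* F) :
    (Psi n F g * phi n F σ) * (Psi n F g * phi n F σ) = Psi n F (g * mapGL σ g) * phi n F (σ * σ) := by
  calc (Psi n F g * phi n F σ) * (Psi n F g * phi n F σ) = Psi n F g * (phi n F σ * Psi n F g) * phi n F σ := by
        simp only [mul_assoc]
    _ = _ := by rw [phi_mul_Psi, map_mul, map_mul]; simp only [mul_assoc]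

theorem sq_pol (g : GL (Fin n) F) (σ : F ≃+* F) :
    (Psi n F g * phi n F σ * iot n F) * (Psi n F g * phi n F σ * iot n F) =
      Psi n F (g * mapGL σ (itGL g)) * phi n F (σ * σ) := by
  calc (Psi n F g * phi n F σ * iot n F) * (Psi n F g * phi n F σ * iot n F)
      = Psi n F g * phi n F σ * (iot n F * Psi n F g) * (phi n F σ * iot n F) := by
        simp only [mul_assoc]
    _ = Psi n F g * (phi n F σ * Psi n F (itGL g)) * (iot n F * phi n F σ) * iot n F := by
        rw [iot_mul_Psi]; simp only [mul_assoc]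
    _ = Psi n F g * Psi n F (mapGL σ (itGL g)) * phi n F σ * phi n F σ * (iot n F * iot n F) := by
        rw [iot_mul_phi, phi_mul_Psi]; simp only [mul_assoc]
    _ = _ := by rw [iot_mul_iot, mul_one, map_mul, map_mul]; simp only [mul_assoc]

end rel

section poly

variable {c : ℕ} {L : Type} [Field L] [Algebra F L]

/-- polynomials in a matrix acting as `(ξ, 1)` -/
theorem aeval_mulVec (Φ : (Fin n → F) ≃ₗ[F] (L × (Fin c → F))) {Z : Mn} {ξ : L}
    (hZ : ∀ x, Φ (Z *ᵥ x) = (ξ * (Φ x).1, (Φ x).2)) (q : Polynomial F) (x : Fin n → F) :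
    Φ ((Polynomial.aeval Z q) *ᵥ x) = (Polynomial.aeval ξ q * (Φ x).1, q.eval 1 • (Φ x).2) := by
  induction q using Polynomial.induction_on' generalizing x with
  | add p q hp hq =>
    rw [map_add, add_mulVec, map_add, hp, hq, map_add, Polynomial.eval_add, add_mul, add_smul]
    rfl
  | monomial m a =>
    have h1 : ∀ (m : ℕ) x, Φ ((Z ^ m) *ᵥ x) = (ξ ^ m * (Φ x).1, (Φ x).2) := by
      intro m
      induction m with
      | zero => intro x; simp
      | succ m ih =>
        intro x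
        rw [pow_succ, ← mulVec_mulVec, ih, hZ, pow_succ, mul_assoc]
    rw [Polynomial.aeval_monomial, Polynomial.aeval_monomial, Polynomial.eval_monomial, one_pow, mul_one,
      ← Algebra.smul_def, ← Algebra.smul_def, smul_mulVec, map_smul, h1, smul_mul_assoc]
    rfl

/-- semilinear maps and polynomials -/
theorem map_aeval (σ : F ≃+* F) (ρ : Mn →+ Mn) (hρ : ∀ (a : F) (A : Mn), ρ (a • A) = σ a • ρ A) {X Z : Mn}
    (hX : ∀ m : ℕ, ρ (X ^ m) = Z ^ m) (q : Polynomial F) :
    ρ (Polynomial.aeval X q) = Polynomial.aeval Z (q.map (σ : F →+* F)) := by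
  induction q using Polynomial.induction_on' with
  | add p q hp hq => rw [map_add, map_add, hp, hq, Polynomial.map_add, map_add]
  | monomial m a =>
    rw [Polynomial.map_monomial, Polynomial.aeval_monomial, Polynomial.aeval_monomial, ← Algebra.smul_def,
      ← Algebra.smul_def, hρ, hX]
    rfl

variable {k : ℕ} {τ : L ≃ₐ[F] L} {ζ : L}

/-- the minimal polynomial kills semilinear maps -/
theorem Fd.no_semi (hF : Fd F k L τ ζ) (Φ : (Fin n → F) ≃ₗ[F] (L × (Fin c → F))) (σ : F ≃+* F)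
    (hσ : σ * σ = 1) (hσ1 : σ ≠ 1) (ρ : Mn →+ Mn) (hρ : ∀ (a : F) (A : Mn), ρ (a • A) = σ a • ρ A) {X Z : Mn} {ξ : L}
    (hX : ∀ x, Φ (X *ᵥ x) = (ζ * (Φ x).1, (Φ x).2)) (hZ : ∀ x, Φ (Z *ᵥ x) = (ξ * (Φ x).1, (Φ x).2))
    (hξ : ξ = ζ ∨ ξ = τ ζ) (hXZ : ∀ m : ℕ, ρ (X ^ m) = Z ^ m) : False := by
  set p := minpoly F ζ with hp
  have h1 : Polynomial.aeval X (p * (Polynomial.X - 1)) = 0 := by
    apply Matrix.mulVec_injective
    funext x
    apply Φ.injective
    rw [aeval_mulVec Φ hX, map_mul, hp, minpoly.aeval, zero_mul, zero_mul, zero_mulVec, map_zero]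
    refine Prod.ext rfl ?_
    simp
  have h2 : Polynomial.aeval Z ((p * (Polynomial.X - 1)).map (σ : F →+* F)) = 0 := by
    rw [← map_aeval σ ρ hρ hXZ, h1, map_zero]
  have h3 := aeval_mulVec Φ hZ ((p * (Polynomial.X - 1)).map (σ : F →+* F)) (Φ.symm (1, 0))
  rw [h2, zero_mulVec, map_zero, LinearEquiv.apply_symm_apply] at h3
  have h4 := congrArg Prod.fst h3
  simp only [mul_one, Prod.fst_zero] at h4
  rw [Polynomial.map_mul, map_mul, Polynomial.map_sub, Polynomial.map_X, Polynomial.map_one, map_sub,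
    Polynomial.aeval_X, map_one] at h4
  have h5 := hF.mn σ hσ hσ1
  rcases hξ with rfl | rfl
  · rcases mul_eq_zero.1 h4.symm with h6 | h6
    · exact h5 h6
    · exact hF.sub_ne_zero h6
  · rcases mul_eq_zero.1 h4.symm with h6 | h6
    · apply h5
      apply τ.injective
      rw [map_zero, ← h6, ← AlgEquiv.coe_toAlgHom, ← Polynomial.aeval_algHom_apply]
    · apply hF.sub_ne_zero
      apply τ.injective
      rw [map_sub, map_one, map_zero, h6]

end poly

section outer

variable [Finite F] [CharP F 2]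
variable {G : Type u} [Group G] [Finite G] {V K : Subgroup G}
variable {k c : ℕ} {L : Type} [Field L] [Algebra F L] {τ : L ≃ₐ[F] L} {ζ : L}

theorem ne_one_of (hn : 2 ≤ n) {s : SLn} (hs : s * s = 1) (hs1 : s ≠ 1) : pr s ≠ 1 := by
  haveI : Nonempty (Fin n) := ⟨⟨0, by omega⟩⟩
  intro h
  have h7 : pr (1 : SLn) = pr s := by rw [h, map_one]
  obtain ⟨d, hd⟩ := exists_smul_of_pr_eq h7
  apply hs1
  have h8 : (s : Mn) * s = (d * d) • (1 : Mn) := by
    rw [hd, Matrix.SpecialLinearGroup.coe_one, smul_mul_assoc, mul_smul_comm, one_mul, smul_smul]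
  rw [← Matrix.SpecialLinearGroup.coe_mul, hs, Matrix.SpecialLinearGroup.coe_one] at h8
  have i : Fin n := Classical.arbitrary _
  have h3 := congrFun (congrFun h8 i) i
  rw [Matrix.smul_apply, one_apply_eq, smul_eq_mul, mul_one] at h3
  have h4 := eq_one_of_sq h3.symm
  apply Subtype.ext
  rw [h4, one_smul] at hd
  exact hd

/-- the data of the outer element -/
structure Pol (h : Cx V K) (e : K ≃* PSLn) (s X : SLn) (w : G) (g : GL (Fin n) F) : Prop where
  memV : w ∈ V
  three : 3 ≤ n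
  symm : (g : Mn)ᵀ = (g : Mn)
  act : act h e w = Psi n F g * iot n F
  fixs : cj g (itr s) = s
  fixX : cj g (itr X) = X
  fix : ∀ Y : SLn, Y * s = s * Y → Y * X = X * Y → ∃ d : F, (Y : Mn) = d • (cj g (itr Y) : Mn)

theorem outer (h : Cx V K) (e : K ≃* PSLn) (hn : 2 ≤ n) (hF : Fd F k L τ ζ)
    (Φ : (Fin n → F) ≃ₗ[F] (L × (Fin c → F))) {s : SLn} (hs1 : s ≠ 1)
    (hΦ : ∀ x, Φ ((s : Mn) *ᵥ x) = (τ (Φ x).1, (Φ x).2)) (hv : el e (pr s) ∈ V) :
    ∃ (w : G) (g : GL (Fin n) F), Pol h e s (hF.X Φ) w g := by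
  haveI : Nonempty (Fin n) := ⟨⟨0, by omega⟩⟩
  set X := hF.X Φ with hXd
  have hs : s * s = 1 := hF.s_sq Φ hΦ
  have hsX : s * X * s = X⁻¹ := hF.s_X_s Φ hΦ
  have hsi : s⁻¹ = s := by rw [inv_eq_iff_mul_eq_one]; exact hs
  have hv1 : el e (pr s) ≠ 1 := by
    intro h1
    exact ne_one_of hn hs hs1 (el_injective e (by rw [h1, map_one]))
  have hodd : Odd (orderOf (el e (pr X))) :=
    odd_of_pow hF.odd (by rw [← map_pow, ← map_pow, hXd, hF.X_pow, map_one, map_one])
  have hinv : el e (pr s) * el e (pr X) * (el e (pr s))⁻¹ = (el e (pr X))⁻¹ := by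
    rw [← map_inv, ← map_inv, ← map_mul, ← map_mul, ← map_mul, ← map_mul, hsi, hsX, map_inv, map_inv]
  obtain ⟨w, hwV, hw1, hwx, hwO⟩ := h.t1 hv hv1 hodd hinv
  have h0 := R0 h e hn hF Φ hΦ
  have hwK : w ∉ K := fun hK => hw1 (h0 w hwO hK)
  have hcomm : ∀ Y : SLn, Y * s = s * Y → Y * X = X * Y → act h e w (pr Y) = pr Y := by
    intro Y h1 h2
    rw [act_apply_eq_iff]
    exact comm_of_O2 h h0 hwO (el_mem_CD h1 h2) (el_mem e _)
  have hwv : Commute w (el e (pr s)) := h.comm hwV hv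
  have hfs : act h e w (pr s) = pr s := (act_apply_eq_iff h e).2 hwv
  have hfX : act h e w (pr X) = pr X := (act_apply_eq_iff h e).2 hwx
  have hsq : act h e w * act h e w = 1 := by rw [← map_mul, h.sq hwV, map_one]
  have hXm : ∀ x, Φ ((X : Mn) *ᵥ x) = (ζ * (Φ x).1, (Φ x).2) := hF.X_mulVec Φ
  haveI : Fintype F := Fintype.ofFinite F
  rcases exists_form hn (act h e w) with ⟨g, σ, hα⟩ | ⟨h3, g, σ, hα⟩
  · -- semilinear
    exfalso
    rw [hα, sq_semi] at hsq
    obtain ⟨-, hσ⟩ := Psi_phi_eq (τ := 1) hn (by rw [hsq, phi_one])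
    by_cases hσ1 : σ = 1
    · subst hσ1
      rw [phi_one, mul_one] at hα
      have h4 : Psi n F g * Psi n F g = 1 := by rw [← hα, ← map_mul, h.sq hwV, map_one]
      obtain ⟨R, hR, hRg⟩ := exists_sl_of_sq hn g h4
      have h5 : act h e w = act h e (el e (pr R)) := by rw [hα, ← hRg, Psi_coe, act_el']
      have h6 := act_injective h e h5
      exact hwK (h6 ▸ el_mem e _)
    · have hψ : ∀ Y : SLn, act h e w (pr Y) = pr ((cj g * fld σ : MulAut SLn) Y) := by
        intro Y; rw [hα]; rfl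
      obtain ⟨-, hX2⟩ := exact_of_pr (cj g * fld σ : MulAut SLn) hs hsX (by rw [← hψ, hfs]) (by rw [← hψ, hfX])
      let ρ : Mn →+ Mn :=
        { toFun := fun A => (g : Mn) * A.map σ * ((g⁻¹ : GL (Fin n) F) : Mn)
          map_zero' := by
            rw [Matrix.map_zero _ (map_zero σ), mul_zero, zero_mul]
          map_add' := by
            intro A B
            rw [Matrix.map_add _ (map_add σ), mul_add, add_mul] }
      have hρ : ∀ (a : F) (A : Mn), ρ (a • A) = σ a • ρ A := by
        intro a A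
        show (g : Mn) * (a • A).map σ * _ = σ a • ((g : Mn) * A.map σ * _)
        have : (a • A).map σ = σ a • A.map σ := by
          ext i j; simp
        rw [this, mul_smul_comm, smul_mul_assoc]
      have hρX : ∀ m : ℕ, ρ ((X : Mn) ^ m) = (X : Mn) ^ m := by
        intro m
        have h5 : (cj g * fld σ : MulAut SLn) (X ^ m) = X ^ m := by rw [map_pow, hX2]
        have h6 := congrArg (fun Y : SLn => (Y : Mn)) h5
        simp only [Matrix.SpecialLinearGroup.coe_pow] at h6
        refine Eq.trans ?_ h6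
        show (g : Mn) * ((X : Mn) ^ m).map σ * _ = (g : Mn) * (((X ^ m : SLn) : Mn)).map σ * _
        rw [Matrix.SpecialLinearGroup.coe_pow]
      exact hF.no_semi Φ σ hσ hσ1 ρ hρ hXm hXm (Or.inl rfl) hρX
  · -- polarity
    rw [hα, sq_pol] at hsq
    obtain ⟨⟨u, hu⟩, hσ⟩ := Psi_phi_eq (τ := 1) hn (by rw [hsq, phi_one])
    have hψ : ∀ Y : SLn, act h e w (pr Y) = pr ((cj g * fld σ * itr : MulAut SLn) Y) := by
      intro Y; rw [hα]; rfl
    obtain ⟨hs2, hX2⟩ := exact_of_pr (cj g * fld σ * itr : MulAut SLn) hs hsX (by rw [← hψ, hfs]) (by rw [← hψ, hfX])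
    by_cases hσ1 : σ = 1
    · subst hσ1
      have hf1 : (fld 1 : MulAut SLn) = 1 := map_one _
      rw [hf1, mul_one] at hψ hs2 hX2
      rw [phi_one, mul_one] at hα
      have hsym : (g : Mn)ᵀ = (g : Mn) := by
        have h5 : mapGL (1 : F ≃+* F) (itGL g) = itGL g := by
          apply Units.ext
          rw [coe_mapGL]
          ext i j; rfl
        rw [h5] at hu
        have h6 := congrArg (fun y : GL (Fin n) F => (y : Mn)) hu
        simp only [Units.val_mul, coe_itGL, coe_scal] at h6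
        -- `g g^{-T} = u`
        have h7 : (g : Mn) = (u : F) • (g : Mn)ᵀ := by
          have h8 : (g : Mn) * (((g⁻¹ : GL (Fin n) F) : Mn)ᵀ * (g : Mn)ᵀ) = (u : F) • (g : Mn)ᵀ := by
            rw [← mul_assoc, h6, Matrix.scalar_apply, ← Matrix.smul_one_eq_diagonal, Matrix.smul_mul, one_mul]
          rwa [← transpose_mul, ← Units.val_mul, mul_inv_cancel, Units.val_one, transpose_one, mul_one] at h8
        have h8 : (g : Mn) = ((u : F) * u) • (g : Mn) := by
          nth_rw 1 [h7]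
          nth_rw 1 [h7]
          rw [transpose_smul, transpose_transpose, smul_smul]
        have h9 : (u : F) * u = 1 := by
          have h10 : (1 : Mn) = ((u : F) * u) • (1 : Mn) := by
            have h11 := congrArg (fun A : Mn => A * ((g⁻¹ : GL (Fin n) F) : Mn)) h8
            simp only [smul_mul_assoc] at h11
            rwa [← Units.val_mul, mul_inv_cancel, Units.val_one] at h11
          have i : Fin n := Classical.arbitrary _
          have h11 := congrFun (congrFun h10 i) i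
          rw [Matrix.smul_apply, one_apply_eq, smul_eq_mul, mul_one] at h11
          exact h11.symm
        have h10 := eq_one_of_sq h9
        rw [h10, one_smul] at h7
        exact h7.symm
      refine ⟨w, g, ⟨hwV, h3, hsym, hα, hs2, hX2, ?_⟩⟩
      intro Y h5 h6
      have h7 := hcomm Y h5 h6
      rw [hψ] at h7
      exact exists_smul_of_pr_eq h7
    · exfalso
      let ρ : Mn →+ Mn :=
        { toFun := fun A => (g : Mn) * (A.map σ)ᵀ * ((g⁻¹ : GL (Fin n) F) : Mn)
          map_zero' := by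
            rw [Matrix.map_zero _ (map_zero σ), transpose_zero, mul_zero, zero_mul]
          map_add' := by
            intro A B
            rw [Matrix.map_add _ (map_add σ), transpose_add, mul_add, add_mul] }
      have hρ : ∀ (a : F) (A : Mn), ρ (a • A) = σ a • ρ A := by
        intro a A
        show (g : Mn) * ((a • A).map σ)ᵀ * _ = σ a • ((g : Mn) * (A.map σ)ᵀ * _)
        have : (a • A).map σ = σ a • A.map σ := by
          ext i j; simp
        rw [this, transpose_smul, mul_smul_comm, smul_mul_assoc]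
      have hρX : ∀ m : ℕ, ρ ((X : Mn) ^ m) = ((X⁻¹ : SLn) : Mn) ^ m := by
        intro m
        have h5 : (cj g * fld σ * itr : MulAut SLn) ((X⁻¹) ^ m) = (X⁻¹) ^ m := by rw [map_pow, map_inv, hX2]
        have h6 := congrArg (fun Y : SLn => (Y : Mn)) h5
        simp only [Matrix.SpecialLinearGroup.coe_pow] at h6
        rw [← h6]
        show (g : Mn) * (((X : Mn) ^ m).map σ)ᵀ * _ = (g : Mn) * ((itr (X⁻¹ ^ m) : SLn) : Mn).map σ * _
        rw [coe_itr, inv_pow, inv_inv, Matrix.SpecialLinearGroup.coe_pow]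
        rfl
      have hZ : ∀ x, Φ (((X⁻¹ : SLn) : Mn) *ᵥ x) = (τ ζ * (Φ x).1, (Φ x).2) := by
        intro x
        rw [← hsX, sl_mul_mulVec, sl_mul_mulVec, hΦ, hXm, hΦ, map_mul, hF.tt]
      exact hF.no_semi Φ σ hσ hσ1 ρ hρ hXm hZ (Or.inr rfl) hρX

end outer

end Cfsg.Agent.H284.SK
end

-- part: H284/SK/PslC
section
/-!
# S3010 (Sidki pairs), `K = PSL_n(q)`, `q` even: the bilinear form of the outer element (helper284)
-/

set_option autoImplicit false
set_option linter.unusedVariables false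
set_option linter.unusedSectionVars false
set_option linter.style.haveILetI false

universe u

open Matrix Subgroup Cfsg
open Cfsg.Agent.H282.SK
open Cfsg.Agent.ClassicalGeometry.AutPSL.Root
open Cfsg.Agent.ClassicalGeometry.AutPSL.Auto
open Cfsg.Agent.H199.PslAut

namespace Cfsg.Agent.H284.SK

variable {F : Type*} [Field F] {n : ℕ}

local notation "PSLn" => Matrix.ProjectiveSpecialLinearGroup (Fin n) F
local notation "SLn" => Matrix.SpecialLinearGroup (Fin n) F
local notation "Mn" => Matrix (Fin n) (Fin n) F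

section BF

variable {k c : ℕ} {L : Type} [Field L] [Algebra F L]

/-- a symmetric nondegenerate form on `L × F^c` invariant under `(ζ, 1)` and `(τ, 1)` -/
structure BF (c : ℕ) (τ : L ≃ₐ[F] L) (ζ : L) (b : LinearMap.BilinForm F (L × (Fin c → F))) : Prop where
  symm : ∀ p q, b p q = b q p
  nd : ∀ p, (∀ q, b p q = 0) → p = 0
  invX : ∀ p q, b (Am F c ζ p) (Am F c ζ q) = b p q
  invT : ∀ p q, b (Tm F c τ p) (Tm F c τ q) = b p q

variable {τ : L ≃ₐ[F] L} {ζ : L} {b : LinearMap.BilinForm F (L × (Fin c → F))}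

theorem BF.orth (hb : BF c τ ζ b) (hF : Fd F k L τ ζ) (l : L) (z : Fin c → F) : b (l, 0) (0, z) = 0 := by
  have h1 := hb.invX (l / (ζ - 1), 0) (0, z)
  simp only [Am_apply, mul_zero] at h1
  have h2 : b ((l, 0) : L × (Fin c → F)) (0, z) = b (ζ * (l / (ζ - 1)), 0) (0, z) - b (l / (ζ - 1), 0) (0, z) := by
    rw [← LinearMap.sub_apply, ← map_sub]
    congr 2
    refine Prod.ext ?_ (by simp)
    show l = ζ * (l / (ζ - 1)) - l / (ζ - 1)
    have h4 := hF.sub_ne_zero
    field_simp
  rw [h2, h1, sub_self]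

theorem BF.orth' (hb : BF c τ ζ b) (hF : Fd F k L τ ζ) (l : L) (z : Fin c → F) : b (0, z) (l, 0) = 0 := by
  rw [hb.symm, hb.orth hF]

/-- the adjoint of `a ∈ L` is `τ a` -/
theorem BF.adj (hb : BF c τ ζ b) (hF : Fd F k L τ ζ) (a l l' : L) :
    b (a * l, 0) (l', 0) = b (l, 0) (τ a * l', 0) := by
  let S : Subalgebra F L :=
    { carrier := {a | ∀ l l' : L, b (a * l, 0) (l', 0) = b (l, 0) (τ a * l', 0)}
      mul_mem' := by
        intro x y hx hy l l'
        have h1 := hx (y * l) l'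
        have h2 := hy l (τ x * l')
        rw [mul_assoc, h1, h2, map_mul, ← mul_assoc, mul_comm (τ y)]
      add_mem' := by
        intro x y hx hy l l'
        have h3 : (((x + y) * l, 0) : L × (Fin c → F)) = (x * l, 0) + (y * l, 0) := by
          refine Prod.ext ?_ (by simp)
          show (x + y) * l = x * l + y * l
          ring
        have h4 : ((τ (x + y) * l', 0) : L × (Fin c → F)) = (τ x * l', 0) + (τ y * l', 0) := by
          refine Prod.ext ?_ (by simp)
          show τ (x + y) * l' = τ x * l' + τ y * l'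
          rw [map_add]; ring
        have h1 := hx l l'
        have h2 := hy l l'
        rw [h3, h4, map_add, map_add, LinearMap.add_apply, h1, h2]
      algebraMap_mem' := by
        intro r l l'
        have h3 : ((algebraMap F L r * l, 0) : L × (Fin c → F)) = r • (l, 0) := by
          refine Prod.ext ?_ (by simp)
          show algebraMap F L r * l = r • l
          rw [Algebra.smul_def]
        have h4 : ((τ (algebraMap F L r) * l', 0) : L × (Fin c → F)) = r • (l', 0) := by
          refine Prod.ext ?_ (by simp)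
          show τ (algebraMap F L r) * l' = r • l'
          rw [AlgEquiv.commutes, Algebra.smul_def]
        rw [h3, h4, map_smul, map_smul, LinearMap.smul_apply] }
  have hζ : ζ ∈ S := by
    intro l l'
    have h1 := hb.invX (l, 0) (τ ζ * l', 0)
    simp only [Am_apply] at h1
    rw [← h1, hF.inv, ← mul_assoc, mul_inv_cancel₀ hF.zeta_ne_zero, one_mul]
  exact hF.induct S hζ a l l'

theorem BF.ndL (hb : BF c τ ζ b) (hF : Fd F k L τ ζ) {l : L} (h : ∀ l', b (l, 0) (l', 0) = 0) : l = 0 := by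
  have h1 : ((l, 0) : L × (Fin c → F)) = 0 := by
    apply hb.nd
    rintro ⟨l', z⟩
    have h2 : ((l', z) : L × (Fin c → F)) = (l', 0) + (0, z) := by simp
    rw [h2, map_add, h, hb.orth hF, add_zero]
  exact congrArg Prod.fst h1

theorem BF.ndC (hb : BF c τ ζ b) (hF : Fd F k L τ ζ) {z : Fin c → F} (h : ∀ z', b (0, z) (0, z') = 0) : z = 0 := by
  have h1 : ((0, z) : L × (Fin c → F)) = 0 := by
    apply hb.nd
    rintro ⟨l', z'⟩
    have h2 : ((l', z') : L × (Fin c → F)) = (l', 0) + (0, z') := by simp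
    rw [h2, map_add, h, hb.orth' hF, add_zero]
  exact congrArg Prod.snd h1

/-- `e ∈ L` with `τ e = e` that is a similitude on `L` lies in `F` -/
theorem BF.no_e [Finite F] [CharP F 2] (hb : BF c τ ζ b) (hF : Fd F k L τ ζ) {e : L} (he : τ e = e) {d : F}
    (h : ∀ l l', b (e * l, 0) (e * l', 0) = d * b (l, 0) (l', 0)) : ∃ r : F, e = algebraMap F L r := by
  haveI : Fintype F := Fintype.ofFinite F
  have h1 : e * e = algebraMap F L d := by
    have h2 : e * e - algebraMap F L d = 0 := by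
      apply hb.ndL hF
      intro l'
      have h3 := h 1 l'
      rw [mul_one] at h3
      have h4 : b (e * e, 0) (l', 0) = b (e, 0) (e * l', 0) := by
        rw [hb.adj hF, he]
      have h5 : ((e * e - algebraMap F L d, 0) : L × (Fin c → F)) = (e * e, 0) - d • (1, 0) := by
        refine Prod.ext ?_ (by simp)
        show e * e - algebraMap F L d = e * e - d • (1 : L)
        rw [Algebra.smul_def, mul_one]
      rw [h5, map_sub, map_smul, LinearMap.sub_apply, LinearMap.smul_apply, h4, h3, smul_eq_mul, sub_self]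
    exact sub_eq_zero.1 h2
  have hch : ringChar F = 2 := ringChar.eq F 2
  obtain ⟨t, ht⟩ := FiniteField.isSquare_of_char_two hch d
  refine ⟨t, ?_⟩
  haveI : CharP L 2 := charP_of_injective_algebraMap (algebraMap F L).injective 2
  have h2 : (2 : L) = 0 := CharTwo.two_eq_zero
  have h3 : (e - algebraMap F L t) * (e - algebraMap F L t) = 0 := by
    rw [ht, map_mul] at h1
    linear_combination h1 - (algebraMap F L t) * (e - algebraMap F L t) * h2
  rcases mul_eq_zero.1 h3 with h4 | h4 <;> exact sub_eq_zero.1 h4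

/-- no transvection group: dimension at least 3 -/
theorem BF.no_tr (hb : BF c τ ζ b) (hF : Fd F k L τ ζ) (hc : 3 ≤ c)
    (h : ∀ (ψ : (Fin c → F) →ₗ[F] F) (a : Fin c → F), ψ a = 0 →
      ∃ d : F, ∀ p q, b (p.1, p.2 + ψ p.2 • a) (q.1, q.2 + ψ q.2 • a) = d * b p q) : False := by
  -- a vector and one that is not orthogonal to it
  let a : Fin c → F := Pi.single ⟨0, by omega⟩ 1
  have ha : a ≠ 0 := by
    intro h0
    have := congrFun h0 ⟨0, by omega⟩
    simp [a] at this
  obtain ⟨m, hm⟩ : ∃ m, b (0, a) (0, m) ≠ 0 := by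
    by_contra hcon
    push Not at hcon
    exact ha (hb.ndC hF hcon)
  -- a functional vanishing on both
  have hlt : Submodule.span F {a, m} < ⊤ := by
    rw [lt_top_iff_ne_top]
    intro htop
    have h1 : Module.finrank F (Submodule.span F {a, m}) = c := by rw [htop, finrank_top, Module.finrank_fin_fun]
    have h2 : Module.finrank F (Submodule.span F ({a, m} : Set (Fin c → F))) ≤ 2 := by
      classical
      have h3 := finrank_span_finset_le_card (R := F) ({a, m} : Finset (Fin c → F))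
      rw [Finset.coe_insert, Finset.coe_singleton] at h3
      exact h3.trans Finset.card_le_two
    omega
  obtain ⟨ψ, hψ0, hψ⟩ := Submodule.exists_le_ker_of_lt_top _ hlt
  have hψa : ψ a = 0 := hψ (Submodule.subset_span (by simp))
  have hψm : ψ m = 0 := hψ (Submodule.subset_span (by simp))
  obtain ⟨z, hz⟩ : ∃ z, ψ z ≠ 0 := by
    by_contra hcon
    push Not at hcon
    exact hψ0 (LinearMap.ext hcon)
  obtain ⟨d, hd⟩ := h ψ a hψa
  -- `d = 1`
  have hL : ∃ l : L, b (1, 0) (l, 0) ≠ 0 := by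
    by_contra hcon
    push Not at hcon
    exact one_ne_zero (hb.ndL hF hcon)
  obtain ⟨l, hl⟩ := hL
  have hd1 : d = 1 := by
    have h1 := hd (1, 0) (l, 0)
    simp only [map_zero, zero_smul, add_zero] at h1
    exact mul_right_cancel₀ hl (by rw [one_mul]; exact h1.symm)
  have h1 := hd (0, m) (0, z)
  simp only [hψm, zero_smul, add_zero, hd1, one_mul] at h1
  have h2 : ((0, z + ψ z • a) : L × (Fin c → F)) = (0, z) + ψ z • (0, a) := by
    refine Prod.ext (by simp) rfl
  rw [h2, map_add, map_smul, add_eq_left, smul_eq_mul] at h1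
  rcases mul_eq_zero.1 h1 with h3 | h3
  · exact hz h3
  · rw [hb.symm] at h3; exact hm h3

/-- no scalars -/
theorem BF.no_sc [CharP F 2] (hb : BF c τ ζ b) (hF : Fd F k L τ ζ) (hc : 1 ≤ c) {r d : F} (hr : r ≠ 0) (hr1 : r ≠ 1)
    (h : ∀ p q, b (r⁻¹ • p.1, r • p.2) (r⁻¹ • q.1, r • q.2) = d * b p q) : False := by
  have hL : ∃ l : L, b (1, 0) (l, 0) ≠ 0 := by
    by_contra hcon
    push Not at hcon
    exact one_ne_zero (hb.ndL hF hcon)
  obtain ⟨l, hl⟩ := hL
  let a : Fin c → F := Pi.single ⟨0, by omega⟩ 1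
  have ha : a ≠ 0 := by
    intro h0
    have := congrFun h0 ⟨0, by omega⟩
    simp [a] at this
  obtain ⟨m, hm⟩ : ∃ m, b (0, a) (0, m) ≠ 0 := by
    by_contra hcon
    push Not at hcon
    exact ha (hb.ndC hF hcon)
  have h1 := h (1, 0) (l, 0)
  have h2 := h (0, a) (0, m)
  have e1 : ∀ x : L, ((r⁻¹ • x, r • (0 : Fin c → F)) : L × (Fin c → F)) = r⁻¹ • (x, 0) := by
    intro x; simp
  have e2 : ∀ x : Fin c → F, ((r⁻¹ • (0 : L), r • x) : L × (Fin c → F)) = r • (0, x) := by
    intro x; simp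
  simp only at h1 h2
  rw [e1, e1, map_smul, map_smul, LinearMap.smul_apply, smul_smul, smul_eq_mul] at h1
  rw [e2, e2, map_smul, map_smul, LinearMap.smul_apply, smul_smul, smul_eq_mul] at h2
  have h3 := mul_right_cancel₀ hl h1
  have h4 := mul_right_cancel₀ hm h2
  have h5 : r * r = r⁻¹ * r⁻¹ := by rw [h3, h4]
  have h6 : (r * r) * (r * r) = 1 := by
    nth_rw 1 [h5]
    field_simp
  exact hr1 (eq_one_of_sq (eq_one_of_sq h6))

end BF

section IV

variable {L : Type} [Field L] [Algebra F L] {τ : L ≃ₐ[F] L} {ζ : L} [CharP F 2]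

/-- fixed points of `τ` for `k = 1` -/
theorem Fd.fixed (hF : Fd F 1 L τ ζ) {l : L} (hl : τ l = l) : ∃ r : F, l = algebraMap F L r := by
  have h1 := hF.kr
  have h2 : (1 : L) ∈ LinearMap.ker (τ.toLinearMap - LinearMap.id) := by
    rw [LinearMap.mem_ker, LinearMap.sub_apply]
    show τ 1 - 1 = 0
    rw [map_one, sub_self]
  have h3 : l ∈ LinearMap.ker (τ.toLinearMap - LinearMap.id) := by
    rw [LinearMap.mem_ker, LinearMap.sub_apply]
    show τ l - l = 0
    rw [hl, sub_self]
  obtain ⟨r, hr⟩ := (finrank_eq_one_iff_of_nonzero' (⟨1, h2⟩ : LinearMap.ker (τ.toLinearMap - LinearMap.id))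
    (fun h => one_ne_zero (congrArg Subtype.val h))).1 h1 ⟨l, h3⟩
  refine ⟨r, ?_⟩
  have h4 : r • (1 : L) = l := congrArg Subtype.val hr
  rw [← h4, Algebra.smul_def, mul_one]

/-- the trace -/
theorem Fd.exists_tr (hF : Fd F 1 L τ ζ) : ∃ t : L →ₗ[F] F, (∀ l, algebraMap F L (t l) = l + τ l) := by
  have h1 : ∀ l, ∃ r : F, l + τ l = algebraMap F L r := fun l => hF.fixed (by rw [map_add, hF.tt, add_comm])
  choose f hf using h1
  refine ⟨{ toFun := f, map_add' := ?_, map_smul' := ?_ }, fun l => (hf l).symm⟩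
  · intro x y
    apply (algebraMap F L).injective
    rw [map_add, ← hf, ← hf, ← hf, map_add]
    ring
  · intro r x
    apply (algebraMap F L).injective
    show _ = algebraMap F L (r * f x)
    rw [map_mul, ← hf, ← hf, map_smul, Algebra.smul_def, Algebra.smul_def]
    ring

theorem Fd.tr_zeta (hF : Fd F 1 L τ ζ) {t : L →ₗ[F] F} (ht : ∀ l, algebraMap F L (t l) = l + τ l) : t ζ ≠ 0 := by
  intro h
  have h1 := ht ζ
  haveI : CharP L 2 := charP_of_injective_algebraMap (algebraMap F L).injective 2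
  rw [h, map_zero, hF.inv] at h1
  have h2 : ζ = ζ⁻¹ := by
    have h3 : ζ + ζ⁻¹ = 0 := h1.symm
    rw [← CharTwo.sub_eq_add, sub_eq_zero] at h3
    exact h3
  exact hF.ne_one (eq_one_of_eq_inv hF.zeta_ne_zero h2)

theorem Fd.tr_F (hF : Fd F 1 L τ ζ) {t : L →ₗ[F] F} (ht : ∀ l, algebraMap F L (t l) = l + τ l) (r : F) :
    t (algebraMap F L r) = 0 := by
  apply (algebraMap F L).injective
  haveI : CharP L 2 := charP_of_injective_algebraMap (algebraMap F L).injective 2
  rw [ht, AlgEquiv.commutes, map_zero, CharTwo.add_self_eq_zero]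

/-- the form on `L` for `k = 1` -/
theorem BF.form {c : ℕ} {b : LinearMap.BilinForm F (L × (Fin c → F))} (hb : BF c τ ζ b) (hF : Fd F 1 L τ ζ)
    {t : L →ₗ[F] F} (ht : ∀ l, algebraMap F L (t l) = l + τ l) :
    ∃ μ : F, μ ≠ 0 ∧ ∀ l l', b (l, 0) (l', 0) = μ * t (τ l' * l) := by
  haveI : CharP L 2 := charP_of_injective_algebraMap (algebraMap F L).injective 2
  set lam : L → F := fun l => b (l, 0) (1, 0) with hlam
  have h1 : ∀ l l', b (l, 0) (l', 0) = lam (τ l' * l) := by
    intro l l'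
    rw [hlam]
    show _ = b (τ l' * l, 0) (1, 0)
    rw [hb.adj hF, hF.tt, mul_one]
  have h2 : ∀ l, lam (τ l) = lam l := by
    intro l
    have h3 := hb.invT (l, 0) (1, 0)
    simp only [Tm_apply, map_one] at h3
    exact h3
  have hadd : ∀ l l', lam (l + l') = lam l + lam l' := by
    intro l l'
    show b (l + l', 0) (1, 0) = _
    have : ((l + l', 0) : L × (Fin c → F)) = (l, 0) + (l', 0) := by simp
    rw [this, map_add]; rfl
  have hsm : ∀ (r : F) l, lam (r • l) = r * lam l := by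
    intro r l
    show b (r • l, 0) (1, 0) = _
    have : ((r • l, 0) : L × (Fin c → F)) = r • (l, 0) := by simp
    rw [this, map_smul]; rfl
  have h3 : ∀ l, lam (l + τ l) = 0 := by
    intro l
    rw [hadd, h2, CharTwo.add_self_eq_zero]
  have h4 : ∀ l, t l * lam 1 = 0 := by
    intro l
    rw [← hsm, Algebra.smul_def, mul_one, ht, h3]
  have h5 : lam 1 = 0 := (mul_eq_zero.1 (h4 ζ)).resolve_left (hF.tr_zeta ht)
  have h6 : ∀ r : F, lam (algebraMap F L r) = 0 := by
    intro r
    have : algebraMap F L r = r • (1 : L) := by rw [Algebra.smul_def, mul_one]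
    rw [this, hsm, h5, mul_zero]
  have htz := hF.tr_zeta ht
  have h7 : ∀ l, lam l = (lam ζ / t ζ) * t l := by
    intro l
    have h8 : τ (l - (t l / t ζ) • ζ) = l - (t l / t ζ) • ζ := by
      have h9 : (l - (t l / t ζ) • ζ) + τ (l - (t l / t ζ) • ζ) = 0 := by
        rw [← ht, map_sub, map_smul, smul_eq_mul, div_mul_cancel₀ _ htz, sub_self, map_zero]
      rw [← CharTwo.sub_eq_add, sub_eq_zero] at h9
      exact h9.symm
    obtain ⟨r, hr⟩ := hF.fixed h8
    have h9 : l = algebraMap F L r + (t l / t ζ) • ζ := by rw [← hr]; ring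
    have h10 : lam l = lam (algebraMap F L r + (t l / t ζ) • ζ) := congrArg lam h9
    rw [h10, hadd, h6, zero_add, hsm]
    field_simp
  refine ⟨lam ζ / t ζ, ?_, fun l l' => by rw [h1, h7]⟩
  intro h0
  have h11 : ∀ l', b ((1 : L), (0 : Fin c → F)) (l', 0) = 0 := by
    intro l'
    rw [h1, h7, h0, zero_mul]
  exact one_ne_zero (hb.ndL hF h11)

/-- **The case `n = 3`.** -/
theorem no_three (hF : Fd F 1 L τ ζ) {b₁ b₂ : LinearMap.BilinForm F (L × (Fin 1 → F))} (hb₁ : BF 1 τ ζ b₁)
    (hb₂ : BF 1 τ ζ b₂) (T : (L × (Fin 1 → F)) →ₗ[F] (L × (Fin 1 → F))) {u : F} (hT : ∀ p, T (T p) = u • p)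
    (h : ∀ p q, b₂ (p.1 + algebraMap F L (p.2 0), p.2) (q.1 + algebraMap F L (q.2 0), q.2) = b₁ (T p) q) : False := by
  haveI : CharP L 2 := charP_of_injective_algebraMap (algebraMap F L).injective 2
  obtain ⟨t, ht⟩ := hF.exists_tr
  obtain ⟨μ₁, hμ₁, hf₁⟩ := hb₁.form hF ht
  obtain ⟨μ₂, hμ₂, hf₂⟩ := hb₂.form hF ht
  have htz := hF.tr_zeta ht
  have htτ : ∀ l, t (τ l) = t l := by
    intro l
    apply (algebraMap F L).injective
    rw [ht, ht, hF.tt, add_comm]
  set o : Fin 1 → F := fun _ => 1 with ho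
  have hz : ∀ z : Fin 1 → F, z = z 0 • o := by
    intro z
    funext i
    rw [Subsingleton.elim i 0]
    simp [ho]
  set β := b₁ (0, o) (0, o) with hβ
  have hβ0 : β ≠ 0 := by
    intro h0
    have h1 : o = 0 := by
      apply hb₁.ndC hF
      intro z'
      rw [hz z']
      have : ((0, z' 0 • o) : L × (Fin 1 → F)) = z' 0 • (0, o) := by simp
      rw [this, map_smul, ← hβ, h0, smul_zero]
    have h2 := congrFun h1 0
    simp [ho] at h2
  -- expansion of the forms
  have hexp₁ : ∀ (l : L) (r : F) (l' : L) (z : Fin 1 → F),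
      b₁ (l, r • o) (l', z) = μ₁ * t (τ l' * l) + r * z 0 * β := by
    intro l r l' z
    have e1 : ((l, r • o) : L × (Fin 1 → F)) = (l, 0) + r • (0, o) := by simp
    have e2 : ((l', z) : L × (Fin 1 → F)) = (l', 0) + z 0 • (0, o) := by
      refine Prod.ext (by simp) ?_
      show z = 0 + z 0 • o
      rw [zero_add]; exact hz z
    rw [e1, e2]
    simp only [map_add, map_smul, LinearMap.add_apply, LinearMap.smul_apply, hf₁, hb₁.orth hF, hb₁.orth' hF,
      ← hβ, smul_eq_mul]
    ring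
  set γ := b₂ (0, o) (0, o) with hγ
  have hexp₂ : ∀ (l : L) (r : F) (l' : L) (z : Fin 1 → F),
      b₂ (l, r • o) (l', z) = μ₂ * t (τ l' * l) + r * z 0 * γ := by
    intro l r l' z
    have e1 : ((l, r • o) : L × (Fin 1 → F)) = (l, 0) + r • (0, o) := by simp
    have e2 : ((l', z) : L × (Fin 1 → F)) = (l', 0) + z 0 • (0, o) := by
      refine Prod.ext (by simp) ?_
      show z = 0 + z 0 • o
      rw [zero_add]; exact hz z
    rw [e1, e2]
    simp only [map_add, map_smul, LinearMap.add_apply, LinearMap.smul_apply, hf₂, hb₂.orth hF, hb₂.orth' hF,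
      ← hγ, smul_eq_mul]
    ring
  -- from the form to `T`
  have huniq : ∀ (p : L × (Fin 1 → F)) (l : L) (r : F), (∀ (l' : L) (z : Fin 1 → F), b₁ (T p) (l', z) = b₁ (l, r • o) (l', z)) → T p = (l, r • o) := by
    intro p l r hh
    rw [← sub_eq_zero]
    apply hb₁.nd
    rintro ⟨l', z⟩
    rw [map_sub, LinearMap.sub_apply, hh, sub_self]
  set κ := μ₂ / μ₁ with hκ
  have hκ0 : κ ≠ 0 := div_ne_zero hμ₂ hμ₁
  have hκμ : κ * μ₁ = μ₂ := div_mul_cancel₀ _ hμ₁
  have htadd : ∀ (l' m : L) (r : F), t (τ (l' + algebraMap F L r) * m) = t (τ l' * m) + r * t m := by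
    intro l' m r
    rw [map_add, AlgEquiv.commutes, add_mul, map_add, ← Algebra.smul_def, map_smul, smul_eq_mul]
  have htsm : ∀ (r : F) (x : L), t (x * algebraMap F L r) = r * t x := by
    intro r x
    rw [mul_comm, ← Algebra.smul_def, map_smul, smul_eq_mul]
  have ht1 : t 1 = 0 := by rw [← map_one (algebraMap F L)]; exact hF.tr_F ht 1
  -- `T (1, 0) = (κ, 0)`
  have hT1 : T (1, 0) = (algebraMap F L κ, (0 : F) • o) := by
    apply huniq
    intro l' z
    rw [← h, hexp₁]
    show b₂ ((1 : L) + algebraMap F L (0 : F), (0 : Fin 1 → F)) (l' + algebraMap F L (z 0), z) = _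
    have e1 : (((1 : L) + algebraMap F L (0 : F), (0 : Fin 1 → F)) : L × (Fin 1 → F)) = (1, (0 : F) • o) := by simp
    rw [e1, hexp₂, htadd, ht1, htsm, mul_one, ← hκμ]
    ring
  -- `T (ζ, 0) = (κ ζ, θ)`
  set θ := μ₂ * t ζ / β with hθ
  have hθ0 : θ ≠ 0 := div_ne_zero (mul_ne_zero hμ₂ htz) hβ0
  have hθβ : θ * β = μ₂ * t ζ := div_mul_cancel₀ _ hβ0
  have hTζ : T (ζ, 0) = (κ • ζ, θ • o) := by
    apply huniq
    intro l' z
    rw [← h, hexp₁]
    show b₂ (ζ + algebraMap F L (0 : F), (0 : Fin 1 → F)) (l' + algebraMap F L (z 0), z) = _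
    have e1 : ((ζ + algebraMap F L (0 : F), (0 : Fin 1 → F)) : L × (Fin 1 → F)) = (ζ, (0 : F) • o) := by simp
    rw [e1, hexp₂, htadd, mul_smul_comm, map_smul, smul_eq_mul]
    linear_combination (-(t (τ l' * ζ))) * hκμ - (z 0) * hθβ
  -- `T (0, 1) = (κ, ρ)`
  set ρ := γ / β with hρ
  have hρβ : ρ * β = γ := div_mul_cancel₀ _ hβ0
  have hTo : T (0, o) = (algebraMap F L κ, ρ • o) := by
    apply huniq
    intro l' z
    rw [← h, hexp₁]
    show b₂ ((0 : L) + algebraMap F L (o 0), o) (l' + algebraMap F L (z 0), z) = _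
    have e1 : (((0 : L) + algebraMap F L (o 0), o) : L × (Fin 1 → F)) = (1, (1 : F) • o) := by simp [ho]
    rw [e1, hexp₂, htadd, ht1, htsm, mul_one]
    linear_combination (-(t (τ l'))) * hκμ - (z 0) * hρβ
  -- `u = κ²`
  have hu : u = κ * κ := by
    have h1 := hT (1, 0)
    rw [hT1] at h1
    have e1 : ((algebraMap F L κ, (0 : F) • o) : L × (Fin 1 → F)) = κ • (1, 0) := by
      refine Prod.ext ?_ (by simp)
      show algebraMap F L κ = κ • (1 : L)
      rw [Algebra.smul_def, mul_one]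
    rw [e1, map_smul, hT1, e1, smul_smul] at h1
    have h2 := congrArg Prod.fst h1
    have h3 : (κ * κ) • (1 : L) = u • (1 : L) := h2
    rw [Algebra.smul_def, Algebra.smul_def, mul_one, mul_one] at h3
    exact ((algebraMap F L).injective h3).symm
  have h1 := hT (ζ, 0)
  have e1 : ((κ • ζ, θ • o) : L × (Fin 1 → F)) = κ • (ζ, 0) + θ • (0, o) := by simp
  rw [hTζ, e1, map_add, map_smul, map_smul, hTζ, hTo, hu] at h1
  have h2 := congrArg Prod.fst h1
  have h3 : κ • κ • ζ + θ • algebraMap F L κ = (κ * κ) • ζ := h2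
  rw [smul_smul, add_eq_left, Algebra.smul_def, ← map_mul] at h3
  have h4 : θ * κ = 0 := (algebraMap F L).injective (by rw [h3, map_zero])
  rcases mul_eq_zero.1 h4 with h5 | h5
  · exact hθ0 h5
  · exact hκ0 h5

end IV

end Cfsg.Agent.H284.SK
end

-- part: H284/SK/PslEven
section
/-!
# S3010 (Sidki pairs): the row `PSL_n(q)`, `q` even (helper284)
-/

set_option autoImplicit false
set_option linter.unusedVariables false
set_option linter.unusedSectionVars false
set_option linter.style.haveILetI false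

universe u

open Matrix Subgroup Cfsg
open Cfsg.Agent.H282.SK
open Cfsg.Agent.ClassicalGeometry.AutPSL.Root
open Cfsg.Agent.ClassicalGeometry.AutPSL.Auto
open Cfsg.Agent.H199.PslAut

namespace Cfsg.Agent.H284.SK

section index

/-- a subgroup such that the product of any two elements outside lies inside has index at most 2 -/
theorem card_le_two {G : Type*} [Group G] [Finite G] {A B : Subgroup G}
    (h : ∀ a ∈ B, ∀ b ∈ B, a ∉ A → b ∉ A → a * b ∈ A) : Nat.card B ≤ 2 * Nat.card A := by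
  by_cases hex : ∃ b ∈ B, b ∉ A
  · obtain ⟨b, hb, hbA⟩ := hex
    have h1 : (B : Set G) ⊆ (A : Set G) ∪ (fun x => b⁻¹ * x) '' (A : Set G) := by
      intro x hx
      by_cases hxA : x ∈ A
      · exact Or.inl hxA
      · right
        exact ⟨b * x, h b hb x hx hbA hxA, by show b⁻¹ * (b * x) = x; group⟩
    have h2 := Set.ncard_le_ncard h1 (Set.toFinite _)
    have h3 := Set.ncard_union_le (A : Set G) ((fun x => b⁻¹ * x) '' (A : Set G))
    have h4 : ((fun x => b⁻¹ * x) '' (A : Set G)).ncard = (A : Set G).ncard :=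
      Set.ncard_image_of_injective _ (mul_right_injective b⁻¹)
    have h5 : (B : Set G).ncard = Nat.card B := rfl
    have h6 : (A : Set G).ncard = Nat.card A := rfl
    omega
  · push Not at hex
    have h1 : Nat.card B ≤ Nat.card A := Nat.card_le_card_of_injective
      (fun x : B => (⟨x.1, hex x.1 x.2⟩ : A)) (fun x y hxy => Subtype.ext (congrArg (fun z : A => (z : G)) hxy))
    omega

end index

variable {F : Type*} [Field F] {n : ℕ}

local notation "PSLn" => Matrix.ProjectiveSpecialLinearGroup (Fin n) F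
local notation "SLn" => Matrix.SpecialLinearGroup (Fin n) F
local notation "Mn" => Matrix (Fin n) (Fin n) F

section inner

variable [Finite F] [CharP F 2] {G : Type u} [Group G] [Finite G] {V K : Subgroup G}

theorem mul_semi (g g' : GL (Fin n) F) (σ σ' : F ≃+* F) :
    (Psi n F g * phi n F σ) * (Psi n F g' * phi n F σ') = Psi n F (g * mapGL σ g') * phi n F (σ * σ') := by
  calc (Psi n F g * phi n F σ) * (Psi n F g' * phi n F σ') = Psi n F g * (phi n F σ * Psi n F g') * phi n F σ' := by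
        simp only [mul_assoc]
    _ = _ := by rw [phi_mul_Psi, map_mul, map_mul]; simp only [mul_assoc]

theorem mul_pol (g g' : GL (Fin n) F) (σ σ' : F ≃+* F) :
    (Psi n F g * phi n F σ * iot n F) * (Psi n F g' * phi n F σ' * iot n F) =
      Psi n F (g * mapGL σ (itGL g')) * phi n F (σ * σ') := by
  calc (Psi n F g * phi n F σ * iot n F) * (Psi n F g' * phi n F σ' * iot n F)
      = Psi n F g * phi n F σ * (iot n F * Psi n F g') * (phi n F σ' * iot n F) := by
        simp only [mul_assoc]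
    _ = Psi n F g * (phi n F σ * Psi n F (itGL g')) * (iot n F * phi n F σ') * iot n F := by
        rw [iot_mul_Psi]; simp only [mul_assoc]
    _ = Psi n F g * Psi n F (mapGL σ (itGL g')) * phi n F σ * phi n F σ' * (iot n F * iot n F) := by
        rw [iot_mul_phi, phi_mul_Psi]; simp only [mul_assoc]
    _ = _ := by rw [iot_mul_iot, mul_one, map_mul, map_mul]; simp only [mul_assoc]

/-- **`V` contains an involution of `SL_n(F)`.** -/
theorem exists_inner (h : Cx V K) (e : K ≃* PSLn) (hn : 2 ≤ n) :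
    ∃ s : SLn, s * s = 1 ∧ s ≠ 1 ∧ el e (pr s) ∈ V := by
  haveI : Fintype F := Fintype.ofFinite F
  let V₁ : Subgroup G :=
    { carrier := {w | w ∈ V ∧ ∃ (g : GL (Fin n) F) (σ : F ≃+* F), act h e w = Psi n F g * phi n F σ}
      mul_mem' := by
        rintro a b ⟨ha, g, σ, hg⟩ ⟨hb, g', σ', hg'⟩
        exact ⟨V.mul_mem ha hb, _, _, by rw [map_mul, hg, hg', mul_semi]⟩
      one_mem' := ⟨V.one_mem, 1, 1, by rw [map_one, map_one, phi_one, mul_one]⟩
      inv_mem' := by
        rintro a ⟨ha, hh⟩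
        rw [h.inv_eq ha]
        exact ⟨ha, hh⟩ }
  let V₂ : Subgroup G :=
    { carrier := {w | w ∈ V ∧ ∃ (g : GL (Fin n) F), act h e w = Psi n F g}
      mul_mem' := by
        rintro a b ⟨ha, g, hg⟩ ⟨hb, g', hg'⟩
        exact ⟨V.mul_mem ha hb, g * g', by rw [map_mul, hg, hg', map_mul]⟩
      one_mem' := ⟨V.one_mem, 1, by rw [map_one, map_one]⟩
      inv_mem' := by
        rintro a ⟨ha, hh⟩
        rw [h.inv_eq ha]
        exact ⟨ha, hh⟩ }
  have h1 : Nat.card V ≤ 2 * Nat.card V₁ := by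
    apply card_le_two
    intro a ha b hb ha1 hb1
    rcases exists_form hn (act h e a) with ⟨g, σ, hg⟩ | ⟨-, g, σ, hg⟩
    · exact absurd ⟨ha, g, σ, hg⟩ ha1
    rcases exists_form hn (act h e b) with ⟨g', σ', hg'⟩ | ⟨-, g', σ', hg'⟩
    · exact absurd ⟨hb, g', σ', hg'⟩ hb1
    exact ⟨V.mul_mem ha hb, _, _, by rw [map_mul, hg, hg', mul_pol]⟩
  have hord : ∀ a ∈ V, ∀ (g : GL (Fin n) F) (σ : F ≃+* F), act h e a = Psi n F g * phi n F σ → a ∉ V₂ →
      orderOf σ = 2 := by
    intro a ha g σ hg ha2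
    have hsq : act h e a * act h e a = 1 := by rw [← map_mul, h.sq ha, map_one]
    rw [hg, mul_semi] at hsq
    obtain ⟨-, hσ⟩ := Psi_phi_eq (τ := 1) hn (by rw [hsq, phi_one])
    apply orderOf_eq_prime (by rw [pow_two]; exact hσ)
    rintro rfl
    apply ha2
    exact ⟨ha, g, by rw [hg, phi_one, mul_one]⟩
  have h2 : Nat.card V₁ ≤ 2 * Nat.card V₂ := by
    apply card_le_two
    rintro a ⟨ha, g, σ, hg⟩ b ⟨hb, g', σ', hg'⟩ ha2 hb2
    have h3 := hord a ha g σ hg ha2
    have h4 := hord b hb g' σ' hg' hb2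
    have h5 : σ = σ' := Cfsg.Agent.H199.PslGraphField.involution_unique h3 h4
    subst h5
    refine ⟨V.mul_mem ha hb, g * mapGL σ g', ?_⟩
    have h6 : σ * σ = 1 := by rw [← pow_two, ← h3, pow_orderOf_eq_one]
    rw [map_mul, hg, hg', mul_semi, h6, phi_one, mul_one]
  have h3 := h.card
  have h4 : 1 < Nat.card V₂ := by omega
  obtain ⟨v, hv1⟩ := Subgroup.ne_bot_iff_exists_ne_one.1 ((Subgroup.one_lt_card_iff_ne_bot V₂).1 h4)
  obtain ⟨hvV, g, hg⟩ := v.2
  have hsq : Psi n F g * Psi n F g = 1 := by rw [← hg, ← map_mul, h.sq hvV, map_one]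
  obtain ⟨R, hR, hRg⟩ := exists_sl_of_sq hn g hsq
  have h5 : act h e v = act h e (el e (pr R)) := by rw [hg, ← hRg, Psi_coe, act_el']
  have h6 := act_injective h e h5
  refine ⟨R, hR, ?_, h6 ▸ hvV⟩
  rintro rfl
  apply hv1
  apply Subtype.ext
  rw [h6, map_one, map_one]
  rfl

end inner

section form

variable {k c : ℕ} {L : Type} [Field L] [Algebra F L] {τ : L ≃ₐ[F] L} {ζ : L}

/-- the form of a polarity -/
noncomputable def frm (g : GL (Fin n) F) (Φ : (Fin n → F) ≃ₗ[F] (L × (Fin c → F))) :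
    LinearMap.BilinForm F (L × (Fin c → F)) :=
  (Matrix.toBilin' ((g⁻¹ : GL (Fin n) F) : Mn)).comp (Φ.symm : (L × (Fin c → F)) →ₗ[F] (Fin n → F))
    (Φ.symm : (L × (Fin c → F)) →ₗ[F] (Fin n → F))

theorem frm_apply (g : GL (Fin n) F) (Φ : (Fin n → F) ≃ₗ[F] (L × (Fin c → F))) (p q : L × (Fin c → F)) :
    frm g Φ p q = Φ.symm p ⬝ᵥ (((g⁻¹ : GL (Fin n) F) : Mn) *ᵥ Φ.symm q) := by
  rw [frm, LinearMap.BilinForm.comp_apply, Matrix.toBilin'_apply']
  rfl

/-- fixed by a polarity means similitude -/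
theorem sim {g : GL (Fin n) F} {Y : SLn} {d : F} (h : (Y : Mn) = d • (cj g (itr Y) : Mn)) (a b : Fin n → F) :
    ((Y : Mn) *ᵥ a) ⬝ᵥ (((g⁻¹ : GL (Fin n) F) : Mn) *ᵥ ((Y : Mn) *ᵥ b)) =
      d * (a ⬝ᵥ (((g⁻¹ : GL (Fin n) F) : Mn) *ᵥ b)) := by
  have h1 : ((g⁻¹ : GL (Fin n) F) : Mn) * (Y : Mn) = d • (((Y⁻¹ : SLn) : Mn)ᵀ * ((g⁻¹ : GL (Fin n) F) : Mn)) := by
    rw [h, mul_smul_comm, coe_cj, coe_itr, ← mul_assoc, ← mul_assoc, ← Units.val_mul, inv_mul_cancel, Units.val_one,
      one_mul]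
  rw [mulVec_mulVec, h1, smul_mulVec, dotProduct_smul, smul_eq_mul, ← mulVec_mulVec]
  congr 1
  rw [Matrix.dotProduct_mulVec, Matrix.vecMul_transpose, ← sl_mul_mulVec, inv_mul_cancel,
    Matrix.SpecialLinearGroup.coe_one, one_mulVec]

theorem inv_symm {g : GL (Fin n) F} (h : (g : Mn)ᵀ = (g : Mn)) :
    ((g⁻¹ : GL (Fin n) F) : Mn)ᵀ = ((g⁻¹ : GL (Fin n) F) : Mn) := by
  have h1 : ((g⁻¹ : GL (Fin n) F) : Mn)ᵀ * (g : Mn) = 1 := by
    rw [← h, ← transpose_mul, ← Units.val_mul, mul_inv_cancel, Units.val_one, transpose_one]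
  calc ((g⁻¹ : GL (Fin n) F) : Mn)ᵀ = ((g⁻¹ : GL (Fin n) F) : Mn)ᵀ * ((g : Mn) * ((g⁻¹ : GL (Fin n) F) : Mn)) := by
        rw [← Units.val_mul, mul_inv_cancel, Units.val_one, mul_one]
    _ = _ := by rw [← mul_assoc, h1, one_mul]

variable [Finite F] [CharP F 2] {G : Type u} [Group G] [Finite G] {V K : Subgroup G}

theorem Pol.bf {h : Cx V K} {e : K ≃* PSLn} (hF : Fd F k L τ ζ) {Φ : (Fin n → F) ≃ₗ[F] (L × (Fin c → F))} {s : SLn}
    (hΦ : ∀ x, Φ ((s : Mn) *ᵥ x) = (τ (Φ x).1, (Φ x).2)) {w : G} {g : GL (Fin n) F}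
    (hP : Pol h e s (hF.X Φ) w g) : BF c τ ζ (frm g Φ) := by
  constructor
  · intro p q
    rw [frm_apply, frm_apply, dotProduct_comm, ← vecMul_transpose, inv_symm hP.symm, Matrix.dotProduct_mulVec]
  · intro p hp
    have h1 : Φ.symm p = 0 := by
      rw [← dotProduct_eq_zero_iff]
      intro z
      have h2 := hp (Φ ((g : Mn) *ᵥ z))
      rw [frm_apply, LinearEquiv.symm_apply_apply, mulVec_mulVec, ← Units.val_mul, inv_mul_cancel, Units.val_one,
        one_mulVec] at h2
      exact h2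
    rwa [LinearEquiv.map_eq_zero_iff] at h1
  · intro p q
    have h1 : ∀ p, Φ.symm (Am F c ζ p) = (hF.X Φ : Mn) *ᵥ (Φ.symm p) := by
      intro p
      apply Φ.injective
      rw [hF.X_mulVec, LinearEquiv.apply_symm_apply, LinearEquiv.apply_symm_apply]
      rfl
    rw [frm_apply, frm_apply, h1, h1, sim (d := 1) (by rw [one_smul, hP.fixX]), one_mul]
  · intro p q
    have h1 : ∀ p, Φ.symm (Tm F c τ p) = (s : Mn) *ᵥ (Φ.symm p) := by
      intro p
      apply Φ.injective
      rw [hΦ, LinearEquiv.apply_symm_apply, LinearEquiv.apply_symm_apply]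
      rfl
    rw [frm_apply, frm_apply, h1, h1, sim (d := 1) (by rw [one_smul, hP.fixs]), one_mul]

/-- elements of `C_K(⟨v, x⟩)` are similitudes -/
theorem Pol.sim {h : Cx V K} {e : K ≃* PSLn} (hF : Fd F k L τ ζ) {Φ : (Fin n → F) ≃ₗ[F] (L × (Fin c → F))} {s : SLn}
    (hΦ : ∀ x, Φ ((s : Mn) *ᵥ x) = (τ (Φ x).1, (Φ x).2)) {w : G} {g : GL (Fin n) F}
    (hP : Pol h e s (hF.X Φ) w g) (A : (L × (Fin c → F)) →ₗ[F] (L × (Fin c → F))) (hA : LinearMap.det A = 1)
    (h1 : ∀ p, A (Tm F c τ p) = Tm F c τ (A p)) (h2 : ∀ p, A (Am F c ζ p) = Am F c ζ (A p)) :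
    ∃ d : F, ∀ p q, frm g Φ (A p) (A q) = d * frm g Φ p q := by
  set Y := mkS Φ A hA with hY
  have hYv : ∀ x, Φ ((Y : Mn) *ᵥ x) = A (Φ x) := fun x => mkS_mulVec' Φ A hA x
  have hYs : Y * s = s * Y := by
    apply sl_ext' Φ
    intro x
    rw [sl_mul_mulVec, sl_mul_mulVec, hYv, hΦ, hΦ, hYv]
    exact h1 (Φ x)
  have hYX : Y * hF.X Φ = hF.X Φ * Y := by
    apply sl_ext' Φ
    intro x
    rw [sl_mul_mulVec, sl_mul_mulVec, hYv, hF.X_mulVec, hF.X_mulVec, hYv]
    exact h2 (Φ x)
  obtain ⟨d, hd⟩ := hP.fix Y hYs hYX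
  refine ⟨d, ?_⟩
  intro p q
  have h3 : ∀ p, Φ.symm (A p) = (Y : Mn) *ᵥ (Φ.symm p) := fun p => (mkS_mulVec_symm Φ A hA p).symm
  rw [frm_apply, frm_apply, h3, h3, SK.sim hd]

end form

section main

variable [Finite F] [CharP F 2] {G : Type u} [Group G] [Finite G] {V K : Subgroup G}

/-- **The row `PSL_n(q)`, `q` even.** -/
theorem srow_psl (h : Cx V K) (e : K ≃* PSLn) (hn : 2 ≤ n) (h42 : ¬ (n = 4 ∧ Nat.card F = 2)) : False := by
  haveI : Fintype F := Fintype.ofFinite F
  obtain ⟨s, hs, hs1, hsV⟩ := exists_inner h e hn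
  obtain ⟨k, hk, c, hkc, L, hL1, hL2, hL3, τ, ζ, hF, Φ, hΦ⟩ := exists_model_sl hs hs1
  obtain ⟨w, g, hP⟩ := outer h e hn hF Φ hs1 hΦ hsV
  have hb := hP.bf hF hΦ
  have h3 := hP.three
  rcases Nat.lt_or_ge 1 k with hk2 | hk1
  · -- rank at least two
    obtain ⟨a, ha0, ha, hac⟩ := hF.big hk2
    set q := Nat.card F with hq
    have hdet : LinearMap.det (Am F c (a ^ (q - 1))) = 1 := by
      rw [← Am_pow, map_pow]
      have h4 : LinearMap.det (Am F c a) ≠ 0 := by
        intro h0
        have h5 : Am F c a * Am F c a⁻¹ = 1 := by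
          apply LinearMap.ext
          intro p
          show Am F c a (Am F c a⁻¹ p) = p
          simp only [Am_apply]
          rw [← mul_assoc, mul_inv_cancel₀ ha0, one_mul]
        have h6 := congrArg LinearMap.det h5
        rw [map_mul, h0, zero_mul, map_one] at h6
        exact zero_ne_one h6
      have := FiniteField.pow_card_sub_one_eq_one _ h4
      rwa [Fintype.card_eq_nat_card] at this
    have hτ : τ (a ^ (q - 1)) = a ^ (q - 1) := by rw [map_pow, ha]
    obtain ⟨d, hd⟩ := hP.sim hF hΦ (Am F c (a ^ (q - 1))) hdet (by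
      intro p
      refine Prod.ext ?_ rfl
      show a ^ (q - 1) * τ p.1 = τ (a ^ (q - 1) * p.1)
      rw [map_mul, hτ]) (by
      intro p
      refine Prod.ext ?_ rfl
      show a ^ (q - 1) * (ζ * p.1) = ζ * (a ^ (q - 1) * p.1)
      ring)
    obtain ⟨r, hr⟩ := hb.no_e hF hτ (d := d) (fun l l' => hd (l, 0) (l', 0))
    exact hac r hr
  · obtain rfl : k = 1 := by omega
    rcases Nat.lt_or_ge c 3 with hc3 | hc3
    · rcases Nat.lt_or_ge 1 c with hc2 | hc1
      · -- `n = 4`
        obtain rfl : c = 2 := by omega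
        have hq2 : 2 < Nat.card F := by
          have h4 : 1 < Nat.card F := Finite.one_lt_card
          rcases Nat.lt_or_ge 2 (Nat.card F) with h5 | h5
          · exact h5
          · exact absurd ⟨by omega, by omega⟩ h42
        obtain ⟨r, hr0, hr1⟩ : ∃ r : F, r ≠ 0 ∧ r ≠ 1 := by
          classical
          by_contra hcon
          push Not at hcon
          have h5 : (Finset.univ : Finset F) ⊆ {0, 1} := by
            intro x _
            by_cases hx : x = 0
            · simp [hx]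
            · simp [hcon x hx]
          have h6 := Finset.card_le_card h5
          have h7 : ({0, 1} : Finset F).card ≤ 2 := Finset.card_le_two
          rw [Finset.card_univ, Fintype.card_eq_nat_card] at h6
          omega
        let A : (L × (Fin 2 → F)) →ₗ[F] (L × (Fin 2 → F)) :=
          LinearMap.prodMap (r⁻¹ • LinearMap.id) (r • LinearMap.id)
        have hA : ∀ p, A p = (r⁻¹ • p.1, r • p.2) := fun p => rfl
        have hdet : LinearMap.det A = 1 := by
          change LinearMap.det (LinearMap.prodMap (r⁻¹ • LinearMap.id : L →ₗ[F] L)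
            (r • LinearMap.id : (Fin 2 → F) →ₗ[F] (Fin 2 → F))) = 1
          rw [LinearMap.det_prodMap, LinearMap.det_smul, LinearMap.det_smul, hF.fr, LinearMap.det_id,
            LinearMap.det_id, Module.finrank_fin_fun, mul_one, mul_one, mul_one, inv_pow, inv_mul_cancel₀
            (pow_ne_zero 2 hr0)]
        obtain ⟨d, hd⟩ := hP.sim hF hΦ A hdet (by
          intro p
          rw [hA, hA]
          refine Prod.ext ?_ rfl
          show r⁻¹ • τ p.1 = τ (r⁻¹ • p.1)
          rw [map_smul]) (by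
          intro p
          rw [hA, hA]
          refine Prod.ext ?_ rfl
          show r⁻¹ • (ζ * p.1) = ζ * (r⁻¹ • p.1)
          rw [mul_smul_comm])
        exact hb.no_sc hF (by norm_num) hr0 hr1 hd
      · -- `n = 3`
        obtain rfl : c = 1 := by omega
        let c₀ : (L × (Fin 1 → F)) ≃ₗ[F] (L × (Fin 1 → F)) :=
          { toFun := fun p => (p.1 + algebraMap F L (p.2 0), p.2)
            invFun := fun p => (p.1 - algebraMap F L (p.2 0), p.2)
            map_add' := by
              intro p q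
              refine Prod.ext ?_ rfl
              show (p.1 + q.1) + algebraMap F L (p.2 0 + q.2 0) = _ + _
              rw [map_add]
              ring
            map_smul' := by
              intro r p
              refine Prod.ext ?_ rfl
              show r • p.1 + algebraMap F L (r * p.2 0) = r • (p.1 + algebraMap F L (p.2 0))
              rw [map_mul, smul_add, Algebra.smul_def r (algebraMap F L (p.2 0))]
            left_inv := by
              intro p
              refine Prod.ext ?_ rfl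
              show p.1 + algebraMap F L (p.2 0) - algebraMap F L (p.2 0) = p.1
              ring
            right_inv := by
              intro p
              refine Prod.ext ?_ rfl
              show p.1 - algebraMap F L (p.2 0) + algebraMap F L (p.2 0) = p.1
              ring }
        have hc₀ : ∀ p, c₀ p = (p.1 + algebraMap F L (p.2 0), p.2) := fun p => rfl
        set Φ₂ := Φ.trans c₀ with hΦ₂d
        have hΦ₂ : ∀ x, Φ₂ ((s : Mn) *ᵥ x) = (τ (Φ₂ x).1, (Φ₂ x).2) := by
          intro x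
          rw [hΦ₂d, LinearEquiv.trans_apply, LinearEquiv.trans_apply, hΦ, hc₀, hc₀]
          refine Prod.ext ?_ rfl
          show τ (Φ x).1 + _ = τ ((Φ x).1 + _)
          rw [map_add, AlgEquiv.commutes]
        obtain ⟨w₂, g₂, hP₂⟩ := outer h e hn hF Φ₂ hs1 hΦ₂ hsV
        have hb₂ := hP₂.bf hF hΦ₂
        -- the product of the two polarities
        have hsq : Psi n F (g * g₂⁻¹) * Psi n F (g * g₂⁻¹) = 1 := by
          have h4 : act h e (w * w₂) = Psi n F (g * g₂⁻¹) := by
            rw [map_mul, hP.act, hP₂.act]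
            have h5 : itGL g₂ = g₂⁻¹ := by
              apply Units.ext
              rw [coe_itGL, inv_symm hP₂.symm]
            calc Psi n F g * iot n F * (Psi n F g₂ * iot n F) = Psi n F g * (iot n F * Psi n F g₂) * iot n F := by
                  simp only [mul_assoc]
              _ = _ := by
                rw [iot_mul_Psi, h5, ← mul_assoc, mul_assoc (Psi n F g * _), iot_mul_iot, mul_one, map_mul]
          rw [← h4, ← map_mul, h.sq (V.mul_mem hP.memV hP₂.memV), map_one]
        rw [← map_mul, Psi_eq_one_iff hn] at hsq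
        obtain ⟨u, hu⟩ := hsq
        let T : (L × (Fin 1 → F)) →ₗ[F] (L × (Fin 1 → F)) :=
          (Φ : (Fin n → F) →ₗ[F] (L × (Fin 1 → F))) ∘ₗ Matrix.toLin' ((g * g₂⁻¹ : GL (Fin n) F) : Mn) ∘ₗ
            (Φ.symm : (L × (Fin 1 → F)) →ₗ[F] (Fin n → F))
        have hTv : ∀ p, T p = Φ (((g * g₂⁻¹ : GL (Fin n) F) : Mn) *ᵥ Φ.symm p) := fun p => rfl
        refine no_three hF hb hb₂ T (u := (u : F)) ?_ ?_
        · intro p
          rw [hTv, hTv, LinearEquiv.symm_apply_apply, mulVec_mulVec, ← Units.val_mul, hu, coe_scal,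
            Matrix.scalar_apply, ← Matrix.smul_one_eq_diagonal, smul_mulVec, one_mulVec, map_smul,
            LinearEquiv.apply_symm_apply]
        · intro p q
          have h4 : ∀ p : L × (Fin 1 → F), Φ₂.symm (p.1 + algebraMap F L (p.2 0), p.2) = Φ.symm p := by
            intro p
            rw [← hc₀, LinearEquiv.symm_apply_eq, hΦ₂d, LinearEquiv.trans_apply, LinearEquiv.apply_symm_apply]
          rw [frm_apply, frm_apply, h4, h4, hTv, LinearEquiv.symm_apply_apply, Units.val_mul]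
          have h5 : (((g : Mn) * ((g₂⁻¹ : GL (Fin n) F) : Mn)) *ᵥ Φ.symm p) ⬝ᵥ
              (((g⁻¹ : GL (Fin n) F) : Mn) *ᵥ Φ.symm q) =
              Φ.symm p ⬝ᵥ (((((g : Mn) * ((g₂⁻¹ : GL (Fin n) F) : Mn))ᵀ) * ((g⁻¹ : GL (Fin n) F) : Mn)) *ᵥ Φ.symm q) := by
            rw [Matrix.dotProduct_mulVec (Φ.symm p), ← Matrix.vecMul_vecMul, Matrix.vecMul_transpose,
              ← Matrix.dotProduct_mulVec]
          rw [h5, transpose_mul, inv_symm hP₂.symm, hP.symm, mul_assoc, ← Units.val_mul, mul_inv_cancel, Units.val_one,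
            mul_one]
    · -- transvections on the complement
      refine hb.no_tr hF hc3 ?_
      intro ψ a hψ
      let D : (Fin c → F) →ₗ[F] (Fin c → F) := LinearMap.id + ψ.smulRight a
      have hD : ∀ z, D z = z + ψ z • a := fun z => rfl
      have hDD : ∀ z, D (D z) = z := by
        intro z
        rw [hD, hD, map_add, map_smul, hψ, smul_zero, add_zero, add_assoc, ← two_smul F (ψ z • a),
          CharTwo.two_eq_zero, zero_smul, add_zero]
      have hdet : LinearMap.det (Bm L D) = 1 := by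
        apply det_eq_one_of_sq
        intro p
        refine Prod.ext rfl ?_
        exact hDD _
      obtain ⟨d, hd⟩ := hP.sim hF hΦ (Bm L D) hdet (fun p => rfl) (fun p => rfl)
      exact ⟨d, hd⟩

end main

end Cfsg.Agent.H284.SK
end

-- part: H277/SK/Alt
section
/-!
# Sidki pairs in almost simple groups with alternating socle (helper277)

`not_elemT_alt` : the row `K ≅ A_n`, `n ≥ 5`, `n ≠ 6`.
-/

set_option autoImplicit false

universe u

namespace Cfsg.Agent.H277.SK

open Equiv Equiv.Perm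

/-- the row `F*(G) = K ≅ A_n`, `n ≥ 5`, `n ≠ 6` -/
theorem not_elemT_alt {G : Type*} [Group G] (K : Subgroup G) [K.Normal]
    (hCK : Subgroup.centralizer (K : Set G) = ⊥) {n : ℕ} (hn : 5 ≤ n) (h6 : n ≠ 6)
    (e : K ≃* alternatingGroup (Fin n)) (V : Subgroup G) (hc : ∀ a ∈ V, ∀ b ∈ V, a * b = b * a)
    (h2 : ∀ a ∈ V, a * a = 1) (hV1 : V ≠ ⊥) (hT : ElemT V) : False := by
  set a : Perm (Fin n) ≃* MulAut (alternatingGroup (Fin n)) :=
    MulEquiv.ofBijective MulAut.conjNormal (Cfsg.Agent.S2119.result n (by omega) h6) with ha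
  set ψ : G →* Perm (Fin n) :=
    (a.symm.toMonoidHom.comp (MulAut.congr e).toMonoidHom).comp (MulAut.conjNormal : G →* MulAut K) with hψ
  have h1 : ∀ (g : G), a (ψ g) = MulAut.congr e (MulAut.conjNormal g) := fun g => a.apply_symm_apply _
  refine not_elemT (ψ := ψ) ?_ ?_ hc h2 hT hn hV1
  · rw [injective_iff_map_eq_one]
    intro g hg
    have h3 := h1 g
    rw [hg, map_one] at h3
    have h4 : (MulAut.conjNormal g : MulAut K) = 1 := (MulAut.congr e).injective (by rw [← h3, map_one])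
    have h5 : g ∈ Subgroup.centralizer (K : Set G) := by
      rw [Subgroup.mem_centralizer_iff]
      intro k hk
      have h6 := MulAut.conjNormal_apply (H := K) g ⟨k, hk⟩
      rw [h4, MulAut.one_apply] at h6
      change k = g * k * g⁻¹ at h6
      nth_rewrite 1 [h6]
      rw [inv_mul_cancel_right]
    rw [hCK, Subgroup.mem_bot] at h5
    exact h5
  · intro σ hσ
    refine ⟨e.symm ⟨σ, Perm.mem_alternatingGroup.2 hσ⟩, ?_⟩
    apply a.injective
    rw [h1]
    apply MulEquiv.ext
    intro x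
    rw [MulAut.conjNormal_val]
    apply Subtype.ext
    have h3 : (MulAut.congr e) (MulAut.conj (e.symm ⟨σ, Perm.mem_alternatingGroup.2 hσ⟩)) x =
      e (MulAut.conj (e.symm ⟨σ, Perm.mem_alternatingGroup.2 hσ⟩) (e.symm x)) := rfl
    rw [h3, MulAut.conj_apply, map_mul, map_mul, map_inv, e.apply_symm_apply, e.apply_symm_apply]
    exact (MulAut.conjNormal_apply (H := alternatingGroup (Fin n)) σ x).symm

/-- the elementary tool in a minimal counterexample of S3010 -/
theorem elemT_of_cx {G : Type*} [Group G] [Finite G] {V K : Subgroup G} (h : Cfsg.Agent.H282.SK.Cx V K) : ElemT V := by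
  intro v hv hv1 x _ hx hinv
  obtain ⟨w, hw, hw1, hwx, hwO⟩ := h.t1 hv hv1 hx hinv
  refine ⟨w, hw, hw1, hwx, fun y hy hyv hyx hwy => ?_⟩
  exact Cfsg.Agent.H282.SK.eq_one_of_inv hwO (Subgroup.mem_inf.2 ⟨Subgroup.mem_centralizer_singleton_iff.2 hyv,
    Subgroup.mem_centralizer_singleton_iff.2 hyx⟩) hy hwy

/-- **the row ALT of S3010** -/
theorem dead_alt : Cfsg.Agent.H282.SK.DeadS.{u} (fun K _ => ∃ n : ℕ, 5 ≤ n ∧ n ≠ 6 ∧ Nonempty (K ≃* alternatingGroup (Fin n))) := by
  rintro G _ _ V K h ⟨n, hn, h6, ⟨e⟩⟩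
  have := h.norm
  exact not_elemT_alt K h.cent hn h6 e V (fun a ha b hb => (h.comm ha hb).eq) (fun a ha => h.sq ha) h.V_ne_bot
    (elemT_of_cx h)

end Cfsg.Agent.H277.SK
end

-- part: H284/SK/Row
section
/-!
# S3010 (Sidki pairs): the row `PSL_n(q)`, `q` even, complete (helper284)
-/

set_option autoImplicit false

universe u v

namespace Cfsg.Agent.H284.SK

/-- **The row `PSL_n(q)`, `q` even, `n ≥ 2`** (`PSL_4(2) ≅ A_8` by the row of helper277). -/
theorem dead_psl_even {F : Type v} [Field F] [Finite F] [CharP F 2] {n : ℕ} (hn : 2 ≤ n) :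
    Cfsg.Agent.H282.SK.DeadS.{u}
      (fun K _ => Nonempty (K ≃* Matrix.ProjectiveSpecialLinearGroup (Fin n) F)) := by
  rintro G _ _ V K h ⟨e⟩
  by_cases h42 : n = 4 ∧ Nat.card F = 2
  · obtain ⟨rfl, hc⟩ := h42
    have : Fintype F := Fintype.ofFinite F
    rw [Nat.card_eq_fintype_card] at hc
    obtain ⟨k⟩ := Cfsg.Agent.S0256.result hc
    exact Cfsg.Agent.H277.SK.dead_alt V K h ⟨8, by norm_num, by norm_num, ⟨e.trans k⟩⟩
  · exact srow_psl h e hn h42

end Cfsg.Agent.H284.SK
end

private theorem dce_aaa29db4b9a5 : _root_.True := by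
  try have : _root_.True := by simp only [_root_.Cfsg.Agent.H284.SK.CD.eq_1]
  try have : _root_.True := by simp only [_root_.Cfsg.Agent.H284.SK.Fd.induct]
  try have : _root_.True := by simp only [_root_.Cfsg.Agent.H284.SK.frm.eq_1]
  exact _root_.True.intro
end

-- part: H465/SK/OddCore
section
prune_inst 0x300000000000000000000000000000002
set_option linter.all false
open scoped Cfsg.Agent.FastGrp

/-!
# S3010 (Sidki), odd characteristic: the abstract argument (helper465)

`G` finite, `K` normal, `p` an odd prime, `V` an elementary abelian 2-subgroup.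

* `NoCent` : no involution of `G` centralises a maximal `p`-subgroup of `K`;
* `HasQ`   : every `p`-element `x ≠ 1` of `K` lies in a `p`-subgroup `Q` of `K` with `C_K(Q) ≤ Q` which is normalised
  by all elements centralising or inverting `x`;
* `T1`     : for `v ∈ V`, `x ≠ 1` odd inverted by `v`, some `r ∈ V#` lies in a normal 2-subgroup of `C_G(⟨v, x⟩)`.

`no_inverted`: no element of `V` inverts a nontrivial `p`-element of `K`;
`no_centralized`: no involution of `V` centralises a nontrivial `p`-element of `K`.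
-/

set_option autoImplicit false
set_option linter.unusedSectionVars false

namespace Cfsg.Agent.H465.SK

open Subgroup

variable {G : Type*} [Group G] [Finite G] {K V : Subgroup G} {p : ℕ} [hp : Fact p.Prime]

/-- no involution centralises a maximal `p`-subgroup of `K` -/
def NoCent (p : ℕ) (K : Subgroup G) : Prop :=
  ∀ r : G, r * r = 1 → r ≠ 1 → ∀ P : Subgroup G, P ≤ K → IsPGroup p P →
    (∀ P' : Subgroup G, P ≤ P' → P' ≤ K → IsPGroup p P' → P' = P) → ∃ u ∈ P, r * u ≠ u * r

/-- self-centralising `p`-subgroups over the `p`-elements -/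
def HasQ (p : ℕ) (K : Subgroup G) : Prop :=
  ∀ x ∈ K, x ≠ 1 → (∃ k : ℕ, x ^ p ^ k = 1) → ∃ Q : Subgroup G, Q ≤ K ∧ IsPGroup p Q ∧ x ∈ Q ∧
    (∀ g ∈ K, (∀ q ∈ Q, g * q = q * g) → g ∈ Q) ∧
    (∀ g : G, g * x * g⁻¹ = x ∨ g * x * g⁻¹ = x⁻¹ → ∀ q ∈ Q, g * q * g⁻¹ ∈ Q)

/-- the tool `(T1)` -/
def T1 (V : Subgroup G) : Prop :=
  ∀ v ∈ V, ∀ x : G, x ≠ 1 → Odd (orderOf x) → v * x * v⁻¹ = x⁻¹ → ∃ r ∈ V, r ≠ 1 ∧ r * v = v * r ∧ r * x = x * r ∧
    ∃ R : Subgroup G, r ∈ R ∧ IsPGroup 2 R ∧ ∀ c : G, c * v = v * c → c * x = x * c → ∀ y ∈ R, c * y * c⁻¹ ∈ R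

/-- an element of `p`-power order and of 2-power order is trivial, `p` odd -/
theorem eq_one_of_two {Q R : Subgroup G} (hp2 : p ≠ 2) (hQ : IsPGroup p Q) (hR : IsPGroup 2 R) {y : G} (h1 : y ∈ Q)
    (h2 : y ∈ R) : y = 1 := by
  have : Fact (Nat.Prime 2) := ⟨Nat.prime_two⟩
  have h3 : Disjoint Q R := by
    have := IsPGroup.disjoint_of_ne p 2 hp2 Q R hQ hR
    exact this
  exact (Subgroup.disjoint_def.1 h3) h1 h2

/-- the order of a `p`-element is odd -/
theorem odd_orderOf (hp2 : p ≠ 2) {x : G} {k : ℕ} (h : x ^ p ^ k = 1) : Odd (orderOf x) := by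
  have h1 : orderOf x ∣ p ^ k := orderOf_dvd_of_pow_eq_one h
  exact Odd.of_dvd_nat ((hp.out.odd_of_ne_two hp2).pow) h1

/-- an element `c` with `c * c = 1` of a `p`-group, `p` odd, is trivial -/
theorem eq_one_of_sq (hp2 : p ≠ 2) {x : G} {k : ℕ} (h : x ^ p ^ k = 1) (h2 : x * x = 1) : x = 1 := by
  have h3 := odd_orderOf hp2 h
  have h4 : orderOf x ∣ 2 := orderOf_dvd_of_pow_eq_one (by rw [pow_two, h2])
  rcases (Nat.dvd_prime Nat.prime_two).1 h4 with h5 | h5
  · exact orderOf_eq_one_iff.1 h5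
  · rw [h5] at h3
    exact absurd h3 (by decide)

theorem pow_of_mem {Q : Subgroup G} (hQ : IsPGroup p Q) {y : G} (hy : y ∈ Q) : ∃ k : ℕ, y ^ p ^ k = 1 := by
  obtain ⟨k, hk⟩ := hQ ⟨y, hy⟩
  exact ⟨k, congrArg Subtype.val hk⟩

/-- `(*)`: no involution centralises a `p`-subgroup `Q` of `K` with `C_K(Q) ≤ Q`. -/
theorem NoCent.not_cent (hN : NoCent p K) (hK : K.Normal) (hp2 : p ≠ 2) {r : G} (hr : r * r = 1) (hr1 : r ≠ 1)
    {Q : Subgroup G} (hQK : Q ≤ K) (hQ : IsPGroup p Q) (hc : ∀ g ∈ K, (∀ q ∈ Q, g * q = q * g) → g ∈ Q) :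
    ∃ u ∈ Q, r * u ≠ u * r := by
  classical
  by_contra hcon
  push Not at hcon
  -- a maximal `p`-subgroup over `Q` centralised by `r`
  let S : Set (Subgroup G) := {P | Q ≤ P ∧ P ≤ K ∧ IsPGroup p P ∧ ∀ u ∈ P, r * u = u * r}
  obtain ⟨P, ⟨hQP, hPK, hP, hPr⟩, hmax⟩ : ∃ P, P ∈ S ∧ ∀ P' ∈ S, P ≤ P' → P' = P := by
    obtain ⟨P, hP⟩ := (Set.toFinite S).exists_maximal ⟨Q, le_rfl, hQK, hQ, hcon⟩
    exact ⟨P, hP.1, fun P' hP' hle => le_antisymm (hP.2 hP' hle) hle⟩
  have hri : r⁻¹ = r := inv_eq_of_mul_eq_one_right hr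
  obtain ⟨u, huP, hu⟩ := hN r hr hr1 P hPK hP (by
    intro P' hPP' hP'K hP'
    by_contra hne
    have hlt : P.subgroupOf P' < ⊤ := by
      rw [lt_top_iff_ne_top, Ne, subgroupOf_eq_top]
      exact fun h => hne (le_antisymm h hPP')
    have hnc : NormalizerCondition P' := by
      have : Group.IsNilpotent P' := hP'.isNilpotent
      exact Group.normalizerCondition_of_isNilpotent
    have h1 := hnc _ hlt
    obtain ⟨g, hg1, hg2⟩ := SetLike.exists_of_lt h1
    -- `r` commutes with every element of `N_{P'}(P)`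
    have h2 : ∀ g : G, g ∈ P' → (∀ u, u ∈ P → g * u * g⁻¹ ∈ P) → r * g = g * r := by
      intro g hgP' hg
      set c := g⁻¹ * (r * g * r) with hcdef
      have hcK : c ∈ K := by
        refine mul_mem (inv_mem (hP'K hgP')) ?_
        have := hK.conj_mem g (hP'K hgP') r
        rwa [hri] at this
      have hcP : ∀ u ∈ P, c * u = u * c := by
        intro u hu
        have e1 : r * u * r = u := by rw [hPr u hu, mul_assoc, hr, mul_one]
        have hgu := hg u hu
        have e2 : r * (g * u * g⁻¹) * r = g * u * g⁻¹ := by rw [hPr _ hgu, mul_assoc, hr, mul_one]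
        have e3 : r * g * r * u = r * g * (r * u * r) * r := by
          rw [show r * g * (r * u * r) * r = r * g * (r * u) * (r * r) by group, hr, mul_one]; group
        have e4 : r * g * r * u = g * u * g⁻¹ * (r * g * r) := by
          calc r * g * r * u = r * g * (r * u * r) * r := e3
            _ = r * (g * u * g⁻¹) * g * r := by rw [e1]; group
            _ = r * (g * u * g⁻¹) * (r * r) * g * r := by rw [hr, mul_one]
            _ = (r * (g * u * g⁻¹) * r) * (r * g * r) := by group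
            _ = _ := by rw [e2]
        rw [hcdef, mul_assoc, e4]
        group
      have hcQ : c ∈ Q := hc c hcK fun q hq => hcP q (hQP hq)
      have hrc : r * c = c * r := hPr c (hQP hcQ)
      have hrg : r * g * r = g * c := by rw [hcdef]; group
      have hcc : c * c = 1 := by
        have h3 : g = r * (r * g * r) * r := by
          rw [show r * (r * g * r) * r = (r * r) * g * (r * r) by group, hr]; group
        rw [hrg] at h3
        have h4 : r * (g * c) * r = (r * g * r) * c := by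
          calc r * (g * c) * r = r * g * (c * r) := by group
            _ = r * g * (r * c) := by rw [hrc]
            _ = r * g * r * c := by group
        rw [h4, hrg] at h3
        have h5 : g * 1 = g * (c * c) := by rw [mul_one, ← mul_assoc]; exact h3
        exact (mul_left_cancel h5).symm
      obtain ⟨k, hk⟩ := pow_of_mem hQ hcQ
      have hc1 := eq_one_of_sq hp2 hk hcc
      rw [hc1, mul_one] at hrg
      calc r * g = r * g * (r * r) := by rw [hr, mul_one]
        _ = (r * g * r) * r := by group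
        _ = g * r := by rw [hrg]
    -- the subgroup `N_{P'}(P)`
    have h3 : (normalizer (P.subgroupOf P' : Set P')).map P'.subtype ∈ S := by
      refine ⟨fun q hq => ?_, ?_, hP'.to_subgroup _ |>.map _, ?_⟩
      · exact ⟨⟨q, hPP' (hQP hq)⟩, le_normalizer (mem_subgroupOf.2 (hQP hq)), rfl⟩
      · rintro _ ⟨y, -, rfl⟩
        exact hP'K y.2
      · rintro _ ⟨y, hy, rfl⟩
        refine h2 _ y.2 fun u hu => ?_
        exact mem_subgroupOf.1 ((mem_normalizer_iff.1 hy ⟨u, hPP' hu⟩).1 (mem_subgroupOf.2 hu))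
    have h4 := hmax _ h3 (fun q hq => ⟨⟨q, hPP' hq⟩, le_normalizer (mem_subgroupOf.2 hq), rfl⟩)
    refine hg2 ?_
    rw [mem_subgroupOf, ← h4]
    exact ⟨g, hg1, rfl⟩)
  exact hu (hPr u huP)

/-- **No element of `V` inverts a nontrivial `p`-element of `K`.** -/
theorem no_inverted (hK : K.Normal) (hp2 : p ≠ 2) (hN : NoCent p K) (hQ : HasQ p K) (hV2 : ∀ a ∈ V, a * a = 1)
    (hVc : ∀ a ∈ V, ∀ b ∈ V, a * b = b * a) (hT : T1 V) {v x : G} (hv : v ∈ V) (hxK : x ∈ K) (hx1 : x ≠ 1)
    (hxp : ∃ k : ℕ, x ^ p ^ k = 1) (hvx : v * x * v⁻¹ = x⁻¹) : False := by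
  classical
  -- choose a pair with minimal `C_V(x)`
  obtain ⟨n, hn⟩ : ∃ n : ℕ, n = Nat.card (V ⊓ centralizer ({x} : Set G) : Subgroup G) := ⟨_, rfl⟩
  induction n using Nat.strong_induction_on generalizing v x with
  | _ n ih =>
  obtain ⟨k, hk⟩ := hxp
  have hodd := odd_orderOf hp2 hk
  obtain ⟨r, hrV, hr1, hrv, hrx, R, hrR, hR, hRn⟩ := hT v hv x hx1 hodd hvx
  obtain ⟨Q, hQK, hQp, hxQ, hQc, hQn⟩ := hQ x hxK hx1 ⟨k, hk⟩
  have hr2 := hV2 r hrV
  have hv2 := hV2 v hv
  have hri : r⁻¹ = r := inv_eq_of_mul_eq_one_right hr2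
  have hvi : v⁻¹ = v := inv_eq_of_mul_eq_one_right hv2
  have hrxc : r * x * r⁻¹ = x := by rw [hrx]; group
  have hrQ : ∀ q ∈ Q, r * q * r⁻¹ ∈ Q := hQn r (Or.inl hrxc)
  have hvQ : ∀ q ∈ Q, v * q * v⁻¹ ∈ Q := hQn v (Or.inr hvx)
  -- `r` centralises `C_Q(⟨v, x⟩)`
  have hfix : ∀ q ∈ Q, q * v = v * q → q * x = x * q → r * q = q * r := by
    intro q hq hqv hqx
    have h1 : r * q * r⁻¹ * q⁻¹ ∈ Q := mul_mem (hrQ q hq) (inv_mem hq)
    have h2 : r * q * r⁻¹ * q⁻¹ ∈ R := by
      have h3 := mul_mem hrR (hRn q hqv hqx r⁻¹ (inv_mem hrR))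
      rwa [show r * (q * r⁻¹ * q⁻¹) = r * q * r⁻¹ * q⁻¹ by group] at h3
    have h3 := eq_one_of_two hp2 hQp hR h1 h2
    calc r * q = (r * q * r⁻¹ * q⁻¹) * (q * r) := by group
      _ = q * r := by rw [h3, one_mul]
  -- `r` does not centralise `Q`, hence not `C_Q(x)`
  obtain ⟨u₀, hu₀, hu₀r⟩ := hN.not_cent hK hp2 hr2 hr1 hQK hQp hQc
  have hmem : ∀ {g : G}, (∀ q ∈ Q, g * q * g⁻¹ ∈ Q) → (∀ q ∈ Q, g⁻¹ * q * g ∈ Q) → g ∈ normalizer (Q : Set G) := by
    intro g h1 h2
    rw [mem_normalizer_iff]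
    refine fun q => ⟨h1 q, fun h => ?_⟩
    have := h2 _ h
    rwa [show g⁻¹ * (g * q * g⁻¹) * g = q by group] at this
  have hrN : r ∈ normalizer (Q : Set G) := hmem hrQ (by
    intro q hq
    have := hrQ q hq
    rwa [hri] at this ⊢)
  have hxN : zpowers x ≤ normalizer (Q : Set G) := by
    rw [zpowers_le]
    exact le_normalizer hxQ
  obtain ⟨u₁, hu₁Q, hu₁x, hu₁r⟩ : ∃ u ∈ Q, u * x = x * u ∧ r * u ≠ u * r := by
    by_contra hcon
    push Not at hcon
    have h1 := Cfsg.Agent.H225.AxB.axb (D := zpowers x) (y := r) hQp hxN (by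
      intro d hd
      refine ⟨k, ?_⟩
      obtain ⟨i, rfl⟩ := hd
      rw [← zpow_natCast, ← zpow_mul, mul_comm, zpow_mul, zpow_natCast, hk, one_zpow]
      exact one_mem _) hrN (by
      have h2 : orderOf r ∣ 2 := orderOf_dvd_of_pow_eq_one (by rw [pow_two, hr2])
      exact Nat.Coprime.coprime_dvd_left h2 ((Nat.coprime_primes Nat.prime_two hp.out).2 (Ne.symm hp2))) (by
      intro d hd
      obtain ⟨i, rfl⟩ := hd
      have h2 : Commute r (x ^ i) := (show Commute r x from hrx).zpow_right i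
      have h3 : x ^ i * r * (x ^ i)⁻¹ * r⁻¹ = 1 := by rw [← h2.eq]; group
      show x ^ i * r * (x ^ i)⁻¹ * r⁻¹ ∈ _
      rw [h3]
      exact one_mem _) (by
      intro u hu hud
      exact hcon u hu (hud x (mem_zpowers x)).symm)
    exact hu₀r ((mem_centralizer_iff.1 h1 u₀ hu₀).symm)
  -- the four-group `⟨r, v⟩` on `C_Q(x)`
  let Q₁ : Subgroup G := Q ⊓ centralizer ({x} : Set G)
  have hQ₁x : ∀ q ∈ Q₁, q * x = x * q := fun q hq => (mem_centralizer_singleton_iff.1 hq.2)
  have hQ₁p : IsPGroup p Q₁ := hQp.to_le inf_le_left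
  have hQ₁odd : Odd (Nat.card Q₁) := by
    obtain ⟨m, hm⟩ := IsPGroup.iff_card.1 hQ₁p
    rw [hm]
    exact (hp.out.odd_of_ne_two hp2).pow
  have hrQ₁ : ∀ q ∈ Q₁, r * q * r⁻¹ ∈ Q₁ := by
    intro q hq
    refine ⟨hrQ q hq.1, mem_centralizer_singleton_iff.2 ?_⟩
    have h1 := hQ₁x q hq
    have h2 : r⁻¹ * x = x * r⁻¹ := by rw [hri]; exact hrx
    calc r * q * r⁻¹ * x = r * q * (x * r⁻¹) := by rw [mul_assoc, h2]
      _ = r * (q * x) * r⁻¹ := by group
      _ = r * (x * q) * r⁻¹ := by rw [h1]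
      _ = (r * x) * q * r⁻¹ := by group
      _ = x * (r * q * r⁻¹) := by rw [hrx]; group
  have hvQ₁ : ∀ q ∈ Q₁, v * q * v⁻¹ ∈ Q₁ := by
    intro q hq
    refine ⟨hvQ q hq.1, mem_centralizer_singleton_iff.2 ?_⟩
    have h1 := hQ₁x q hq
    have h3 : v * x⁻¹ * v⁻¹ = x := by
      calc v * x⁻¹ * v⁻¹ = (v * x * v⁻¹)⁻¹ := by group
        _ = x := by rw [hvx, inv_inv]
    have h4 : q * x⁻¹ = x⁻¹ * q := ((show Commute q x from h1).inv_right).eq
    calc v * q * v⁻¹ * x = v * q * v⁻¹ * (v * x⁻¹ * v⁻¹) := by rw [h3]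
      _ = v * (q * x⁻¹) * v⁻¹ := by group
      _ = v * (x⁻¹ * q) * v⁻¹ := by rw [h4]
      _ = (v * x⁻¹ * v⁻¹) * (v * q * v⁻¹) := by group
      _ = x * (v * q * v⁻¹) := by rw [h3]
  obtain ⟨z, hzQ, hzrv, hzr⟩ : ∃ z ∈ Q₁, (r * v) * z = z * (r * v) ∧ r * z ≠ z * r := by
    by_contra hcon
    push Not at hcon
    have h1 := Cfsg.Agent.Lib.KleinGen.le_of_klein Q₁ (centralizer ({r} : Set G)) hQ₁odd r v hr2 hv2 hrv hrQ₁ hvQ₁
      inf_le_right (by
        intro q hq
        rw [mem_centralizer_singleton_iff]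
        exact (hfix q hq.1.1 (mem_centralizer_singleton_iff.1 hq.2) (hQ₁x q hq.1)).symm) (by
        intro q hq
        rw [mem_centralizer_singleton_iff]
        exact (hcon q hq.1 (mem_centralizer_singleton_iff.1 hq.2).symm).symm)
    exact hu₁r (mem_centralizer_singleton_iff.1 (h1 ⟨hu₁Q, mem_centralizer_singleton_iff.2 hu₁x⟩)).symm
  -- the element `y = z⁻¹ z^r`
  set y := z⁻¹ * (r * z * r⁻¹) with hy
  have hyQ : y ∈ Q₁ := mul_mem (inv_mem hzQ) (hrQ₁ z hzQ)
  have hyr : r * y * r⁻¹ = y⁻¹ := by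
    rw [hy, hri]
    calc r * (z⁻¹ * (r * z * r)) * r = r * z⁻¹ * r * z * (r * r) := by group
      _ = r * z⁻¹ * r * z := by rw [hr2, mul_one]
      _ = (z⁻¹ * (r⁻¹ * z * r⁻¹))⁻¹ := by group
      _ = (z⁻¹ * (r * z * r))⁻¹ := by rw [hri]
  have hy1 : y ≠ 1 := by
    intro h
    apply hzr
    have h2 : r * z * r⁻¹ = z := by
      rw [hy] at h
      exact (inv_mul_eq_one.1 h).symm
    calc r * z = (r * z * r⁻¹) * r := by group
      _ = z * r := by rw [h2]
  have hyrv : (r * v) * y = y * (r * v) := by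
    have h1 : Commute (r * v) z := hzrv
    have h2 : Commute (r * v) r := by
      show r * v * r = r * (r * v)
      rw [mul_assoc, ← hrv, ← mul_assoc]
    exact (h1.inv_right.mul_right ((h2.mul_right h1).mul_right h2.inv_right)).eq
  have hyv : v * y * v⁻¹ = y⁻¹ := by
    have h1 : v = r * (r * v) := by rw [← mul_assoc, hr2, one_mul]
    calc v * y * v⁻¹ = r * (r * v) * y * (r * (r * v))⁻¹ := by rw [← h1]
      _ = r * ((r * v) * y) * (r * v)⁻¹ * r⁻¹ := by group
      _ = r * (y * (r * v)) * (r * v)⁻¹ * r⁻¹ := by rw [hyrv]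
      _ = r * y * r⁻¹ := by group
      _ = y⁻¹ := hyr
  have hyx : Commute y x := hQ₁x y hyQ
  obtain ⟨j, hj⟩ := pow_of_mem hQ₁p hyQ
  -- the new pair `(v, x y)`
  have hxyp : (x * y) ^ p ^ (k + j) = 1 := by
    rw [hyx.symm.mul_pow, pow_add, pow_mul, hk, one_pow, mul_comm (p ^ k), pow_mul, hj, one_pow, one_mul]
  have hxy1 : x * y ≠ 1 := by
    intro h
    apply hy1
    have h1 : y = x⁻¹ := (inv_eq_of_mul_eq_one_right h).symm
    have h2 : r * y * r⁻¹ = y := by
      rw [h1]
      calc r * x⁻¹ * r⁻¹ = (r * x * r⁻¹)⁻¹ := by group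
        _ = x⁻¹ := by rw [hrxc]
    rw [hyr] at h2
    exact eq_one_of_sq hp2 hj (by rw [← inv_mul_cancel y, h2])
  have hvxy : v * (x * y) * v⁻¹ = (x * y)⁻¹ := by
    calc v * (x * y) * v⁻¹ = (v * x * v⁻¹) * (v * y * v⁻¹) := by group
      _ = x⁻¹ * y⁻¹ := by rw [hvx, hyv]
      _ = (y * x)⁻¹ := by group
      _ = (x * y)⁻¹ := by rw [hyx.eq]
  have hcomm : ∀ w ∈ V, w * (x * y) = (x * y) * w → w * x = x * w ∧ w * y = y * w := by
    intro w hw hwc
    have h1 : Commute w (x * y) := hwc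
    have h2 : Commute w r := hVc w hw r hrV
    have h3 : r * (x * y) * r⁻¹ = x * y⁻¹ := by
      calc r * (x * y) * r⁻¹ = (r * x * r⁻¹) * (r * y * r⁻¹) := by group
        _ = x * y⁻¹ := by rw [hrxc, hyr]
    have h4 : Commute w (x * y⁻¹) := by
      rw [← h3]
      exact (h2.mul_right h1).mul_right h2.inv_right
    have h5 : (x * y) * (x * y⁻¹) = x * x := by
      calc (x * y) * (x * y⁻¹) = x * (y * x) * y⁻¹ := by group
        _ = x * (x * y) * y⁻¹ := by rw [hyx.eq]
        _ = x * x := by group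
    have h6 : Commute w (x * x) := by
      rw [← h5]
      exact h1.mul_right h4
    -- `x` is a power of `x²`
    have h7 : Commute w x := by
      obtain ⟨m, hm⟩ := hodd
      have h8 : x = (x * x) ^ (m + 1) := by
        rw [← pow_two, ← pow_mul, show 2 * (m + 1) = (2 * m + 1) + 1 by ring, pow_succ, ← hm, pow_orderOf_eq_one,
          one_mul]
      rw [h8]
      exact h6.pow_right _
    refine ⟨h7.eq, ?_⟩
    have h8 : Commute w (x⁻¹ * (x * y)) := h7.inv_right.mul_right h1
    rw [inv_mul_cancel_left] at h8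
    exact h8.eq
  refine ih _ ?_ hv (mul_mem hxK (hQK hyQ.1)) hxy1 ⟨_, hxyp⟩ hvxy rfl
  rw [hn]
  have hlt : (V ⊓ centralizer ({x * y} : Set G) : Subgroup G) < V ⊓ centralizer ({x} : Set G) := by
    rw [SetLike.lt_iff_le_and_exists]
    refine ⟨fun w hw => ⟨hw.1, ?_⟩, r, ⟨hrV, mem_centralizer_singleton_iff.2 hrx⟩, ?_⟩
    · exact mem_centralizer_singleton_iff.2 (hcomm w hw.1 (mem_centralizer_singleton_iff.1 hw.2)).1
    · rintro ⟨-, h⟩
      have h1 := (hcomm r hrV (mem_centralizer_singleton_iff.1 h)).2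
      have h2 : r * y * r⁻¹ = y := by rw [h1]; group
      rw [hyr] at h2
      exact hy1 (eq_one_of_sq hp2 hj (by rw [← inv_mul_cancel y, h2]))
  refine lt_of_le_of_ne (Nat.le_of_dvd Nat.card_pos (card_dvd_of_le hlt.le)) fun h => ?_
  exact hlt.ne (Subgroup.eq_of_le_of_card_ge hlt.le h.ge)

/-- **No involution of `V` centralises a nontrivial `p`-element of `K`.** -/
theorem no_centralized (hK : K.Normal) (hp2 : p ≠ 2) (hN : NoCent p K) (hQ : HasQ p K) (hV2 : ∀ a ∈ V, a * a = 1)
    (hVc : ∀ a ∈ V, ∀ b ∈ V, a * b = b * a) (hT : T1 V) {v x : G} (hv : v ∈ V) (hv1 : v ≠ 1) (hxK : x ∈ K)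
    (hx1 : x ≠ 1) (hxp : ∃ k : ℕ, x ^ p ^ k = 1) (hvx : v * x = x * v) : False := by
  obtain ⟨Q, hQK, hQp, hxQ, hQc, hQn⟩ := hQ x hxK hx1 hxp
  have hv2 := hV2 v hv
  have hvi : v⁻¹ = v := inv_eq_of_mul_eq_one_right hv2
  have hvQ : ∀ q ∈ Q, v * q * v⁻¹ ∈ Q := hQn v (Or.inl (by rw [hvx]; group))
  obtain ⟨z, hz, hzv⟩ := hN.not_cent hK hp2 hv2 hv1 hQK hQp hQc
  have hyQ : z⁻¹ * (v * z * v⁻¹) ∈ Q := mul_mem (inv_mem hz) (hvQ z hz)
  refine no_inverted hK hp2 hN hQ hV2 hVc hT hv (hQK hyQ) ?_ (pow_of_mem hQp hyQ) ?_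
  · intro h
    apply hzv
    have h2 : v * z * v⁻¹ = z := (inv_mul_eq_one.1 h).symm
    calc v * z = (v * z * v⁻¹) * v := by group
      _ = z * v := by rw [h2]
  · rw [hvi]
    calc v * (z⁻¹ * (v * z * v)) * v = v * z⁻¹ * v * z * (v * v) := by group
      _ = v * z⁻¹ * v * z := by rw [hv2, mul_one]
      _ = (z⁻¹ * (v⁻¹ * z * v⁻¹))⁻¹ := by group
      _ = (z⁻¹ * (v * z * v))⁻¹ := by rw [hvi]

end Cfsg.Agent.H465.SK
end

-- part: H736/SK/Ginv
section
prune_inst 0x300000000000000000000000000000002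
set_option linter.all false
open scoped Cfsg.Agent.FastGrp

/-!
# S3010, `PSp_2m(q)`, `q` even: opposite of a symmetric nilpotent element (helper736)

* `ginv` : in a ring of characteristic 2 with an anti-involution `st`: a symmetric `N` with `N² = 0` and a generalized
  inverse has a symmetric `M` with `M² = 0`, `N M N = N`, `M N M = M`;
* `exists_opp` : the case of matrices and the symplectic form.
-/

set_option autoImplicit false

namespace Cfsg.Agent.H736.SK

open Matrix Cfsg Cfsg.Agent.ClassicalGeometry.SympBasic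

/-- **Symmetric square zero generalized inverses.** -/
theorem ginv {R : Type*} [Ring R] (h2 : ∀ x : R, x + x = 0) (st : R → R)
    (hadd : ∀ a b, st (a + b) = st a + st b) (hmul : ∀ a b, st (a * b) = st b * st a)
    (hst : ∀ a, st (st a) = a) (h1 : st 1 = 1) {N : R} (hN : st N = N) (hNN : N * N = 0)
    (hg : ∃ A, N * A * N = N) (halt : ∀ B, ∃ T, st B * B = T + st T) :
    ∃ M, st M = M ∧ M * M = 0 ∧ N * M * N = N ∧ M * N * M = M := by
  obtain ⟨A, hA⟩ := hg
  have hA' : N * st A * N = N := by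
    have h := congrArg st hA
    rw [hmul, hmul, hN, ← mul_assoc] at h
    exact h
  obtain ⟨B, hB⟩ : ∃ B, B = A * N * st A := ⟨_, rfl⟩
  have hB1 : st B = B := by
    rw [hB, hmul, hmul, hst, hN, mul_assoc]
  have hB2 : N * B * N = N := by
    calc N * B * N = (N * A * N) * st A * N := by rw [hB]; noncomm_ring
      _ = N := by rw [hA, hA']
  have hB3 : B * N * B = B := by
    calc B * N * B = A * (N * st A * N) * A * N * st A := by
          conv_lhs => rw [hB]
          noncomm_ring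
      _ = A * (N * A * N) * st A := by rw [hA']; noncomm_ring
      _ = B := by rw [hA, hB]
  obtain ⟨T, hT⟩ := halt B
  rw [hB1] at hT
  have c1 : (1 + N * st T * N) * N = N := by
    rw [add_mul, one_mul, mul_assoc, hNN, mul_zero, add_zero]
  have c2 : N * (1 + N * T * N) = N := by
    rw [mul_add, mul_one, ← mul_assoc, ← mul_assoc, hNN, zero_mul, zero_mul, add_zero]
  have c3 : (1 + N * st T * N) * (1 + N * T * N) = 1 + N * (T + st T) * N := by
    have h : N * st T * N * (N * T * N) = 0 := by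
      rw [mul_assoc (N * st T) N, ← mul_assoc N (N * T), ← mul_assoc N N, hNN, zero_mul, zero_mul, mul_zero]
    calc (1 + N * st T * N) * (1 + N * T * N) = 1 + N * (T + st T) * N + N * st T * N * (N * T * N) := by
          noncomm_ring
      _ = _ := by rw [h, add_zero]
  refine ⟨(1 + N * T * N) * B * (1 + N * st T * N), ?_, ?_, ?_, ?_⟩
  · rw [hmul, hmul, hB1, hadd, hadd, h1, hmul, hmul, hmul, hmul, hst, hN]
    noncomm_ring
  · have e : B * ((1 + N * st T * N) * (1 + N * T * N)) * B = 0 := by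
      rw [c3, ← hT]
      calc B * (1 + N * (B * B) * N) * B = B * B + (B * N * B) * (B * N * B) := by noncomm_ring
        _ = 0 := by rw [hB3, h2]
    calc (1 + N * T * N) * B * (1 + N * st T * N) * ((1 + N * T * N) * B * (1 + N * st T * N))
        = (1 + N * T * N) * (B * ((1 + N * st T * N) * (1 + N * T * N)) * B) * (1 + N * st T * N) := by
          noncomm_ring
      _ = 0 := by rw [e, mul_zero, zero_mul]
  · calc N * ((1 + N * T * N) * B * (1 + N * st T * N)) * N
        = (N * (1 + N * T * N)) * B * ((1 + N * st T * N) * N) := by noncomm_ring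
      _ = N := by rw [c1, c2, hB2]
  · calc (1 + N * T * N) * B * (1 + N * st T * N) * N * ((1 + N * T * N) * B * (1 + N * st T * N))
        = (1 + N * T * N) * B * ((1 + N * st T * N) * N) * (1 + N * T * N) * B * (1 + N * st T * N) := by
          noncomm_ring
      _ = (1 + N * T * N) * (B * (N * (1 + N * T * N)) * B) * (1 + N * st T * N) := by
          rw [c1]; noncomm_ring
      _ = _ := by rw [c2, hB3]

/-- symmetric matrices with zero diagonal -/
theorem exists_upper {ι F : Type*} [Fintype ι] [DecidableEq ι] [Field F] {B : Matrix ι ι F} (hs : Bᵀ = B)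
    (hd : ∀ i, B i i = 0) : ∃ L : Matrix ι ι F, B = L + Lᵀ := by
  classical
  refine ⟨fun i j => if Fintype.equivFin ι i < Fintype.equivFin ι j then B i j else 0, ?_⟩
  ext i j
  have hij : B j i = B i j := congrFun (congrFun hs i) j
  change B i j = (if Fintype.equivFin ι i < Fintype.equivFin ι j then B i j else 0) +
    (if Fintype.equivFin ι j < Fintype.equivFin ι i then B j i else 0)
  rcases lt_trichotomy (Fintype.equivFin ι i) (Fintype.equivFin ι j) with h | h | h
  · rw [if_pos h, if_neg h.le.not_gt, add_zero]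
  · have h' : i = j := (Fintype.equivFin ι).injective h
    subst h'
    rw [if_neg (lt_irrefl _), add_zero, hd]
  · rw [if_neg h.le.not_gt, if_pos h, zero_add, hij]

/-- generalized inverses -/
theorem exists_ginv {ι F : Type*} [Fintype ι] [DecidableEq ι] [Field F] (N : Matrix ι ι F) :
    ∃ A : Matrix ι ι F, N * A * N = N := by
  let f := Matrix.toLin' N
  obtain ⟨r, hr⟩ := LinearMap.exists_rightInverse_of_surjective f.rangeRestrict (LinearMap.range_rangeRestrict f)
  obtain ⟨g, hg⟩ := LinearMap.exists_extend r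
  refine ⟨LinearMap.toMatrix' g, ?_⟩
  apply Matrix.toLin'.injective
  rw [Matrix.toLin'_mul, Matrix.toLin'_mul, Matrix.toLin'_toMatrix']
  refine LinearMap.ext fun x => ?_
  have h1 : g (f x) = r (f.rangeRestrict x) := by
    rw [← hg]
    rfl
  have h2 : f (r (f.rangeRestrict x)) = f x := congrArg Subtype.val (LinearMap.congr_fun hr (f.rangeRestrict x))
  change f (g (f x)) = f x
  rw [h1, h2]

/-! ### The symplectic adjoint -/

section Adj

variable {F : Type*} [Field F] [CharP F 2] {m : ℕ}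

local notation "ι" => Fin m ⊕ Fin m
local notation "J" => Matrix.J (Fin m) F

theorem add_self_mat (x : Matrix ι ι F) : x + x = 0 := by
  ext i j
  exact CharTwo.add_self_eq_zero _

theorem neg_mat (x : Matrix ι ι F) : -x = x := by
  rw [neg_eq_iff_add_eq_zero]
  exact add_self_mat x

theorem J_sq : (J : Matrix ι ι F) * J = 1 := by
  rw [Matrix.J_squared, neg_mat]

theorem J_tr : (J : Matrix ι ι F)ᵀ = J := by
  rw [Matrix.J_transpose, neg_mat]

/-- the adjoint -/
def adj (A : Matrix ι ι F) : Matrix ι ι F := J * Aᵀ * J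

omit [CharP F 2] in
theorem adj_add (A B : Matrix ι ι F) : adj (A + B) = adj A + adj B := by
  unfold adj
  rw [transpose_add, mul_add, add_mul]

theorem adj_mul (A B : Matrix ι ι F) : adj (A * B) = adj B * adj A := by
  unfold adj
  rw [transpose_mul]
  calc J * (Bᵀ * Aᵀ) * J = J * Bᵀ * 1 * Aᵀ * J := by noncomm_ring
    _ = J * Bᵀ * J * (J * Aᵀ * J) := by rw [← J_sq]; noncomm_ring

theorem adj_adj (A : Matrix ι ι F) : adj (adj A) = A := by
  unfold adj
  rw [transpose_mul, transpose_mul, J_tr, transpose_transpose]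
  calc J * (J * (A * J)) * J = (J * J) * A * (J * J) := by noncomm_ring
    _ = A := by rw [J_sq, one_mul, mul_one]

theorem adj_one : adj (1 : Matrix ι ι F) = 1 := by
  unfold adj
  rw [transpose_one, mul_one, J_sq]

theorem adj_eq_iff {A : Matrix ι ι F} : adj A = A ↔ Aᵀ * J = J * A := by
  unfold adj
  constructor
  · intro h
    calc Aᵀ * J = (J * J) * (Aᵀ * J) := by rw [J_sq, one_mul]
      _ = J * (J * Aᵀ * J) := by noncomm_ring
      _ = J * A := by rw [h]
  · intro h
    rw [mul_assoc, h, ← mul_assoc, J_sq, one_mul]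

omit [CharP F 2] in
theorem adj_smul (c : F) (A : Matrix ι ι F) : adj (c • A) = c • adj A := by
  unfold adj
  rw [transpose_smul, Matrix.mul_smul, Matrix.smul_mul]

omit [CharP F 2] in
theorem form_mul (B : Matrix ι ι F) (u v : ι → F) :
    sympForm m F (B *ᵥ u) (B *ᵥ v) = u ⬝ᵥ ((Bᵀ * J * B) *ᵥ v) := by
  rw [sympForm_def, ← Matrix.mulVec_mulVec, ← Matrix.mulVec_mulVec, Matrix.dotProduct_mulVec u, Matrix.vecMul_transpose]

/-- **The opposite of a symmetric nilpotent matrix.** -/
theorem exists_opp {N : Matrix ι ι F} (hN : adj N = N) (hNN : N * N = 0) :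
    ∃ M : Matrix ι ι F, adj M = M ∧ M * M = 0 ∧ N * M * N = N ∧ M * N * M = M := by
  have key := ginv (R := Matrix ι ι F) add_self_mat (fun A => adj A) (fun a b => adj_add a b) (fun a b => adj_mul a b)
    (fun a => adj_adj a) adj_one hN hNN (exists_ginv N)
  apply key
  intro B
  have hsym : (Bᵀ * J * B)ᵀ = Bᵀ * J * B := by
    rw [transpose_mul, transpose_mul, J_tr, transpose_transpose, mul_assoc]
  have hd : ∀ i, (Bᵀ * J * B) i i = 0 := by
    intro i
    have h := form_mul B (Pi.single i 1) (Pi.single i 1)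
    rw [sympForm_self, Matrix.mulVec_single_one, single_one_dotProduct] at h
    exact h.symm
  obtain ⟨L, hL⟩ := exists_upper hsym hd
  refine ⟨J * L, ?_⟩
  calc adj B * B = J * (Bᵀ * J * B) := by unfold adj; noncomm_ring
    _ = J * (L + Lᵀ) := by rw [← hL]
    _ = J * L + J * Lᵀ := by rw [mul_add]
    _ = J * L + adj (J * L) := by
      unfold adj
      rw [transpose_mul, J_tr]
      congr 1
      calc J * Lᵀ = J * Lᵀ * (J * J) := by rw [J_sq, mul_one]
        _ = J * (Lᵀ * J) * J := by noncomm_ring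

end Adj

end Cfsg.Agent.H736.SK
end

-- part: H736/SK/PspCore
section
prune_inst 0x35506554746212000018059631200460b40004b200434000f9610142094a7862edc52e413a302e154ada29d16001406003100000424000000e20080040050020800040009348010426008f800080000000000000300000000000000000041004000000002
set_option linter.all false
open scoped Cfsg.Agent.FastGrp

/-!
# S3010, `PSp_2m(q)`, `q` even: the centralizer of a homogeneous dihedral group (helper736)

`N`, `M` symmetric nilpotent with `N M N = N`, `M N M = M`, `R` a 2-group of symplectic matrices commuting with `N`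
and `M`, normalized by all symplectic matrices commuting with `N` and `M`.

* `fix_of` : a normal 2-subgroup acts trivially on a nondegenerate space with all its transvections;
* `fix_perp` : `R` is trivial on `ker N ∩ ker M`;
* `eq_one_of_alt` : `R = 1` if `(ξ, N ξ) = 0` for all `ξ`;
* `alt_of_mem` : `(ξ, r ξ) = 0` for all involutions `r` of `R`.
-/

set_option autoImplicit false
set_option linter.unusedSectionVars false

namespace Cfsg.Agent.H736.SK

open Matrix Cfsg Cfsg.Agent.ClassicalGeometry.SympBasic Cfsg.Agent.ClassicalGeometry.SympSiegel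

variable {F : Type*} [Field F] [CharP F 2] {m : ℕ}

local notation "V" => (Fin m ⊕ Fin m → F)
local notation "G" => Matrix.symplecticGroup (Fin m) F
local notation "f" => sympForm m F
local notation "Mt" => Matrix (Fin m ⊕ Fin m) (Fin m ⊕ Fin m) F

theorem add_self_vec (x : V) : x + x = 0 := by
  ext i
  exact CharTwo.add_self_eq_zero _

theorem form_comm (u v : V) : f u v = f v u := by rw [sympForm_swap, CharTwo.neg_eq]

/-- symmetric operators -/
theorem form_adj {A : Mt} (hA : adj A = A) (u v : V) : f (A *ᵥ u) v = f u (A *ᵥ v) := by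
  rw [sympForm_def, sympForm_def, Matrix.mulVec_mulVec, ← adj_eq_iff.1 hA, ← Matrix.mulVec_mulVec,
    Matrix.dotProduct_mulVec u, Matrix.vecMul_transpose]

/-- `(1 + a)^(2^k) = 1 + a^(2^k)` -/
theorem one_add_pow {R : Type*} [Ring R] (h2 : ∀ x : R, x + x = 0) (a : R) (k : ℕ) :
    (1 + a) ^ 2 ^ k = 1 + a ^ 2 ^ k := by
  induction k with
  | zero => rw [pow_zero, pow_one, pow_one]
  | succ k ih =>
    rw [pow_succ 2 k, pow_mul, ih, pow_mul, pow_two, pow_two]
    calc (1 + a ^ 2 ^ k) * (1 + a ^ 2 ^ k) = 1 + (a ^ 2 ^ k + a ^ 2 ^ k) + a ^ 2 ^ k * a ^ 2 ^ k := by noncomm_ring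
      _ = _ := by rw [h2, add_zero]

/-- an element moving `z` to `z + c z'` and `z'` to `z' + c z + c² z'` is not of 2-power order -/
theorem not_two {g : G} {k : ℕ} (hg : g ^ 2 ^ k = 1) {z z' : V} {c : F} (hc : c ≠ 0) (hz : z ≠ 0)
    (h1 : g • z = z + c • z') (h2 : g • z' = z' + c • z + (c * c) • z') : False := by
  obtain ⟨D, hD⟩ : ∃ D : Mt, D = 1 + (g : Mt) := ⟨_, rfl⟩
  have hD0 : D ^ 2 ^ k = 0 := by
    rw [hD, one_add_pow add_self_mat]
    have e : (g : Mt) ^ 2 ^ k = 1 := by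
      rw [← SubmonoidClass.coe_pow, hg]
      rfl
    rw [e, add_self_mat]
  have e1 : D *ᵥ z = c • z' := by
    rw [hD, Matrix.add_mulVec, Matrix.one_mulVec, ← smul_def, h1, ← add_assoc, add_self_vec, zero_add]
  have e2 : D *ᵥ z' = c • z + (c * c) • z' := by
    rw [hD, Matrix.add_mulVec, Matrix.one_mulVec, ← smul_def, h2, add_assoc, ← add_assoc z' z', add_self_vec, zero_add]
  have key : ∀ j : ℕ, D ^ j *ᵥ z = 0 → D ^ j *ᵥ z' = 0 → False := by
    intro j
    induction j with
    | zero =>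
      intro h _
      rw [pow_zero, Matrix.one_mulVec] at h
      exact hz h
    | succ j ih =>
      intro h h'
      rw [pow_succ, ← Matrix.mulVec_mulVec, e1, Matrix.mulVec_smul] at h
      have h3 : D ^ j *ᵥ z' = 0 := (smul_eq_zero.1 h).resolve_left hc
      rw [pow_succ, ← Matrix.mulVec_mulVec, e2, Matrix.mulVec_add, Matrix.mulVec_smul, Matrix.mulVec_smul, h3,
        smul_zero, add_zero] at h'
      exact ih ((smul_eq_zero.1 h').resolve_left hc) h3
  exact key (2 ^ k) (by rw [hD0, Matrix.zero_mulVec]) (by rw [hD0, Matrix.zero_mulVec])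

/-- **A normal 2-subgroup acts trivially on a nondegenerate space with all its transvections.** -/
theorem fix_of {R C : Subgroup G} (hR : IsPGroup 2 R) (hn : ∀ c ∈ C, ∀ r ∈ R, c * r * c⁻¹ ∈ R) (Y : Submodule F V)
    (hY : ∀ r ∈ R, ∀ y ∈ Y, r • y ∈ Y) (B : V → V → F) (hadd : ∀ u v w, B (u + v) w = B u w + B v w)
    (hsmul : ∀ (a : F) u v, B (a • u) v = a * B u v) (hsymm : ∀ u v, B u v = B v u) (halt : ∀ u, B u u = 0)
    (hinv : ∀ r ∈ R, ∀ y z, B (r • y) (r • z) = B y z)
    (ht : ∀ z ∈ Y, ∃ c ∈ C, ∀ y ∈ Y, c • y = y + B y z • z)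
    (hnd : ∀ z ∈ Y, (∀ y ∈ Y, B y z = 0) → z = 0) : ∀ r ∈ R, ∀ z ∈ Y, r • z = z := by
  have hadd' : ∀ u v w, B w (u + v) = B w u + B w v := fun u v w => by rw [hsymm, hadd, hsymm u, hsymm v]
  have hsmul' : ∀ (a : F) u v, B v (a • u) = a * B v u := fun a u v => by rw [hsymm, hsmul, hsymm u]
  -- the commutator
  have key : ∀ r ∈ R, ∀ z ∈ Y, ∃ g ∈ R, ∀ y ∈ Y,
      g • y = (y + B y z • z) + B (y + B y z • z) (r • z) • (r • z) := by
    intro r hr z hz
    obtain ⟨c, hc, hcy⟩ := ht z hz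
    refine ⟨r * (c * r⁻¹ * c⁻¹), R.mul_mem hr (hn c hc _ (R.inv_mem hr)), fun y hy => ?_⟩
    have h1 : c⁻¹ • y = y + B y z • z := by
      rw [inv_smul_eq_iff, smul_add', hcy y hy, smul_smul', hcy z hz, halt, zero_smul, add_zero, add_assoc,
        add_self_vec, add_zero]
    have hy1 : y + B y z • z ∈ Y := Y.add_mem hy (Y.smul_mem _ hz)
    rw [mul_smul, mul_smul, mul_smul, h1]
    set y1 := y + B y z • z with hy1def
    have h2 : r⁻¹ • y1 ∈ Y := hY _ (R.inv_mem hr) _ hy1
    rw [hcy _ h2, smul_add', smul_inv_smul, smul_smul']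
    congr 2
    have h3 := hinv r hr (r⁻¹ • y1) z
    rw [smul_inv_smul] at h3
    exact h3.symm
  -- `B z (r z) = 0`
  have h0 : ∀ r ∈ R, ∀ z ∈ Y, B z (r • z) = 0 := by
    intro r hr z hz
    by_contra hc
    obtain ⟨g, hg, hgy⟩ := key r hr z hz
    obtain ⟨k, hk⟩ := hR ⟨g, hg⟩
    have hk' : g ^ 2 ^ k = 1 := congrArg Subtype.val hk
    have hz0 : z ≠ 0 := by
      rintro rfl
      apply hc
      have := hsmul 0 (0 : V) (r • (0 : V))
      rwa [zero_smul, zero_mul] at this
    refine not_two hk' (z := z) (z' := r • z) hc hz0 ?_ ?_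
    · rw [hgy z hz, halt, zero_smul, add_zero]
    · rw [hgy _ (hY r hr z hz), hadd, hsmul, halt, hsymm (r • z) z, zero_add]
  intro r hr z hz
  have hrz := hY r hr z hz
  obtain ⟨g, hg, hgy⟩ := key r hr z hz
  have h1 : z + r • z = 0 := by
    refine hnd _ (Y.add_mem hz hrz) fun y hy => ?_
    have h2 := h0 g hg y hy
    rw [hgy y hy, hadd, hsmul, h0 r hr z hz, mul_zero, add_zero, hadd', hadd', halt, zero_add, hsmul', hsmul'] at h2
    have h3 : (B y z + B y (r • z)) * (B y z + B y (r • z)) = 0 := by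
      have e : (B y z + B y (r • z)) * (B y z + B y (r • z)) =
          (B y z * B y z + B y (r • z) * B y (r • z)) + (B y z * B y (r • z) + B y z * B y (r • z)) := by ring
      rw [e, h2, CharTwo.add_self_eq_zero, add_zero]
    rw [hadd']
    exact mul_self_eq_zero.1 h3
  have h2 : z + r • z = z + z := by rw [h1, add_self_vec]
  exact add_left_cancel h2

/-- `M` is an opposite of `N`. -/
structure Opp (N M : Mt) : Prop where
  aN : adj N = N
  NN : N * N = 0
  aM : adj M = M
  MM : M * M = 0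
  NMN : N * M * N = N
  MNM : M * N * M = M

namespace Opp

variable {N M : Matrix (Fin m ⊕ Fin m) (Fin m ⊕ Fin m) F} (h : Opp N M)

include h

theorem NMN' (v : V) : N *ᵥ (M *ᵥ (N *ᵥ v)) = N *ᵥ v := by
  rw [Matrix.mulVec_mulVec, Matrix.mulVec_mulVec, h.NMN]

theorem MNM' (v : V) : M *ᵥ (N *ᵥ (M *ᵥ v)) = M *ᵥ v := by
  rw [Matrix.mulVec_mulVec, Matrix.mulVec_mulVec, h.MNM]

theorem NN' (v : V) : N *ᵥ (N *ᵥ v) = 0 := by rw [Matrix.mulVec_mulVec, h.NN, Matrix.zero_mulVec]

theorem MM' (v : V) : M *ᵥ (M *ᵥ v) = 0 := by rw [Matrix.mulVec_mulVec, h.MM, Matrix.zero_mulVec]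

/-- the decomposition of a vector -/
theorem decomp (v : V) : ∃ y : V, N *ᵥ y = 0 ∧ M *ᵥ y = 0 ∧ v = y + M *ᵥ (N *ᵥ v) + N *ᵥ (M *ᵥ v) := by
  refine ⟨v + M *ᵥ (N *ᵥ v) + N *ᵥ (M *ᵥ v), ?_, ?_, ?_⟩
  · rw [Matrix.mulVec_add, Matrix.mulVec_add, h.NMN', h.NN', add_zero, add_self_vec]
  · rw [Matrix.mulVec_add, Matrix.mulVec_add, h.MNM', h.MM', add_zero, add_self_vec]
  · have e : v + M *ᵥ (N *ᵥ v) + N *ᵥ (M *ᵥ v) + M *ᵥ (N *ᵥ v) + N *ᵥ (M *ᵥ v) =
        v + (M *ᵥ (N *ᵥ v) + M *ᵥ (N *ᵥ v)) + (N *ᵥ (M *ᵥ v) + N *ᵥ (M *ᵥ v)) := by abel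
    rw [e, add_self_vec, add_self_vec, add_zero, add_zero]

/-- `ker N ∩ ker M` is orthogonal to the images -/
theorem perp_N {y : V} (hy : N *ᵥ y = 0) (v : V) : f y (N *ᵥ v) = 0 := by
  rw [← form_adj h.aN, hy, sympForm_zero_left]

theorem perp_M {y : V} (hy : M *ᵥ y = 0) (v : V) : f y (M *ᵥ v) = 0 := by
  rw [← form_adj h.aM, hy, sympForm_zero_left]

variable {R C : Subgroup (Matrix.symplecticGroup (Fin m) F)} (hR : IsPGroup 2 R)
  (hn : ∀ c ∈ C, ∀ r ∈ R, c * r * c⁻¹ ∈ R)
  (hC : ∀ c : Matrix.symplecticGroup (Fin m) F, c ∈ C ↔ (∀ v : Fin m ⊕ Fin m → F, c • (N *ᵥ v) = N *ᵥ (c • v)) ∧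
    ∀ v : Fin m ⊕ Fin m → F, c • (M *ᵥ v) = M *ᵥ (c • v))
  (hRC : R ≤ C)

include hR hn hC hRC

/-- `R` is trivial on `ker N ∩ ker M` -/
theorem fix_perp {r : G} (hr : r ∈ R) {z : V} (hzN : N *ᵥ z = 0) (hzM : M *ᵥ z = 0) : r • z = z := by
  let Y : Submodule F V :=
    { carrier := {z | N *ᵥ z = 0 ∧ M *ᵥ z = 0}
      add_mem' := fun {a b} ha hb => ⟨by rw [Matrix.mulVec_add, ha.1, hb.1, add_zero],
        by rw [Matrix.mulVec_add, ha.2, hb.2, add_zero]⟩
      zero_mem' := ⟨Matrix.mulVec_zero _, Matrix.mulVec_zero _⟩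
      smul_mem' := fun c a ha => ⟨by rw [Matrix.mulVec_smul, ha.1, smul_zero],
        by rw [Matrix.mulVec_smul, ha.2, smul_zero]⟩ }
  refine fix_of hR hn Y ?_ (fun u v => f u v) (fun u v w => sympForm_add_left u v w)
    (fun a u v => sympForm_smul_left a u v) form_comm sympForm_self (fun r _ y z => form_smul r y z) ?_ ?_ r hr z
    ⟨hzN, hzM⟩
  · intro r hr y hy
    obtain ⟨h1, h2⟩ := (hC r).1 (hRC hr)
    exact ⟨by rw [← h1, hy.1, smul_zero'], by rw [← h2, hy.2, smul_zero']⟩
  · intro z hz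
    refine ⟨transv z 1, ?_, fun y _ => by rw [transv_smul, one_mul]⟩
    rw [hC]
    constructor
    · intro v
      rw [transv_smul, transv_smul, Matrix.mulVec_add, Matrix.mulVec_smul, hz.1, smul_zero, add_zero, form_comm,
        h.perp_N hz.1, mul_zero, zero_smul, add_zero]
    · intro v
      rw [transv_smul, transv_smul, Matrix.mulVec_add, Matrix.mulVec_smul, hz.2, smul_zero, add_zero, form_comm,
        h.perp_M hz.2, mul_zero, zero_smul, add_zero]
  · intro z hz hall
    apply eq_zero_of_forall_sympForm_right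
    intro v
    obtain ⟨y, hyN, hyM, e⟩ := h.decomp v
    rw [e, sympForm_add_right, sympForm_add_right, h.perp_M hz.2, h.perp_N hz.1, add_zero, add_zero, form_comm]
    exact hall y ⟨hyN, hyM⟩

/-- **`R = 1` if `(ξ, N ξ) = 0` for all `ξ`** -/
theorem eq_one_of_alt (ha : ∀ v : V, f v (N *ᵥ v) = 0) {r : G} (hr : r ∈ R) : r = 1 := by
  let Y : Submodule F V :=
    { carrier := {z | M *ᵥ (N *ᵥ z) = z}
      add_mem' := fun {a b} ha hb => by
        change M *ᵥ (N *ᵥ (a + b)) = a + b
        rw [Matrix.mulVec_add, Matrix.mulVec_add, show M *ᵥ (N *ᵥ a) = a from ha, show M *ᵥ (N *ᵥ b) = b from hb]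
      zero_mem' := by
        change M *ᵥ (N *ᵥ 0) = 0
        rw [Matrix.mulVec_zero, Matrix.mulVec_zero]
      smul_mem' := fun c a ha => by
        change M *ᵥ (N *ᵥ (c • a)) = c • a
        rw [Matrix.mulVec_smul, Matrix.mulVec_smul, show M *ᵥ (N *ᵥ a) = a from ha] }
  have hYM : ∀ y ∈ Y, M *ᵥ y = 0 := by
    intro y hy
    have hy' : M *ᵥ (N *ᵥ y) = y := hy
    rw [← hy', h.MM']
  have hYY : ∀ y ∈ Y, ∀ z ∈ Y, f y z = 0 := by
    intro y hy z hz
    have hz' : M *ᵥ (N *ᵥ z) = z := hz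
    rw [← hz']
    exact h.perp_M (hYM y hy) _
  have hfix : ∀ z ∈ Y, r • z = z := by
    refine fix_of hR hn Y ?_ (fun u v => f u (N *ᵥ v)) (fun u v w => sympForm_add_left u v _)
      (fun a u v => sympForm_smul_left a u _) (fun u v => by rw [← form_adj h.aN, form_comm]) ha
      (fun r hr y z => ?_) ?_ ?_ r hr
    · intro r hr y hy
      obtain ⟨h1, h2⟩ := (hC r).1 (hRC hr)
      change M *ᵥ (N *ᵥ (r • y)) = r • y
      rw [← h1, ← h2]
      congr 1
    · obtain ⟨h1, h2⟩ := (hC r).1 (hRC hr)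
      rw [← h1, form_smul]
    · intro z hz
      have hz' : M *ᵥ (N *ᵥ z) = z := hz
      have h0 : f z (N *ᵥ z) = 0 := ha z
      have h0' : f (N *ᵥ z) z = 0 := by rw [form_comm]; exact h0
      refine ⟨siegel z (N *ᵥ z) 0, ?_, fun y hy => ?_⟩
      · rw [hC]
        constructor
        · intro v
          rw [siegel_smul h0, siegel_smul h0, zero_smul, add_zero, Matrix.mulVec_add, Matrix.mulVec_add,
            Matrix.mulVec_smul, Matrix.mulVec_smul, h.NN', smul_zero, add_zero, form_adj h.aN, h.NN',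
            sympForm_zero_right, zero_smul, add_zero, form_adj h.aN]
        · intro v
          rw [siegel_smul h0, siegel_smul h0, zero_smul, add_zero, Matrix.mulVec_add, Matrix.mulVec_add,
            Matrix.mulVec_smul, Matrix.mulVec_smul, hYM z hz, smul_zero, add_zero, hz', ← form_adj h.aM, hz',
            ← form_adj h.aM z, hYM z hz, sympForm_zero_left, zero_smul, add_zero]
      · rw [siegel_smul h0, zero_smul, add_zero, hYY z hz y hy, zero_smul, add_zero, form_comm (N *ᵥ z)]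
    · intro z hz hall
      have hz' : M *ᵥ (N *ᵥ z) = z := hz
      apply eq_zero_of_forall_sympForm_right
      intro v
      have h1 : f (M *ᵥ v) (N *ᵥ z) = 0 := hall (M *ᵥ v) (h.MNM' v)
      rw [form_adj h.aM, hz', form_comm] at h1
      exact h1
  obtain ⟨h1, h2⟩ := (hC r).1 (hRC hr)
  apply ext_smul
  intro v
  obtain ⟨y, hyN, hyM, e⟩ := h.decomp v
  rw [one_smul]
  conv_lhs => rw [e]
  conv_rhs => rw [e]
  rw [smul_add', smul_add', h.fix_perp hR hn hC hRC hr hyN hyM, hfix (M *ᵥ (N *ᵥ v)) (by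
    change M *ᵥ (N *ᵥ (M *ᵥ (N *ᵥ v))) = _
    rw [h.MNM']), h1]
  congr 2
  exact hfix _ (h.MNM' v)

/-- **the involutions of `R` are alternating** -/
theorem alt_of_mem {r : G} (hr : r ∈ R) (hrr : r * r = 1) (v : V) : f v (r • v) = 0 := by
  obtain ⟨h1, h2⟩ := (hC r).1 (hRC hr)
  obtain ⟨y, hyN, hyM, e⟩ := h.decomp v
  set a := M *ᵥ (N *ᵥ v) with ha
  set b := N *ᵥ (M *ᵥ v) with hb
  have hry := h.fix_perp hR hn hC hRC hr hyN hyM
  have hra : r • a = M *ᵥ (r • (N *ᵥ v)) := h2 _
  have hrb : r • b = N *ᵥ (r • (M *ᵥ v)) := h1 _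
  have hrr' : ∀ u : V, r • (r • u) = u := fun u => by rw [← mul_smul, hrr, one_smul]
  rw [e, smul_add', smul_add', hry]
  simp only [sympForm_add_left, sympForm_add_right]
  have k1 : f y (r • a) = 0 := by rw [hra]; exact h.perp_M hyM _
  have k2 : f y (r • b) = 0 := by rw [hrb]; exact h.perp_N hyN _
  have k3 : f a y = 0 := by rw [form_comm]; exact h.perp_M hyM _
  have k4 : f b y = 0 := by rw [form_comm]; exact h.perp_N hyN _
  have k5 : f a (r • a) = 0 := by
    rw [hra, ← form_adj h.aM, ha, h.MM', sympForm_zero_left]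
  have k6 : f b (r • b) = 0 := by
    rw [hrb, ← form_adj h.aN, hb, h.NN', sympForm_zero_left]
  have k7 : f b (r • a) = f a (r • b) := by
    rw [← form_smul r b, hrr', form_comm]
  rw [k1, k2, k3, k4, k5, k6, k7, sympForm_self]
  simp only [zero_add, add_zero]
  exact CharTwo.add_self_eq_zero _

end Opp

end Cfsg.Agent.H736.SK
end

-- part: H736/SK/PspDih
section
prune_inst 0x211064547062120000188094212004609c0004b200430000e0210142094a7823edc02e403a302c154a880dd16001006003100009424000000e20000000050020800040001300010406008f800880000000000000300000000000000000041004000000002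
set_option linter.all false
open scoped Cfsg.Agent.FastGrp

/-!
# S3010, `PSp_2m(q)`, `q` even: the homogeneous dihedral group (helper736)

`v` an involution of `Sp_2m(F)`, `char F = 2`, `λ ≠ 0`: there is `x` of odd order inverted by `v` (`exists_inv`) with

* every 2-subgroup `R` of `C = C(⟨v, x⟩)` normalized by `C` is trivial if `(w, v w) = 0` for all `w`, and its
  involutions `r` satisfy `(w, r w) = 0` in any case;
* a semilinear map commuting with `v` and `x` fixes `λ`.
-/

set_option autoImplicit false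
set_option linter.unusedSectionVars false
set_option linter.unusedSimpArgs false

namespace Cfsg.Agent.H736.SK

open Matrix Cfsg Cfsg.Agent.ClassicalGeometry.SympBasic Cfsg.Agent.ClassicalGeometry.SympSiegel

variable {F : Type*} [Field F] [CharP F 2] {m : ℕ}

local notation "V" => (Fin m ⊕ Fin m → F)
local notation "G" => Matrix.symplecticGroup (Fin m) F
local notation "f" => sympForm m F
local notation "Mt" => Matrix (Fin m ⊕ Fin m) (Fin m ⊕ Fin m) F

/-- `1 + A` is symplectic -/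
theorem one_add_mem {A : Mt} (hA : adj A = A) (hAA : A * A = 0) : 1 + A ∈ Matrix.symplecticGroup (Fin m) F := by
  rw [mem_symplecticGroup_iff]
  intro u v
  rw [Matrix.add_mulVec, Matrix.add_mulVec, Matrix.one_mulVec, Matrix.one_mulVec, sympForm_add_left,
    sympForm_add_right, sympForm_add_right, form_adj hA, form_adj hA, Matrix.mulVec_mulVec, hAA, Matrix.zero_mulVec,
    sympForm_zero_right, add_zero, add_assoc, CharTwo.add_self_eq_zero, add_zero]

/-- the nilpotent matrix of an involution -/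
theorem adj_of_inv {v : G} (hv : v * v = 1) : adj (1 + (v : Mt)) = 1 + (v : Mt) := by
  have h1 : (v : Mt) * (v : Mt) = 1 := by
    have := congrArg Subtype.val hv
    exact this
  rw [adj_eq_iff, transpose_add, transpose_one, add_mul, mul_add, one_mul, mul_one]
  congr 1
  have h2 := SymplecticGroup.mem_iff'.1 v.2
  calc (v : Mt)ᵀ * Matrix.J (Fin m) F = (v : Mt)ᵀ * Matrix.J (Fin m) F * ((v : Mt) * v) := by rw [h1, mul_one]
    _ = ((v : Mt)ᵀ * Matrix.J (Fin m) F * v) * v := by noncomm_ring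
    _ = Matrix.J (Fin m) F * v := by rw [h2]

theorem sq_of_inv {v : G} (hv : v * v = 1) : (1 + (v : Mt)) * (1 + (v : Mt)) = 0 := by
  have h1 : (v : Mt) * (v : Mt) = 1 := by
    have := congrArg Subtype.val hv
    exact this
  calc (1 + (v : Mt)) * (1 + (v : Mt)) = (1 + (v : Mt) * v) + ((v : Mt) + v) := by noncomm_ring
    _ = 0 := by rw [h1, add_self_mat, add_self_mat, add_zero]

section Pow

variable {N M : Matrix (Fin m ⊕ Fin m) (Fin m ⊕ Fin m) F} (h : Opp N M) (l : F)

include h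

/-- `E² = E`, `E X = X E = X`, `X² = λ X + E` -/
theorem Opp.rel : ∃ E X : Mt, 1 + E + X = (1 + N) * (1 + l • M) ∧ E * E = E ∧ E * X = X ∧ X * E = X ∧
    X * X = l • X + E ∧ N * E = N ∧ N * E * N = 0 ∧ N * X * N = l • N := by
  have a1 : ∀ A : Mt, N * (N * A) = 0 := fun A => by rw [← mul_assoc, h.NN, zero_mul]
  have a2 : ∀ A : Mt, M * (M * A) = 0 := fun A => by rw [← mul_assoc, h.MM, zero_mul]
  have a3 : N * (M * N) = N := by rw [← mul_assoc, h.NMN]
  have a4 : M * (N * M) = M := by rw [← mul_assoc, h.MNM]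
  have a5 : ∀ A : Mt, N * (M * (N * A)) = N * A := fun A => by rw [← mul_assoc, ← mul_assoc, h.NMN]
  have a6 : ∀ A : Mt, M * (N * (M * A)) = M * A := fun A => by rw [← mul_assoc, ← mul_assoc, h.MNM]
  have e2 : ∀ A : Mt, A + A = 0 := add_self_mat
  refine ⟨N * M + M * N, (N * M + M * N) + N + l • M + l • (N * M), ?_, ?_, ?_, ?_, ?_, ?_, ?_, ?_⟩
  · simp only [mul_add, add_mul, mul_one, one_mul, Matrix.mul_smul]
    have e : 1 + (N * M + M * N) + (N * M + M * N + N + l • M + l • (N * M)) =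
        1 + N + (l • M + l • (N * M)) + ((N * M + M * N) + (N * M + M * N)) := by abel
    rw [e, e2, add_zero]
  · simp only [mul_add, add_mul, mul_assoc, a1, a2, a3, a4, a5, a6, h.NN, h.MM, mul_zero, add_zero, zero_add]
  · simp only [mul_add, add_mul, mul_assoc, a1, a2, a3, a4, a5, a6, h.NN, h.MM, mul_zero, add_zero, zero_add,
      Matrix.mul_smul, smul_zero]
  · simp only [mul_add, add_mul, mul_assoc, a1, a2, a3, a4, a5, a6, h.NN, h.MM, mul_zero, add_zero, zero_add,
      Matrix.smul_mul, smul_zero]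
    abel
  · have e : ((N * M + M * N) + N + l • M + l • (N * M)) * ((N * M + M * N) + N + l • M + l • (N * M)) =
        l • ((N * M + M * N) + N + l • M + l • (N * M)) + (N * M + M * N) +
          ((N + l • M + l • (N * M)) + (N + l • M + l • (N * M))) := by
      simp only [mul_add, add_mul, mul_assoc, a1, a2, a3, a4, a5, a6, h.NN, h.MM, mul_zero, add_zero, zero_add,
        Matrix.mul_smul, Matrix.smul_mul, smul_zero]
      module
    rw [e, e2, add_zero]
  · simp only [mul_add, add_mul, mul_assoc, a1, a2, a3, a4, a5, a6, h.NN, h.MM, mul_zero, add_zero, zero_add]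
  · simp only [mul_add, add_mul, mul_assoc, a1, a2, a3, a4, a5, a6, h.NN, h.MM, mul_zero, add_zero, zero_add]
  · simp only [mul_add, add_mul, mul_assoc, a1, a2, a3, a4, a5, a6, h.NN, h.MM, mul_zero, add_zero, zero_add,
      Matrix.mul_smul, Matrix.smul_mul, smul_zero]

/-- an element with the matrix `(1 + N) (1 + λ M)` has odd order -/
theorem Opp.odd (hN : N ≠ 0) (hl : l ≠ 0) [Finite F] {x : G} (hx : (x : Mt) = (1 + N) * (1 + l • M)) :
    Odd (orderOf x) := by
  have hfin : Finite G := Subtype.finite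
  obtain ⟨E, X, h1, hEE, hEX, hXE, hXX, hNE, hNEN, hNXN⟩ := h.rel l
  rw [← h1] at hx
  have e2 : ∀ A : Mt, A + A = 0 := add_self_mat
  have key : ∀ k : ℕ, ∃ a b : F, ((x ^ k : G) : Mt) = 1 + E + (a • E + b • X) := by
    intro k
    induction k with
    | zero =>
      refine ⟨1, 0, ?_⟩
      rw [pow_zero, one_smul, zero_smul, add_zero, add_assoc, e2, add_zero]
      rfl
    | succ k ih =>
      obtain ⟨a, b, hab⟩ := ih
      refine ⟨b, a + b * l, ?_⟩
      rw [pow_succ]
      change ((x ^ k : G) : Mt) * (x : Mt) = _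
      rw [hab, hx]
      have e : (1 + E + (a • E + b • X)) * (1 + E + X) = 1 + E + (b • E + (a + b * l) • X) +
          (((1 + a) • E + (b + 1) • X) + ((1 + a) • E + (b + 1) • X)) := by
        simp only [mul_add, add_mul, mul_one, one_mul, Matrix.mul_smul, Matrix.smul_mul, hEE, hEX, hXE, hXX]
        module
      rw [e, e2, add_zero]
  by_contra hodd
  rw [Nat.not_odd_iff_even, even_iff_two_dvd] at hodd
  have ho := orderOf_pos x
  obtain ⟨k, hk⟩ := hodd
  have hk0 : k ≠ 0 := by omega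
  have hy : orderOf (x ^ k) = 2 := by
    rw [orderOf_pow_of_dvd hk0 ⟨2, by rw [hk, mul_comm]⟩, hk, Nat.mul_div_cancel _ (Nat.pos_of_ne_zero hk0)]
  obtain ⟨a, b, hab⟩ := key k
  have hyy : x ^ k * x ^ k = 1 := by rw [← pow_two, ← hy, pow_orderOf_eq_one]
  have h3 : ((x ^ k : G) : Mt) * ((x ^ k : G) : Mt) = 1 := congrArg Subtype.val hyy
  have h4 : (1 + E + (a • E + b • X)) * (1 + E + (a • E + b • X)) =
      1 + (1 + a * a + b * b) • E + (b * b * l) • X +
        (((1 + a + a) • E + (b + b + a * b) • X) + ((1 + a + a) • E + (b + b + a * b) • X)) := by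
    simp only [mul_add, add_mul, mul_one, one_mul, Matrix.mul_smul, Matrix.smul_mul, hEE, hEX, hXE, hXX]
    module
  rw [hab, h4, e2, add_zero] at h3
  have h5 : (1 + a * a + b * b) • E + (b * b * l) • X = 0 := by
    rw [add_assoc] at h3
    exact add_eq_left.1 h3
  have h6 : N * ((1 + a * a + b * b) • E + (b * b * l) • X) * N = (b * b * l * l) • N := by
    simp only [mul_add, add_mul, Matrix.mul_smul, Matrix.smul_mul, hNEN, hNXN, smul_zero, zero_add, smul_smul]
  rw [h5, mul_zero, zero_mul] at h6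
  have h7 : b = 0 := by
    have h8 := (smul_eq_zero.1 h6.symm).resolve_right hN
    by_contra hb
    exact (mul_ne_zero (mul_ne_zero (mul_ne_zero hb hb) hl) hl) h8
  rw [h7, mul_zero, add_zero, zero_mul, zero_smul, add_zero] at h5
  have h8 : (1 + a * a) • N = 0 := by
    have := congrArg (fun A => N * A) h5
    simp only [Matrix.mul_smul, hNE, mul_zero] at this
    exact this
  have h9 : 1 + a * a = 0 := (smul_eq_zero.1 h8).resolve_right hN
  have h10 : a = 1 := by
    have h11 : (a + 1) * (a + 1) = 0 := by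
      calc (a + 1) * (a + 1) = (1 + a * a) + (a + a) := by ring
        _ = 0 := by rw [h9, CharTwo.add_self_eq_zero, add_zero]
    have h12 := mul_self_eq_zero.1 h11
    rwa [CharTwo.add_eq_zero] at h12
  have h11 : x ^ k = 1 := by
    apply Subtype.ext
    rw [hab, h7, h10, one_smul, zero_smul, add_zero, add_assoc, e2, add_zero]
    rfl
  rw [h11, orderOf_one] at hy
  norm_num at hy

end Pow

/-- **The homogeneous dihedral group.** -/
theorem exists_inv [Finite F] {v : G} (hvv : v * v = 1) (hv1 : v ≠ 1) {l : F} (hl : l ≠ 0) :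
    ∃ x : G, Odd (orderOf x) ∧ v * x * v⁻¹ = x⁻¹ ∧
      (∀ R : Subgroup G, IsPGroup 2 R → R ≤ Subgroup.centralizer {v} ⊓ Subgroup.centralizer {x} →
        (∀ c ∈ Subgroup.centralizer {v} ⊓ Subgroup.centralizer {x}, ∀ r ∈ R, c * r * c⁻¹ ∈ R) →
        ((∀ w : V, f w (v • w) = 0) → R = ⊥) ∧ ∀ r ∈ R, r * r = 1 → ∀ w : V, f w (r • w) = 0) ∧
      ∀ (s : V → V) (σ : F → F), (∀ u w, s (u + w) = s u + s w) → (∀ (a : F) w, s (a • w) = σ a • s w) →
        Function.Injective s → (∀ w, s (v • w) = v • s w) → (∀ w, s (x • w) = x • s w) → σ l = l := by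
  obtain ⟨N, hNdef⟩ : ∃ N : Mt, N = 1 + (v : Mt) := ⟨_, rfl⟩
  have hNv : ∀ w : V, N *ᵥ w = w + v • w := by
    intro w
    rw [hNdef, Matrix.add_mulVec, Matrix.one_mulVec, smul_def]
  have aN : adj N = N := by rw [hNdef]; exact adj_of_inv hvv
  have NN : N * N = 0 := by rw [hNdef]; exact sq_of_inv hvv
  obtain ⟨M, aM, MM, NMN, MNM⟩ := exists_opp aN NN
  have h : Opp N M := ⟨aN, NN, aM, MM, NMN, MNM⟩
  have hN0 : N ≠ 0 := by
    intro h0
    apply hv1
    apply ext_smul
    intro w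
    have h1 := hNv w
    rw [h0, Matrix.zero_mulVec] at h1
    rw [one_smul]
    have h2 : w + v • w = w + w := by rw [← h1, add_self_vec]
    exact add_left_cancel h2
  have alM : adj (l • M) = l • M := by rw [adj_smul, aM]
  have llM : (l • M) * (l • M) = 0 := by rw [Matrix.smul_mul, Matrix.mul_smul, MM, smul_zero, smul_zero]
  obtain ⟨v', hv'⟩ : ∃ v' : G, (v' : Mt) = 1 + l • M := ⟨⟨_, one_add_mem alM llM⟩, rfl⟩
  have hv'w : ∀ w : V, v' • w = w + l • (M *ᵥ w) := by
    intro w
    rw [smul_def, hv', Matrix.add_mulVec, Matrix.one_mulVec, Matrix.smul_mulVec]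
  have hv'v' : v' * v' = 1 := by
    apply Subtype.ext
    change (v' : Mt) * (v' : Mt) = 1
    rw [hv']
    calc (1 + l • M) * (1 + l • M) = 1 + (l • M + l • M) + (l • M) * (l • M) := by
          rw [mul_add, add_mul, add_mul, one_mul, mul_one, one_mul]
          abel
      _ = 1 := by rw [add_self_mat, llM, add_zero, add_zero]
  have hvN : (v : Mt) = 1 + N := by
    rw [hNdef, ← add_assoc, add_self_mat, zero_add]
  have hvi : v⁻¹ = v := by rw [inv_eq_iff_mul_eq_one]; exact hvv
  have hv'i : v'⁻¹ = v' := by rw [inv_eq_iff_mul_eq_one]; exact hv'v'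
  refine ⟨v * v', ?_, ?_, ?_, ?_⟩
  · exact h.odd l hN0 hl (by
      change (v : Mt) * (v' : Mt) = _
      rw [hvN, hv'])
  · rw [_root_.mul_inv_rev, hv'i, hvi, ← mul_assoc, hvv, one_mul]
  · intro R hR hRC hn
    have hC : ∀ c : G, c ∈ (Subgroup.centralizer {v} ⊓ Subgroup.centralizer {v * v'} : Subgroup G) ↔
        (∀ w : V, c • (N *ᵥ w) = N *ᵥ (c • w)) ∧ ∀ w : V, c • (M *ᵥ w) = M *ᵥ (c • w) := by
      intro c
      rw [Subgroup.mem_inf, Subgroup.mem_centralizer_singleton_iff, Subgroup.mem_centralizer_singleton_iff]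
      constructor
      · rintro ⟨h1, h2⟩
        have h3 : c * v' = v' * c := by
          have h4 : v * (c * v') = v * (v' * c) := by
            calc v * (c * v') = (v * c) * v' := by rw [mul_assoc]
              _ = c * (v * v') := by rw [← h1, mul_assoc]
              _ = v * (v' * c) := by rw [h2, mul_assoc]
          exact mul_left_cancel h4
        constructor
        · intro w
          rw [hNv, hNv, smul_add', ← mul_smul, ← mul_smul, h1]
        · intro w
          have h4 : c • (v' • w) = v' • (c • w) := by rw [← mul_smul, ← mul_smul, h3]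
          rw [hv'w, hv'w, smul_add', smul_smul'] at h4
          have h5 := add_left_cancel h4
          have h6 : l • (c • (M *ᵥ w) - M *ᵥ (c • w)) = 0 := by rw [smul_sub, h5, sub_self]
          exact sub_eq_zero.1 ((smul_eq_zero.1 h6).resolve_left hl)
      · rintro ⟨h1, h2⟩
        have h3 : c * v = v * c := by
          apply ext_smul
          intro w
          have h4 := h1 w
          rw [hNv, hNv, smul_add'] at h4
          rw [mul_smul, mul_smul]
          exact add_left_cancel h4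
        have h4 : c * v' = v' * c := by
          apply ext_smul
          intro w
          rw [mul_smul, mul_smul, hv'w, hv'w, smul_add', smul_smul', h2]
        refine ⟨h3, ?_⟩
        rw [← mul_assoc, h3, mul_assoc, h4, mul_assoc]
    constructor
    · intro ha
      rw [Subgroup.eq_bot_iff_forall]
      intro r hr
      refine h.eq_one_of_alt hR hn hC hRC (fun w => ?_) hr
      rw [hNv, sympForm_add_right, sympForm_self, zero_add, ha]
    · intro r hr hrr w
      exact h.alt_of_mem hR hn hC hRC hr hrr w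
  · intro s σ hadd hsm hinj hsv hsx
    have hs0 : s 0 = 0 := by
      have := hadd 0 0
      rw [add_zero] at this
      exact (add_eq_left.1 this.symm)
    have hsv' : ∀ w, s (v' • w) = v' • s w := by
      intro w
      have h1 := hsx w
      rw [mul_smul, mul_smul, hsv] at h1
      have h2 := congrArg (fun u => v • u) h1
      simp only [← mul_smul, ← mul_assoc, hvv, one_mul, one_smul] at h2
      exact h2
    have hsN : ∀ w, s (N *ᵥ w) = N *ᵥ s w := by
      intro w
      rw [hNv, hNv, hadd, hsv]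
    have hsM : ∀ w, s (l • (M *ᵥ w)) = l • (M *ᵥ s w) := by
      intro w
      have h1 := hsv' w
      rw [hv'w, hv'w, hadd] at h1
      exact add_left_cancel h1
    obtain ⟨w, hw⟩ : ∃ w : V, N *ᵥ w ≠ 0 := by
      by_contra hcon
      push Not at hcon
      apply hN0
      rw [← Matrix.mulVec_injective.eq_iff]
      funext w
      rw [hcon w, Matrix.zero_mulVec]
    have h1 : s (l • (N *ᵥ (M *ᵥ (N *ᵥ w)))) = l • (N *ᵥ (M *ᵥ (N *ᵥ s w))) := by
      rw [← Matrix.mulVec_smul, hsN, hsM, Matrix.mulVec_smul, hsN]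
    rw [h.NMN', h.NMN', hsm, hsN] at h1
    have h2 : (σ l - l) • (N *ᵥ s w) = 0 := by rw [sub_smul, h1, sub_self]
    have h3 : N *ᵥ s w ≠ 0 := by
      rw [← hsN]
      intro h4
      rw [← hs0] at h4
      exact hw (hinj h4)
    exact sub_eq_zero.1 ((smul_eq_zero.1 h2).resolve_right h3)

end Cfsg.Agent.H736.SK
end

-- part: H736/SK/PspSp4
section
prune_inst 0x35506554746210000018859433200464b00004b200430000f0210102094a7862edc42e413a302c15ca980dd16801006003100100426000000e200800000400000000000081480000220086000080000000000000300000000000000000041004000000002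
set_option linter.all false
open scoped Cfsg.Agent.FastGrp

/-!
# S3010, `PSp_4(q)`, `q` even: involutions (helper736)

* `alt_conj` : an involution `A ≠ 1` of `Sp_4(F)` with `(w, A w) = 0` for all `w` is conjugate to `S 1`;
* `transv_of_fix` : an involution fixing a hyperbolic plane pointwise is a transvection;
* `sp4_key` : an involution `A` with `(w, A w) ≠ 0` for some `w` inverts an element `x` of odd order such that all
  involutions commuting with `A` and `x` are transvections.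
-/

set_option autoImplicit false
set_option linter.unusedSectionVars false
set_option linter.unusedSimpArgs false
set_option linter.unusedVariables false

namespace Cfsg.Agent.H736.SK

open Matrix Cfsg Cfsg.Agent.ClassicalGeometry.SympBasic Cfsg.Agent.ClassicalGeometry.SympSiegel
open Cfsg.Agent.ClassicalGeometry

section Two

variable {F : Type*} [Field F] [CharP F 2]

local notation "V" => (Fin 2 ⊕ Fin 2 → F)
local notation "G" => Matrix.symplecticGroup (Fin 2) F
local notation "f" => sympForm 2 F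
local notation "Mt" => Matrix (Fin 2 ⊕ Fin 2) (Fin 2 ⊕ Fin 2) F

theorem form_four (u v : V) : f u v = u (.inr 0) * v (.inl 0) + u (.inl 0) * v (.inr 0) +
    (u (.inr 1) * v (.inl 1) + u (.inl 1) * v (.inr 1)) := by
  rw [sympForm_eq_sum, Fin.sum_univ_two, CharTwo.sub_eq_add, CharTwo.sub_eq_add]

theorem form_inv {A : G} (hA : A * A = 1) (u w : V) : f (A • u) w = f u (A • w) := by
  have h : A⁻¹ = A := by rw [inv_eq_iff_mul_eq_one]; exact hA
  rw [form_smul_left, h]

/-- **normal form of the involutions with `(w, A w) = 0`** -/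
theorem alt_conj {A : G} (hA : A * A = 1) (hA1 : A ≠ 1) (halt : ∀ w : V, f w (A • w) = 0) :
    ∃ g : G, A = g * Sp4GraphAut.S 1 * g⁻¹ := by
  obtain ⟨u, hu⟩ : ∃ u : V, A • u ≠ u := by
    by_contra hcon
    push Not at hcon
    exact hA1 (ext_smul fun w => by rw [hcon w, one_smul])
  have hAA : ∀ w : V, A • (A • w) = w := fun w => by rw [← mul_smul, hA, one_smul]
  have e2 : ∀ w : V, w + w = 0 := add_self_vec
  obtain ⟨p, hp⟩ : ∃ p : V, p = u + A • u := ⟨_, rfl⟩
  have hp0 : p ≠ 0 := by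
    intro h0
    apply hu
    have : A • u = (u + A • u) + u := by
      calc A • u = (u + u) + A • u := by rw [e2, zero_add]
        _ = _ := by abel
    rw [this, ← hp, h0, zero_add]
  obtain ⟨u₀, hu₀⟩ := exists_form_eq_one hp0
  have hNN : ∀ w : V, (w + A • w) + A • (w + A • w) = 0 := by
    intro w
    rw [smul_add', hAA]
    calc (w + A • w) + (A • w + w) = (w + w) + (A • w + A • w) := by abel
      _ = 0 := by rw [e2, e2, zero_add]
  have hff : ∀ w z : V, f (w + A • w) z = f w (z + A • z) := by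
    intro w z
    rw [sympForm_add_left, sympForm_add_right, form_inv hA]
  have hwN : ∀ w : V, f w (w + A • w) = 0 := by
    intro w
    rw [sympForm_add_right, sympForm_self, halt, add_zero]
  obtain ⟨q, hq⟩ : ∃ q : V, q = u₀ + A • u₀ := ⟨_, rfl⟩
  have hNq : q + A • q = 0 := by rw [hq]; exact hNN _
  have hNp : p + A • p = 0 := by rw [hp]; exact hNN _
  have huq : f u q = 1 := by rw [hq, ← hff, ← hp, hu₀]
  have huq' : f q u = 1 := by rw [form_comm, huq]
  obtain ⟨c, hc⟩ : ∃ c : F, c = f u₀ u := ⟨_, rfl⟩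
  obtain ⟨u', hu'⟩ : ∃ u' : V, u' = u₀ + c • q := ⟨_, rfl⟩
  have hNu' : u' + A • u' = q := by
    rw [hu', smul_add', smul_smul']
    calc u₀ + c • q + (A • u₀ + c • (A • q)) = (u₀ + A • u₀) + c • (q + A • q) := by
          rw [smul_add]
          abel
      _ = q := by rw [hNq, smul_zero, add_zero, hq]
  have h_pp : f p p = 0 := sympForm_self _
  have h_pq : f p q = 0 := by rw [hp, hff, hNq, sympForm_zero_right]
  have h_pu : f p u = 0 := by rw [form_comm, hp]; exact hwN u
  have h_u'u : f u' u = 0 := by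
    rw [hu', sympForm_add_left, sympForm_smul_left, huq', mul_one, ← hc, CharTwo.add_self_eq_zero]
  have h_pu' : f p u' = 1 := by
    rw [hu', sympForm_add_right, sympForm_smul_right, hu₀, h_pq, mul_zero, add_zero]
  have h_qu' : f q u' = 0 := by
    have h1 := hwN u'
    rw [hNu', form_comm] at h1
    exact h1
  have hT : ∃ T : V →ₗ[F] V, ∀ x, T x = x (.inl 0) • p + x (.inl 1) • q + x (.inr 0) • u' + x (.inr 1) • u :=
    ⟨{ toFun := fun x => x (.inl 0) • p + x (.inl 1) • q + x (.inr 0) • u' + x (.inr 1) • u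
       map_add' := fun x y => by
        simp only [Pi.add_apply]
        module
       map_smul' := fun a x => by
        simp only [Pi.smul_apply, smul_eq_mul, RingHom.id_apply]
        module }, fun x => rfl⟩
  obtain ⟨T, hT⟩ := hT
  have hiso : ∀ x y, f (T x) (T y) = f x y := by
    intro x y
    rw [hT, hT, form_four x y]
    simp only [sympForm_add_left, sympForm_add_right, sympForm_smul_left, sympForm_smul_right]
    rw [sympForm_self, sympForm_self, sympForm_self, sympForm_self, h_pq, h_pu, h_pu', form_comm q p, h_pq, huq', h_qu',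
      form_comm u' p, h_pu', form_comm u' q, h_qu', h_u'u, form_comm u p, h_pu, huq, form_comm u u', h_u'u]
    ring
  refine ⟨ofIso T hiso, ?_⟩
  rw [eq_mul_inv_iff_mul_eq]
  apply ext_smul
  intro x
  rw [mul_smul, mul_smul, ofIso_smul, ofIso_smul, smul_def (Sp4GraphAut.S 1), Sp4GraphAut.S_mulVec, map_add, map_add,
    map_smul, map_smul]
  have h1 : T (Sp4GraphAut.e1 F) = p := by
    rw [hT]
    simp [Sp4GraphAut.e1]
  have h2 : T (Sp4GraphAut.e2 F) = q := by
    rw [hT]
    simp [Sp4GraphAut.e2]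
  rw [h1, h2, hT]
  have e3 : A • p = p := by
    calc A • p = (p + p) + A • p := by rw [e2, zero_add]
      _ = p + (p + A • p) := by abel
      _ = p := by rw [hNp, add_zero]
  have e4 : A • q = q := by
    calc A • q = (q + q) + A • q := by rw [e2, zero_add]
      _ = q + (q + A • q) := by abel
      _ = q := by rw [hNq, add_zero]
  have e5 : A • u' = u' + q := by
    calc A • u' = (u' + u') + A • u' := by rw [e2, zero_add]
      _ = u' + (u' + A • u') := by abel
      _ = u' + q := by rw [hNu']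
  have e6 : A • u = u + p := by
    calc A • u = (u + u) + A • u := by rw [e2, zero_add]
      _ = u + (u + A • u) := by abel
      _ = u + p := by rw [← hp]
  rw [smul_add', smul_add', smul_add', smul_smul', smul_smul', smul_smul', smul_smul', e3, e4, e5, e6, one_mul, one_mul]
  module

/-- vectors of the orthogonal complement of a hyperbolic plane -/
theorem plane {a w b z : V} (haw : f a w ≠ 0) (hba : f b a = 0) (hbw : f b w = 0) (hza : f z a = 0) (hzw : f z w = 0)
    (hzb : f z b = 0) (hb : b ≠ 0) : ∃ k : F, z = k • b := by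
  have h1 : f a ((f a w)⁻¹ • w) = 1 := by rw [sympForm_smul_right, inv_mul_cancel₀ haw]
  have h2 : f (Pi.single (Sum.inr 0) 1) (Pi.single (Sum.inl 0) 1) = 1 := by
    rw [sympForm_single_inr_left, Pi.single_eq_same]
  obtain ⟨g, -, hg1, hg2⟩ := exists_transvGroup_hyperbolic h1 h2
  have hg1' : g • a = Pi.single (Sum.inr 0) 1 := hg1
  have hg2' : g • w = (f a w) • Pi.single (Sum.inl 0) (1 : F) := by
    have h3 : g • ((f a w)⁻¹ • w) = Pi.single (Sum.inl 0) 1 := hg2
    rw [← h3, smul_smul', smul_smul, mul_inv_cancel₀ haw, one_smul]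
  have key : ∀ y : V, f y a = 0 → f y w = 0 → (g • y) (.inl 0) = 0 ∧ (g • y) (.inr 0) = 0 := by
    intro y h3 h4
    rw [← form_smul g, hg1', form_comm, sympForm_single_inr_left] at h3
    rw [← form_smul g, hg2', form_comm, sympForm_smul_left, sympForm_single_inl_left, CharTwo.neg_eq] at h4
    exact ⟨h3, (mul_eq_zero.1 h4).resolve_left haw⟩
  obtain ⟨b1, b2⟩ := key b hba hbw
  obtain ⟨z1, z2⟩ := key z hza hzw
  have hzb' : (g • z) (.inr 1) * (g • b) (.inl 1) + (g • z) (.inl 1) * (g • b) (.inr 1) = 0 := by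
    rw [← form_smul g, form_four, z1, z2, zero_mul, zero_mul, zero_add, zero_add] at hzb
    exact hzb
  have hzb'' : (g • z) (.inr 1) * (g • b) (.inl 1) = (g • z) (.inl 1) * (g • b) (.inr 1) := by
    rwa [CharTwo.add_eq_zero] at hzb'
  have hgb : g • b ≠ 0 := smul_ne_zero' g hb
  suffices h : ∃ k : F, g • z = k • (g • b) by
    obtain ⟨k, hk⟩ := h
    refine ⟨k, ?_⟩
    rw [← smul_smul'] at hk
    have := congrArg (fun y => g⁻¹ • y) hk
    simpa [inv_smul_smul] using this
  by_cases hb3 : (g • b) (.inl 1) = 0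
  · have hb4 : (g • b) (.inr 1) ≠ 0 := by
      intro hb4
      apply hgb
      ext i
      rcases i with i | i <;> fin_cases i
      · exact b1
      · exact hb3
      · exact b2
      · exact hb4
    refine ⟨(g • z) (.inr 1) * ((g • b) (.inr 1))⁻¹, ?_⟩
    rw [hb3, mul_zero] at hzb''
    have hz3 : (g • z) (.inl 1) = 0 := (mul_eq_zero.1 hzb''.symm).resolve_right hb4
    ext i
    rcases i with i | i <;> fin_cases i
    · change (g • z) (.inl 0) = _ * (g • b) (.inl 0)
      rw [z1, b1, mul_zero]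
    · change (g • z) (.inl 1) = _ * (g • b) (.inl 1)
      rw [hz3, hb3, mul_zero]
    · change (g • z) (.inr 0) = _ * (g • b) (.inr 0)
      rw [z2, b2, mul_zero]
    · change (g • z) (.inr 1) = _ * (g • b) (.inr 1)
      rw [mul_assoc, inv_mul_cancel₀ hb4, mul_one]
  · refine ⟨(g • z) (.inl 1) * ((g • b) (.inl 1))⁻¹, ?_⟩
    ext i
    rcases i with i | i <;> fin_cases i
    · change (g • z) (.inl 0) = _ * (g • b) (.inl 0)
      rw [z1, b1, mul_zero]
    · change (g • z) (.inl 1) = _ * (g • b) (.inl 1)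
      rw [mul_assoc, inv_mul_cancel₀ hb3, mul_one]
    · change (g • z) (.inr 0) = _ * (g • b) (.inr 0)
      rw [z2, b2, mul_zero]
    · change (g • z) (.inr 1) = _ * (g • b) (.inr 1)
      have : (g • z) (.inr 1) = ((g • z) (.inr 1) * (g • b) (.inl 1)) * ((g • b) (.inl 1))⁻¹ := by
        rw [mul_assoc, mul_inv_cancel₀ hb3, mul_one]
      rw [this, hzb'']
      ring

/-- **(K1)** an involution fixing a hyperbolic plane pointwise is a transvection -/
theorem transv_of_fix {B : G} (hB : B * B = 1) (hB1 : B ≠ 1) {a w : V} (haw : f a w ≠ 0) (ha : B • a = a)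
    (hw : B • w = w) : ∃ b : V, b ≠ 0 ∧ ∃ k : F, k ≠ 0 ∧ B = transv b k := by
  have e2 : ∀ w : V, w + w = 0 := add_self_vec
  have hBB : ∀ w : V, B • (B • w) = w := fun w => by rw [← mul_smul, hB, one_smul]
  have hNN : ∀ w : V, (w + B • w) + B • (w + B • w) = 0 := by
    intro w
    rw [smul_add', hBB]
    calc (w + B • w) + (B • w + w) = (w + w) + (B • w + B • w) := by abel
      _ = 0 := by rw [e2, e2, zero_add]
  have hff : ∀ w z : V, f (w + B • w) z = f w (z + B • z) := by
    intro w z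
    rw [sympForm_add_left, sympForm_add_right, form_inv hB]
  obtain ⟨y, hy⟩ : ∃ y : V, B • y ≠ y := by
    by_contra hcon
    push Not at hcon
    exact hB1 (ext_smul fun w => by rw [hcon w, one_smul])
  obtain ⟨b, hb⟩ : ∃ b : V, b = y + B • y := ⟨_, rfl⟩
  have hb0 : b ≠ 0 := by
    intro h0
    apply hy
    calc B • y = (y + y) + B • y := by rw [e2, zero_add]
      _ = y + (y + B • y) := by abel
      _ = y := by rw [← hb, h0, add_zero]
  have hNa : a + B • a = 0 := by rw [ha, e2]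
  have hNw : w + B • w = 0 := by rw [hw, e2]
  have hza : ∀ z : V, f (z + B • z) a = 0 := fun z => by rw [hff, hNa, sympForm_zero_right]
  have hzw : ∀ z : V, f (z + B • z) w = 0 := fun z => by rw [hff, hNw, sympForm_zero_right]
  have hzb : ∀ z : V, f (z + B • z) b = 0 := fun z => by rw [hff, hb, hNN, sympForm_zero_right]
  have hba : f b a = 0 := by rw [hb]; exact hza y
  have hbw : f b w = 0 := by rw [hb]; exact hzw y
  have hNb : b + B • b = 0 := by rw [hb]; exact hNN y
  -- every image is a multiple of `b`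
  have hmul : ∀ z : V, ∃ k : F, z + B • z = k • b := fun z =>
    plane haw hba hbw (hza z) (hzw z) (hzb z) hb0
  -- `f(y, b) ≠ 0`
  have hby : f b y ≠ 0 := by
    intro h0
    -- the component of `y` in the plane complement
    obtain ⟨y', hy'⟩ : ∃ y' : V, y' = y + (f y w * (f a w)⁻¹) • a + (f y a * (f a w)⁻¹) • w := ⟨_, rfl⟩
    have hwa : f w a = f a w := form_comm _ _
    have h1 : f y' a = 0 := by
      rw [hy', sympForm_add_left, sympForm_add_left, sympForm_smul_left, sympForm_smul_left, sympForm_self, mul_zero,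
        add_zero, hwa, mul_assoc, inv_mul_cancel₀ haw, mul_one, CharTwo.add_self_eq_zero]
    have h2 : f y' w = 0 := by
      rw [hy', sympForm_add_left, sympForm_add_left, sympForm_smul_left, sympForm_smul_left, sympForm_self, mul_zero,
        add_zero, mul_assoc, inv_mul_cancel₀ haw, mul_one, CharTwo.add_self_eq_zero]
    have h3 : f y' b = 0 := by
      rw [hy', sympForm_add_left, sympForm_add_left, sympForm_smul_left, sympForm_smul_left, form_comm a b, hba,
        form_comm w b, hbw, mul_zero, mul_zero, add_zero, add_zero, form_comm y b]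
      exact h0
    obtain ⟨k, hk⟩ := plane haw hba hbw h1 h2 h3 hb0
    have h4 : y' + B • y' = b := by
      rw [hy', smul_add', smul_add', smul_smul', smul_smul', ha, hw]
      calc y + (f y w * (f a w)⁻¹) • a + (f y a * (f a w)⁻¹) • w +
            (B • y + (f y w * (f a w)⁻¹) • a + (f y a * (f a w)⁻¹) • w) =
          (y + B • y) + (((f y w * (f a w)⁻¹) • a + (f y a * (f a w)⁻¹) • w) +
            ((f y w * (f a w)⁻¹) • a + (f y a * (f a w)⁻¹) • w)) := by abel
        _ = b := by rw [e2, add_zero, hb]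
    apply hb0
    rw [← h4, hk, smul_smul', ← smul_add, hNb, smul_zero]
  refine ⟨b, hb0, (f b y)⁻¹, inv_ne_zero hby, ?_⟩
  apply ext_smul
  intro z
  obtain ⟨k, hk⟩ := hmul z
  rw [transv_smul]
  have h1 : k * f b y = f z b := by
    rw [← sympForm_smul_left, ← hk, hff, ← hb]
  have h2 : k = (f b y)⁻¹ * f z b := by rw [← h1]; field_simp
  rw [← h2, ← hk, ← add_assoc, e2, zero_add]

/-- **(C)** -/
theorem sp4_key [Finite F] {A : G} (hA : A * A = 1) {w₀ : V} (hw₀ : f w₀ (A • w₀) ≠ 0) {l : F} (hl : l ≠ 0) :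
    ∃ x : G, Odd (orderOf x) ∧ A * x * A⁻¹ = x⁻¹ ∧
      (∀ B : G, B * B = 1 → B ≠ 1 → B * A = A * B → B * x = x * B →
        ∃ b : V, b ≠ 0 ∧ ∃ k : F, k ≠ 0 ∧ B = transv b k) ∧
      (∃ A' : G, (A' = 1 → ∃ b : V, b ≠ 0 ∧ ∃ k : F, k ≠ 0 ∧ A = transv b k) ∧ A' * A' = 1 ∧ A' * A = A * A' ∧
        A' * x = x * A') ∧
      ∀ (s : V → V) (σ : F → F), (∀ u w, s (u + w) = s u + s w) → (∀ (a : F) w, s (a • w) = σ a • s w) →
        Function.Injective s → (∀ w, s (A • w) = A • s w) → (∀ w, s (x • w) = x • s w) → σ l = l := by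
  have e2 : ∀ w : V, w + w = 0 := add_self_vec
  have hAA : ∀ w : V, A • (A • w) = w := fun w => by rw [← mul_smul, hA, one_smul]
  obtain ⟨a, ha⟩ : ∃ a : V, a = w₀ + A • w₀ := ⟨_, rfl⟩
  obtain ⟨c, hc⟩ : ∃ c : F, c = f w₀ a := ⟨_, rfl⟩
  have hc0 : c ≠ 0 := by rw [hc, ha, sympForm_add_right, sympForm_self, zero_add]; exact hw₀
  have haw : f a w₀ = c := by rw [hc, form_comm]
  have hAw : A • w₀ = w₀ + a := by
    rw [ha, ← add_assoc, e2, zero_add]
  have hAa : A • a = a := by
    rw [ha, smul_add', hAA, add_comm]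
  have ha0 : a ≠ 0 := by
    intro h0
    rw [h0, sympForm_zero_left] at haw
    exact hc0 haw.symm
  have hw0 : w₀ ≠ 0 := by
    intro h0
    rw [h0, sympForm_zero_right] at haw
    exact hc0 haw.symm
  obtain ⟨t, ht⟩ : ∃ t : G, t = transv a c⁻¹ := ⟨_, rfl⟩
  obtain ⟨t', ht'⟩ : ∃ t' : G, t' = transv w₀ (l * c⁻¹) := ⟨_, rfl⟩
  have htw : ∀ y : V, t • y = y + (c⁻¹ * f y a) • a := fun y => by rw [ht, transv_smul]
  have ht'w : ∀ y : V, t' • y = y + (l * c⁻¹ * f y w₀) • w₀ := fun y => by rw [ht', transv_smul]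
  have htt : t * t = 1 := by rw [ht, transv_mul, CharTwo.add_self_eq_zero, transv_zero]
  have ht't' : t' * t' = 1 := by rw [ht', transv_mul, CharTwo.add_self_eq_zero, transv_zero]
  have hti : t⁻¹ = t := by rw [inv_eq_iff_mul_eq_one]; exact htt
  have ht'i : t'⁻¹ = t' := by rw [inv_eq_iff_mul_eq_one]; exact ht't'
  -- `x = t t'`
  have hx1 : ∀ y : V, y + (t * t') • y = (c⁻¹ * (f y a + l * f y w₀)) • a + (l * c⁻¹ * f y w₀) • w₀ := by
    intro y
    rw [mul_smul, ht'w, htw, sympForm_add_left, sympForm_smul_left, ← hc]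
    calc y + (y + (l * c⁻¹ * f y w₀) • w₀ + (c⁻¹ * (f y a + l * c⁻¹ * f y w₀ * c)) • a) =
        (y + y) + ((c⁻¹ * (f y a + (c * c⁻¹) * (l * f y w₀))) • a + (l * c⁻¹ * f y w₀) • w₀) := by
          module
      _ = _ := by rw [e2, zero_add, mul_inv_cancel₀ hc0, one_mul]
  have hx2 : a = w₀ + (t * t') • w₀ := by
    rw [hx1, sympForm_self, mul_zero, mul_zero, add_zero, zero_smul, add_zero, ← hc, inv_mul_cancel₀ hc0, one_smul]
  have hx3 : a + (t * t') • a = l • a + l • w₀ := by
    rw [hx1, sympForm_self, zero_add, haw]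
    congr 2
    · field_simp
    · field_simp
  have hx4 : l • w₀ = (a + (t * t') • a) + l • a := by
    rw [hx3]
    calc l • w₀ = (l • a + l • a) + l • w₀ := by rw [e2, zero_add]
      _ = _ := by abel
  -- the semilinear computation
  have key : ∀ (s : V → V) (σ : F → F), (∀ u w, s (u + w) = s u + s w) → (∀ (a : F) w, s (a • w) = σ a • s w) →
      (∀ w, s (A • w) = A • s w) → (∀ w, s ((t * t') • w) = (t * t') • s w) →
      ∃ α : F, s a = α • a ∧ σ l • s w₀ = (α * (l + σ l)) • a + (α * l) • w₀ := by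
    intro s σ hadd hsm hsA hsx
    have h1 : s a = s w₀ + (t * t') • s w₀ := by
      conv_lhs => rw [hx2]
      rw [hadd, hsx]
    obtain ⟨α, β, hαβ⟩ : ∃ α β : F, s a = α • a + β • w₀ := ⟨_, _, h1.trans (hx1 _)⟩
    have hβ : β = 0 := by
      have h2 : A • s a = s a := by rw [← hsA, hAa]
      rw [hαβ, smul_add', smul_smul', smul_smul', hAa, hAw] at h2
      have h3 : β • a = 0 := by
        have h4 : (α • a + β • w₀) + β • a = (α • a + β • w₀) + 0 := by
          rw [add_zero]
          calc (α • a + β • w₀) + β • a = α • a + β • (w₀ + a) := by module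
            _ = _ := h2
        exact add_left_cancel h4
      exact (smul_eq_zero.1 h3).resolve_right ha0
    rw [hβ, zero_smul, add_zero] at hαβ
    refine ⟨α, hαβ, ?_⟩
    have h5 : s (l • w₀) = (s a + (t * t') • s a) + s (l • a) := by
      rw [hx4, hadd, hadd, hsx]
    rw [hsm, hsm, hαβ, smul_smul', ← smul_add, hx3] at h5
    rw [h5]
    module
  have hcomm : ∀ B : G, B * A = A * B → B * (t * t') = (t * t') * B → B * B = 1 → B • a = a ∧ B • w₀ = w₀ := by
    intro B hBA hBx hBB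
    obtain ⟨α, h1, h2⟩ := key (fun y => B • y) id (fun u w => smul_add' B u w) (fun a w => smul_smul' B a w)
      (fun w => by rw [← mul_smul, hBA, mul_smul]) (fun w => by rw [← mul_smul, hBx, mul_smul])
    simp only [id] at h1 h2
    rw [CharTwo.add_self_eq_zero, mul_zero, zero_smul, zero_add, mul_comm α l, mul_smul] at h2
    have h3 : B • w₀ = α • w₀ := by
      have h4 : l • (B • w₀ - α • w₀) = 0 := by rw [smul_sub, h2, sub_self]
      exact sub_eq_zero.1 ((smul_eq_zero.1 h4).resolve_left hl)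
    have h4 : α = 1 := by
      have h5 : B • (B • a) = a := by rw [← mul_smul, hBB, one_smul]
      rw [h1, smul_smul', h1, smul_smul] at h5
      have h6 : (α * α - 1) • a = 0 := by rw [sub_smul, h5, one_smul, sub_self]
      have h7 := (smul_eq_zero.1 h6).resolve_right ha0
      have h8 : (α - 1) * (α - 1) = 0 := by
        calc (α - 1) * (α - 1) = (α * α - 1) - ((α + α) - (1 + 1)) := by ring
          _ = 0 := by rw [h7, CharTwo.add_self_eq_zero, CharTwo.add_self_eq_zero]; simp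
      exact sub_eq_zero.1 (mul_self_eq_zero.1 h8)
    rw [h4, one_smul] at h1 h3
    exact ⟨h1, h3⟩
  have hAt : A * t = t * A := by
    have := conj_transv A a c⁻¹
    rw [hAa, ← ht, mul_inv_eq_iff_eq_mul] at this
    exact this
  have hfix1 : (t * A) • w₀ = w₀ := by
    rw [mul_smul, hAw, smul_add', htw, htw, sympForm_self, mul_zero, zero_smul, add_zero, ← hc, inv_mul_cancel₀ hc0,
      one_smul, add_assoc, e2, add_zero]
  have hfix2 : (t * A) • a = a := by
    rw [mul_smul, hAa, htw, sympForm_self, mul_zero, zero_smul, add_zero]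
  have hAt' : (t * A) * t' = t' * (t * A) := by
    have := conj_transv (t * A) w₀ (l * c⁻¹)
    rw [hfix1, ← ht', mul_inv_eq_iff_eq_mul] at this
    exact this
  have hAA' : (t * A) * (t * A) = 1 := by
    calc (t * A) * (t * A) = t * (A * t) * A := by group
      _ = (t * t) * (A * A) := by rw [hAt]; group
      _ = 1 := by rw [htt, hA, one_mul]
  refine ⟨t * t', ?_, ?_, ?_, ⟨t * A, ?_, hAA', ?_, ?_⟩, ?_⟩
  · -- odd order
    obtain ⟨M, hM⟩ : ∃ M : Mt, M = 1 + ((transv w₀ c⁻¹ : G) : Mt) := ⟨_, rfl⟩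
    obtain ⟨N, hN⟩ : ∃ N : Mt, N = 1 + (t : Mt) := ⟨_, rfl⟩
    have hMw : ∀ y : V, M *ᵥ y = (c⁻¹ * f y w₀) • w₀ := by
      intro y
      rw [hM, Matrix.add_mulVec, Matrix.one_mulVec, ← smul_def, transv_smul, ← add_assoc, e2, zero_add]
    have hNw : ∀ y : V, N *ᵥ y = (c⁻¹ * f y a) • a := by
      intro y
      rw [hN, Matrix.add_mulVec, Matrix.one_mulVec, ← smul_def, htw, ← add_assoc, e2, zero_add]
    have hOpp : Opp N M := by
      refine ⟨?_, ?_, ?_, ?_, ?_, ?_⟩
      · rw [hN]; exact adj_of_inv htt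
      · rw [hN]; exact sq_of_inv htt
      · rw [hM]; exact adj_of_inv (by rw [transv_mul, CharTwo.add_self_eq_zero, transv_zero])
      · rw [hM]; exact sq_of_inv (by rw [transv_mul, CharTwo.add_self_eq_zero, transv_zero])
      · rw [← Matrix.mulVec_injective.eq_iff]
        funext y
        rw [← Matrix.mulVec_mulVec, ← Matrix.mulVec_mulVec, hNw y, hMw, hNw, sympForm_smul_left,
          sympForm_smul_left, haw, ← hc]
        congr 1
        field_simp
      · rw [← Matrix.mulVec_injective.eq_iff]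
        funext y
        rw [← Matrix.mulVec_mulVec, ← Matrix.mulVec_mulVec, hMw y, hNw, hMw, sympForm_smul_left,
          sympForm_smul_left, haw, ← hc]
        congr 1
        field_simp
    refine hOpp.odd l ?_ hl ?_
    · intro h0
      have := hNw w₀
      rw [h0, Matrix.zero_mulVec, ← hc, inv_mul_cancel₀ hc0, one_smul] at this
      exact ha0 this.symm
    · change (t : Mt) * (t' : Mt) = _
      congr 1
      · rw [hN, ← add_assoc, add_self_mat, zero_add]
      · rw [← Matrix.mulVec_injective.eq_iff]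
        funext y
        rw [Matrix.add_mulVec, Matrix.one_mulVec, Matrix.smul_mulVec, hMw, ← smul_def, ht'w, smul_smul]
        congr 2
        ring
  · -- inverted
    rw [_root_.mul_inv_rev, hti, ht'i, mul_inv_eq_iff_eq_mul]
    calc A * (t * t') = (A * t) * t' := by rw [mul_assoc]
      _ = t' * (t * A) := by rw [hAt, hAt']
      _ = t' * t * A := by rw [mul_assoc]
  · intro B hB hB1 hBA hBx
    obtain ⟨h1, h2⟩ := hcomm B hBA hBx hB
    exact transv_of_fix hB hB1 (by rw [haw]; exact hc0) h1 h2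
  · intro h1
    refine ⟨a, ha0, c⁻¹, inv_ne_zero hc0, ?_⟩
    rw [← ht]
    calc A = t * (t * A) := by rw [← mul_assoc, htt, one_mul]
      _ = t := by rw [h1, mul_one]
  · rw [mul_assoc, hA, ← mul_assoc, hAt, mul_assoc, hA]
  · calc t * A * (t * t') = t * (A * t) * t' := by group
      _ = t * (t * A * t') := by rw [hAt]; group
      _ = t * t' * (t * A) := by rw [hAt']; group
  · intro s σ hadd hsm hinj hsA hsx
    obtain ⟨α, h1, h2⟩ := key s σ hadd hsm hsA hsx
    have hs0 : s 0 = 0 := by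
      have := hadd 0 0
      rw [add_zero] at this
      exact (add_eq_left.1 this.symm)
    have hα : α ≠ 0 := by
      intro h0
      rw [h0, zero_smul, ← hs0] at h1
      exact ha0 (hinj h1)
    have h3 : s a = s w₀ + A • s w₀ := by
      conv_lhs => rw [ha]
      rw [hadd, hsA]
    have h4 : σ l • s a = (α * l) • a := by
      rw [h3, smul_add, ← smul_smul', h2, smul_add', smul_smul', smul_smul', hAa, hAw]
      calc (α * (l + σ l)) • a + (α * l) • w₀ + ((α * (l + σ l)) • a + (α * l) • (w₀ + a)) =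
          (((α * (l + σ l)) • a + (α * l) • w₀) + ((α * (l + σ l)) • a + (α * l) • w₀)) + (α * l) • a := by module
        _ = _ := by rw [e2, zero_add]
    rw [h1, smul_smul] at h4
    have h5 : (σ l * α - α * l) • a = 0 := by rw [sub_smul, h4, sub_self]
    have h6 := (smul_eq_zero.1 h5).resolve_right ha0
    have h7 : α * (σ l - l) = 0 := by rw [← h6]; ring
    exact sub_eq_zero.1 ((mul_eq_zero.1 h7).resolve_left hα)

end Two

end Cfsg.Agent.H736.SK
end

-- part: H736/SK/Psp_mg
section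
prune_inst 0x5600050104010000000859611200400040004b000030000c8210142000060404d800640080024054208090100010060020000100040000004200000000100000000000610400000220086000080000000000000300000000000000000000004000000002
set_option linter.all false
open scoped Cfsg.Agent.FastGrp

-- part: H736/SK/Psp
section
/-!
# S3010 (Sidki pairs): the row `PSp_2m(q)`, `q` even (helper736)
-/

set_option autoImplicit false
set_option linter.unusedSectionVars false
set_option linter.unusedSimpArgs false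
set_option linter.unusedVariables false

universe u

namespace Cfsg.Agent.H736.SK

open Cfsg Cfsg.Agent.ClassicalGeometry Cfsg.Agent.ClassicalGeometry.SympBasic
open Cfsg.Agent.ClassicalGeometry.SympSiegel Cfsg.Agent.ClassicalGeometry.SympAutSemi
open Cfsg.Agent.H282.SK

section Grp

variable {F : Type} [Field F] [CharP F 2] [Finite F] {m : ℕ}

local notation "Sp" => Matrix.symplecticGroup (Fin m) F
local notation "W" => (Fin m ⊕ Fin m → F)
local notation "f" => sympForm m F

/-- an automorphism mapping a transvection to a transvection is induced by a semisimilitude -/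
theorem mem_range_of_transv (hm : 2 ≤ m) {α : MulAut (PSp m F)} {v w : W} (hv : v ≠ 0) (hw : w ≠ 0) {c d : F}
    (hc : c ≠ 0) (hd : d ≠ 0) (h : α (QuotientGroup.mk (transv v c)) = QuotientGroup.mk (transv w d)) :
    α ∈ (Psi m F).range := by
  refine SympAutExists.exists_semi hm α ?_
  intro v' hv' c' hc'
  obtain ⟨g, hg⟩ := SympAutTwo.transv_conj (CharTwo.two_eq_zero (R := F)) hv hv' hc hc'
  obtain ⟨w', hw', e'⟩ := AutPSpCount.exists_conj_mk_transv (α (QuotientGroup.mk g)) hw d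
  refine ⟨w', hw', d, hd, ?_⟩
  rw [← e', ← hg, QuotientGroup.mk_mul, QuotientGroup.mk_mul, QuotientGroup.mk_inv, map_mul, map_mul, map_inv, h]

variable {G' : Type u} [Group G'] [Finite G'] {V K : Subgroup G'}

/-- the group `K` as a symplectic group -/
structure Rep (K : Subgroup G') (ρ : Matrix.symplecticGroup (Fin m) F →* G') (φ : G' →* MulAut (PSp m F)) :
    Prop where
  inj : Function.Injective ρ
  mem : ∀ A, ρ A ∈ K
  surj : ∀ k ∈ K, ∃ A, ρ A = k
  act : ∀ g A B, φ g (QuotientGroup.mk A) = QuotientGroup.mk B ↔ g * ρ A * g⁻¹ = ρ B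

theorem exists_rep (h : Cx V K) (e : K ≃* PSp m F) :
    ∃ (ρ : Sp →* G') (φ : G' →* MulAut (PSp m F)), Rep K ρ φ := by
  obtain ⟨φ, hinj, hconj, hact⟩ := h.exists_toAut e
  have h2 : (2 : F) = 0 := CharTwo.two_eq_zero
  let ρ : Sp →* G' := K.subtype.comp (e.symm.toMonoidHom.comp (QuotientGroup.mk' _))
  have hρ : ∀ A, ρ A = (e.symm (QuotientGroup.mk A) : K) := fun A => rfl
  refine ⟨ρ, φ, ?_, ?_, ?_, ?_⟩
  · intro A B hAB
    rw [hρ, hρ] at hAB
    exact SympAutOdd.mk_injective h2 (e.symm.injective (Subtype.ext hAB))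
  · intro A
    rw [hρ]
    exact (e.symm (QuotientGroup.mk A)).2
  · intro k hk
    obtain ⟨A, hA⟩ := QuotientGroup.mk_surjective (e ⟨k, hk⟩)
    refine ⟨A, ?_⟩
    rw [hρ, hA, e.symm_apply_apply]
  · intro g A B
    obtain ⟨hgk, h1⟩ := hact g (e.symm (QuotientGroup.mk A))
    rw [e.apply_symm_apply] at h1
    rw [h1, ← MulEquiv.eq_symm_apply, Subtype.ext_iff, hρ, hρ]

variable {ρ : Matrix.symplecticGroup (Fin m) F →* G'} {φ : G' →* MulAut (PSp m F)}

/-- `g` acts as the semisimilitude `s` -/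
def Sem (ρ : Matrix.symplecticGroup (Fin m) F →* G') (g : G') (s : Equiv.Perm (Fin m ⊕ Fin m → F)) (σ : F ≃+* F)
    (l : F) : Prop :=
  l ≠ 0 ∧ IsSemi s σ l ∧ ∀ A, ∃ B, g * ρ A * g⁻¹ = ρ B ∧ ∀ w : Fin m ⊕ Fin m → F, s (A • w) = B • s w

theorem Rep.semi (hR : Rep K ρ φ) {g : G'} (hg : φ g ∈ (Psi m F).range) :
    ∃ s σ l, Sem ρ g s σ l := by
  obtain ⟨S, hS⟩ := hg
  obtain ⟨σ, l, hl, hs⟩ := S.2
  refine ⟨S.1, σ, l, hl, hs, fun A => ⟨conjHom m F S A, ?_, fun w => ?_⟩⟩
  · rw [← hR.act, ← hS, Psi_mk]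
  · have h1 := rho_conjHom S A
    have h2 : rho m F (conjHom m F S A) * S.1 = S.1 * rho m F A := by rw [h1, inv_mul_cancel_right]
    have h3 := congrArg (fun p : Equiv.Perm W => p w) h2
    exact h3.symm

theorem Sem.comm (hR : Rep K ρ φ) {g : G'} {s : Equiv.Perm W} {σ : F ≃+* F} {l : F} (h : Sem ρ g s σ l) {A : Sp}
    (hc : Commute g (ρ A)) (w : W) : s (A • w) = A • s w := by
  obtain ⟨B, h1, h2⟩ := h.2.2 A
  have h3 : A = B := by
    apply hR.inj
    rw [← h1, hc.eq, mul_inv_cancel_right]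
  rw [h2 w, ← h3]

theorem Sem.mul {g g' : G'} {s s' : Equiv.Perm W} {σ σ' : F ≃+* F} {l l' : F} (h : Sem ρ g s σ l)
    (h' : Sem ρ g' s' σ' l') : Sem ρ (g * g') (s * s') (σ'.trans σ) (l * σ l') := by
  refine ⟨mul_ne_zero h.1 (by simpa using h'.1), h.2.1.mul h'.2.1, fun A => ?_⟩
  obtain ⟨B, h1, h2⟩ := h'.2.2 A
  obtain ⟨C, h3, h4⟩ := h.2.2 B
  refine ⟨C, ?_, fun w => ?_⟩
  · rw [← h3, ← h1, mul_inv_rev]
    group
  · rw [Equiv.Perm.mul_apply, Equiv.Perm.mul_apply, h2, h4]

/-- the linear semisimilitudes lie in `K` -/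
theorem Sem.mem_K (h : Cx V K) (hR : Rep K ρ φ) {g : G'} {s : Equiv.Perm W} {σ : F ≃+* F} {l : F}
    (hs : Sem ρ g s σ l) (hσ : ∀ a, σ a = a) : g ∈ K := by
  have : Fintype F := Fintype.ofFinite F
  obtain ⟨hl, ⟨hadd, hsm, hform⟩, hact⟩ := hs
  obtain ⟨r, hr⟩ := FiniteField.isSquare_of_char_two (ringChar.eq F 2) l
  have hr0 : r ≠ 0 := by
    rintro rfl
    rw [mul_zero] at hr
    exact hl hr
  obtain ⟨T, hT⟩ : ∃ T : W →ₗ[F] W, ∀ w, T w = r⁻¹ • s w :=
    ⟨{ toFun := fun w => r⁻¹ • s w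
       map_add' := fun u w => by rw [hadd, smul_add]
       map_smul' := fun a w => by rw [hsm, hσ, RingHom.id_apply, smul_comm] }, fun w => rfl⟩
  have hiso : ∀ u w, f (T u) (T w) = f u w := by
    intro u w
    rw [hT, hT, sympForm_smul_left, sympForm_smul_right, hform, hσ, hr]
    field_simp
  obtain ⟨B, hB⟩ : ∃ B : Sp, ∀ w : W, B • w = r⁻¹ • s w :=
    ⟨ofIso T hiso, fun w => by rw [ofIso_smul, hT]⟩
  have hB' : ∀ w : W, s w = r • (B • w) := by
    intro w
    rw [hB, smul_smul, mul_inv_cancel₀ hr0, one_smul]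
  have key : (ρ B)⁻¹ * g = 1 := by
    apply h.eq_one_of_comm
    intro k hk
    obtain ⟨A, rfl⟩ := hR.surj k hk
    obtain ⟨C, h1, h2⟩ := hact A
    have h3 : C = B * A * B⁻¹ := by
      rw [eq_mul_inv_iff_mul_eq]
      apply ext_smul
      intro w
      have h4 := h2 w
      rw [hB', hB', smul_smul', ← mul_smul, ← mul_smul] at h4
      have h5 := congrArg (fun y => r⁻¹ • y) h4
      simp only [smul_smul, inv_mul_cancel₀ hr0, one_smul] at h5
      exact h5.symm
    rw [h3, map_mul, map_mul, map_inv, mul_inv_eq_iff_eq_mul] at h1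
    calc (ρ B)⁻¹ * g * ρ A = (ρ B)⁻¹ * (g * ρ A) := by group
      _ = (ρ B)⁻¹ * (ρ B * ρ A * (ρ B)⁻¹ * g) := by rw [h1]
      _ = ρ A * ((ρ B)⁻¹ * g) := by group
  have h1 : g = ρ B := by
    calc g = ρ B * ((ρ B)⁻¹ * g) := by group
      _ = ρ B := by rw [key, mul_one]
  rw [h1]
  exact hR.mem B

/-- the square of the field automorphism of an involution is trivial -/
theorem Sem.sq (hm : 1 ≤ m) (hR : Rep K ρ φ) {g : G'} (hgg : g * g = 1) {s : Equiv.Perm W} {σ : F ≃+* F} {l : F}
    (hs : Sem ρ g s σ l) (c : F) : σ (σ c) = c := by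
  have h2 := hs.mul hs
  rw [hgg] at h2
  obtain ⟨hl, ⟨hadd, hsm, hform⟩, hact⟩ := h2
  have hcomm : ∀ (A : Sp) (w : W), (s * s) (A • w) = A • (s * s) w := by
    intro A w
    obtain ⟨B, h1, h2⟩ := hact A
    rw [one_mul, inv_one, mul_one] at h1
    rw [h2, hR.inj h1]
  have hs0 : (s * s) 0 = 0 := by
    have := hadd 0 0
    rw [add_zero] at this
    exact (add_eq_left.1 this.symm)
  obtain ⟨e, e', hee⟩ := SympAutExists.exists_hyperbolic (F := F) hm
  have he : e ≠ 0 := SympAutExists.ne_zero_of_form_left (by rw [hee]; exact one_ne_zero)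
  have key : ∀ c : F, σ (σ c) • (s * s) e = (c * f ((s * s) e') e) • e := by
    intro c
    have h1 := hcomm (transv e c) e'
    rw [transv_smul, transv_smul, hadd, form_comm e' e, hee, mul_one, hsm] at h1
    exact add_left_cancel h1
  have h3 := key 1
  rw [map_one, map_one, one_smul, one_mul] at h3
  have h4 : f ((s * s) e') e ≠ 0 := by
    intro h0
    rw [h0, zero_smul, ← hs0] at h3
    exact he ((s * s).injective h3)
  have h5 := key c
  rw [h3, smul_smul] at h5
  have h6 : ((σ (σ c) - c) * f ((s * s) e') e) • e = 0 := by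
    rw [sub_mul, sub_smul, h5, sub_self]
  have h7 := (smul_eq_zero.1 h6).resolve_right he
  exact sub_eq_zero.1 ((mul_eq_zero.1 h7).resolve_right h4)

/-- the product of two outer semilinear involutions is inner -/
theorem mul_mem_K (h : Cx V K) (hm : 1 ≤ m) (hR : Rep K ρ φ) {g g' : G'} (hg : g * g = 1) (hg' : g' * g' = 1)
    (hP : φ g ∈ (Psi m F).range) (hP' : φ g' ∈ (Psi m F).range) (hK : g ∉ K) (hK' : g' ∉ K) : g * g' ∈ K := by
  obtain ⟨s, σ, l, hs⟩ := hR.semi hP
  obtain ⟨s', σ', l', hs'⟩ := hR.semi hP'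
  have h1 : ∃ x, σ x ≠ x := by
    by_contra hcon
    push Not at hcon
    exact hK (hs.mem_K h hR hcon)
  have h2 : ∃ x, σ' x ≠ x := by
    by_contra hcon
    push Not at hcon
    exact hK' (hs'.mem_K h hR hcon)
  have h3 := WeakTI.ResLA.ringEquiv_eq_of_involution (hs.sq hm hR hg) (hs'.sq hm hR hg') h1 h2
  refine (hs.mul hs').mem_K h hR fun a => ?_
  rw [RingEquiv.trans_apply, ← h3, hs.sq hm hR hg]

/-- a scalar moved by all outer semilinear elements of `V` -/
theorem exists_scalar (h : Cx V K) (hm : 1 ≤ m) (hR : Rep K ρ φ) :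
    ∃ l : F, l ≠ 0 ∧ ∀ g ∈ V, g ∉ K → ∀ s σ l', Sem ρ g s σ l' → σ l ≠ l := by
  by_cases hex : ∃ g ∈ V, g ∉ K ∧ ∃ s σ l', Sem ρ g s σ l'
  · obtain ⟨g, hgV, hgK, s, σ, l', hs⟩ := hex
    have h1 : ∃ x, σ x ≠ x := by
      by_contra hcon
      push Not at hcon
      exact hgK (hs.mem_K h hR hcon)
    obtain ⟨l, hl⟩ := h1
    refine ⟨l, ?_, ?_⟩
    · rintro rfl
      exact hl (map_zero σ)
    · intro g₁ hg₁V hg₁K s₁ σ₁ l₁ hs₁
      have h2 : ∃ x, σ₁ x ≠ x := by
        by_contra hcon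
        push Not at hcon
        exact hg₁K (hs₁.mem_K h hR hcon)
      have h3 := WeakTI.ResLA.ringEquiv_eq_of_involution (hs.sq hm hR (h.sq hgV)) (hs₁.sq hm hR (h.sq hg₁V))
        ⟨l, hl⟩ h2
      rw [← h3]
      exact hl
  · refine ⟨1, one_ne_zero, ?_⟩
    intro g hgV hgK s σ l' hs
    exact absurd ⟨g, hgV, hgK, s, σ, l', hs⟩ hex

/-- `V ∩ K ≠ 1` -/
theorem exists_mem_K (h : Cx V K) (hm : 1 ≤ m) (hR : Rep K ρ φ)
    (hidx : ∀ g g' : G', φ g ∉ (Psi m F).range → φ g' ∉ (Psi m F).range → φ (g * g') ∈ (Psi m F).range) :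
    ∃ v ∈ V, v ∈ K ∧ v ≠ 1 := by
  by_contra hcon
  push Not at hcon
  obtain ⟨a, haV, ha⟩ : ∃ a ∈ V, ∀ g ∈ V, φ g ∈ (Psi m F).range → g = 1 ∨ g = a := by
    by_cases hex : ∃ g ∈ V, φ g ∈ (Psi m F).range ∧ g ≠ 1
    · obtain ⟨a, haV, haP, ha1⟩ := hex
      refine ⟨a, haV, fun g hgV hgP => ?_⟩
      by_cases hg1 : g = 1
      · exact Or.inl hg1
      right
      have haK : a ∉ K := fun hk => ha1 (hcon a haV hk)
      have hgK : g ∉ K := fun hk => hg1 (hcon g hgV hk)
      have h1 := hcon _ (V.mul_mem haV hgV) (mul_mem_K h hm hR (h.sq haV) (h.sq hgV) haP hgP haK hgK)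
      rw [← h.inv_eq haV]
      exact eq_inv_of_mul_eq_one_right h1
    · push Not at hex
      exact ⟨1, V.one_mem, fun g hgV hgP => Or.inl (hex g hgV hgP)⟩
  obtain ⟨b, hb⟩ : ∃ b : G', ∀ g ∈ V, φ g ∉ (Psi m F).range → g = b ∨ g = b * a := by
    by_cases hex : ∃ g ∈ V, φ g ∉ (Psi m F).range
    · obtain ⟨b, hbV, hbP⟩ := hex
      refine ⟨b, fun g hgV hgP => ?_⟩
      have h2 : g = b * (b * g) := by rw [← mul_assoc, h.sq hbV, one_mul]
      rcases ha (b * g) (V.mul_mem hbV hgV) (hidx b g hbP hgP) with h1 | h1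
      · left
        rw [h2, h1, mul_one]
      · right
        rw [h2, h1]
    · push Not at hex
      exact ⟨1, fun g hgV hgP => absurd (hex g hgV) hgP⟩
  have hsub : (V : Set G') ⊆ {1, a, b, b * a} := by
    intro g hg
    by_cases hP : φ g ∈ (Psi m F).range
    · rcases ha g hg hP with h1 | h1
      · simp [h1]
      · simp [h1]
    · rcases hb g hg hP with h1 | h1
      · simp [h1]
      · simp only [h1, _root_.Set.mem_insert_iff, _root_.mul_eq_right, _root_.mul_eq_left, _root_.Set.mem_singleton_iff, _root_.or_true]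
  have h1 : Nat.card V ≤ 4 := by
    calc Nat.card V = (V : Set G').ncard := rfl
      _ ≤ ({1, a, b, b * a} : Set G').ncard := Set.ncard_le_ncard hsub (Set.toFinite _)
      _ ≤ ({a, b, b * a} : Set G').ncard + 1 := Set.ncard_insert_le _ _
      _ ≤ (({b, b * a} : Set G').ncard + 1) + 1 := by gcongr; exact Set.ncard_insert_le _ _
      _ ≤ ((({b * a} : Set G').ncard + 1) + 1) + 1 := by gcongr; exact Set.ncard_insert_le _ _
      _ = 4 := by rw [Set.ncard_singleton]
  have := h.card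
  omega

/-- **the semilinear case** -/
theorem false_of_semi (h : Cx V K) (hm : 1 ≤ m) (hR : Rep K ρ φ) (hP : ∀ g ∈ V, φ g ∈ (Psi m F).range) : False := by
  obtain ⟨l, hl, hlσ⟩ := exists_scalar h hm hR
  obtain ⟨v₀, hv₀V, hv₀K, hv₀1⟩ : ∃ v ∈ V, v ∈ K ∧ v ≠ 1 := by
    by_contra hcon
    push Not at hcon
    obtain ⟨v, hv, hv1⟩ : ∃ w ∈ V, w ≠ 1 := by
      by_contra hcon
      push Not at hcon
      exact h.V_ne_bot ((Subgroup.eq_bot_iff_forall V).2 hcon)
    have hsub : (V : Set G') ⊆ {1, v} := by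
      intro g hg
      by_cases hg1 : g = 1
      · simp [hg1]
      have hvK : v ∉ K := fun hk => hv1 (hcon v hv hk)
      have hgK : g ∉ K := fun hk => hg1 (hcon g hg hk)
      have h1 := hcon _ (V.mul_mem hv hg) (mul_mem_K h hm hR (h.sq hv) (h.sq hg) (hP v hv) (hP g hg) hvK hgK)
      have h2 : g = v := by
        rw [← h.inv_eq hv]
        exact eq_inv_of_mul_eq_one_right h1
      simp [h2]
    have h1 : Nat.card V ≤ 2 := by
      calc Nat.card V = (V : Set G').ncard := rfl
        _ ≤ ({1, v} : Set G').ncard := Set.ncard_le_ncard hsub (Set.toFinite _)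
        _ ≤ ({v} : Set G').ncard + 1 := Set.ncard_insert_le _ _
        _ = 2 := by rw [Set.ncard_singleton]
    have := h.card
    omega
  -- for all `v = ρ A ∈ V ∩ K`: `A` is not alternating, but some `w = ρ B ∈ V ∩ K` is
  have key : ∀ A : Sp, ρ A ∈ V → A ≠ 1 →
      (¬ ∀ w : W, f w (A • w) = 0) ∧ ∃ B : Sp, ρ B ∈ V ∧ B ≠ 1 ∧ ∀ w : W, f w (B • w) = 0 := by
    intro A hAV hA1
    have hρ1 : ρ A ≠ 1 := fun h1 => hA1 (hR.inj (by rw [h1, map_one]))
    have hAA : A * A = 1 := by
      apply hR.inj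
      rw [map_mul, map_one]
      exact h.sq hAV
    obtain ⟨x, hxo, hxi, hxR, hxs⟩ := exists_inv hAA hA1 hl
    have hxo' : Odd (orderOf (ρ x)) := by rwa [orderOf_injective ρ hR.inj]
    have hxi' : ρ A * ρ x * (ρ A)⁻¹ = (ρ x)⁻¹ := by
      rw [← map_mul, ← map_inv, ← map_mul, hxi, map_inv]
    obtain ⟨w, hwV, hw1, hwx, hwO⟩ := h.t1 hAV hρ1 hxo' hxi'
    have hwA : Commute w (ρ A) := h.comm hwV hAV
    by_cases hwK : w ∈ K
    · obtain ⟨B, rfl⟩ := hR.surj w hwK
      have hB1 : B ≠ 1 := by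
        rintro rfl
        exact hw1 (map_one ρ)
      have hBB : B * B = 1 := by
        apply hR.inj
        rw [map_mul, map_one]
        exact h.sq hwV
      have hRR := hxR ((O2 (Subgroup.centralizer ({ρ A} : Set G') ⊓ Subgroup.centralizer ({ρ x} : Set G'))).comap ρ)
        ((isPGroup_O2 _).comap_of_injective ρ hR.inj) (by
          intro r hr
          have h1 := O2_le _ (Subgroup.mem_comap.1 hr)
          obtain ⟨h2, h3⟩ := Subgroup.mem_inf.1 h1
          rw [Subgroup.mem_centralizer_singleton_iff] at h2 h3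
          refine Subgroup.mem_inf.2 ⟨Subgroup.mem_centralizer_singleton_iff.2 (hR.inj ?_),
            Subgroup.mem_centralizer_singleton_iff.2 (hR.inj ?_)⟩
          · rw [map_mul, map_mul]; exact h2
          · rw [map_mul, map_mul]; exact h3) (by
          intro c hc r hr
          rw [Subgroup.mem_comap, map_mul, map_mul, map_inv]
          refine conj_mem_O2 ?_ (Subgroup.mem_comap.1 hr)
          obtain ⟨h2, h3⟩ := Subgroup.mem_inf.1 hc
          rw [Subgroup.mem_centralizer_singleton_iff] at h2 h3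
          refine Subgroup.mem_inf.2 ⟨Subgroup.mem_centralizer_singleton_iff.2 ?_,
            Subgroup.mem_centralizer_singleton_iff.2 ?_⟩
          · rw [← map_mul, ← map_mul, h2]
          · rw [← map_mul, ← map_mul, h3])
      obtain ⟨hR1, hR2⟩ := hRR
      constructor
      · intro halt
        apply hB1
        have h1 := hR1 halt
        have h2 : B ∈ ((O2 (Subgroup.centralizer ({ρ A} : Set G') ⊓
          Subgroup.centralizer ({ρ x} : Set G'))).comap ρ) := hwO
        rw [h1, Subgroup.mem_bot] at h2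
        exact h2
      · exact ⟨B, hwV, hB1, hR2 B hwO hBB⟩
    · exfalso
      obtain ⟨s, σ, l', hs⟩ := hR.semi (hP w hwV)
      exact hlσ w hwV hwK s σ l' hs (hxs s σ hs.2.1.1 hs.2.1.2.1 s.injective (fun y => hs.comm hR hwA y)
        (fun y => hs.comm hR hwx y))
  obtain ⟨A, rfl⟩ := hR.surj v₀ hv₀K
  obtain ⟨B, hBV, hB1, hB⟩ := (key A hv₀V (by rintro rfl; exact hv₀1 (map_one ρ))).2
  exact (key B hBV hB1).1 hB

end Grp

section Two

variable {F : Type} [Field F] [CharP F 2] [Finite F]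
variable {G' : Type u} [Group G'] [Finite G'] {V K : Subgroup G'}
variable {ρ : Matrix.symplecticGroup (Fin 2) F →* G'} {φ : G' →* MulAut (PSp 2 F)}

local notation "Sp" => Matrix.symplecticGroup (Fin 2) F
local notation "W" => (Fin 2 ⊕ Fin 2 → F)
local notation "f" => sympForm 2 F

/-- **the case of a graph automorphism** -/
theorem false_of_graph (h : Cx V K) (hR : Rep K ρ φ) (ht : ∃ t : F, t ≠ 0 ∧ t ≠ 1)
    {g₀ : G'} (hg₀ : g₀ ∈ V) (hg₀P : φ g₀ ∉ (Psi 2 F).range) : False := by
  have hm : (2 : ℕ) ≤ 2 := le_rfl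
  have hm1 : (1 : ℕ) ≤ 2 := by norm_num
  have hB : ∀ α : MulAut (PSp 2 F), AutPSpCount.Pres α → α ∈ (Psi 2 F).range := fun α hα =>
    SympAutExists.exists_semi hm α hα
  have hidx := SympAutTwo.index_two (F := F) ht hB
  obtain ⟨l, hl, hlσ⟩ := exists_scalar h hm1 hR
  obtain ⟨v₀, hv₀V, hv₀K, hv₀1⟩ := exists_mem_K h hm1 hR (by
    intro g g' hg hg'
    rw [map_mul, Subgroup.mul_mem_iff_of_index_two hidx]
    simp [hg, hg'])
  -- (T)
  have hT : ∀ A : Sp, ρ A ∈ V → ¬ ∃ b : W, b ≠ 0 ∧ ∃ k : F, k ≠ 0 ∧ A = transv b k := by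
    rintro A hAV ⟨b, hb, k, hk, rfl⟩
    apply hg₀P
    refine mem_range_of_transv hm hb hb hk hk ?_
    rw [hR.act, (h.comm hg₀ hAV).eq, mul_inv_cancel_right]
  -- (A)
  have hA : ∀ A : Sp, ρ A ∈ V → A ≠ 1 → ∃ w : W, f w (A • w) ≠ 0 := by
    intro A hAV hA1
    by_contra hcon
    push Not at hcon
    have hAA : A * A = 1 := by
      apply hR.inj
      rw [map_mul, map_one]
      exact h.sq hAV
    obtain ⟨g, hg⟩ := alt_conj hAA hA1 hcon
    rcases SympAutTwo.recog_two ht (φ g₀) with h1 | h1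
    · exact hg₀P (hB _ h1)
    obtain ⟨s, ⟨b, hb, rfl⟩, hsc⟩ := h1 (Sp4GraphAut.e1 F) Sp4GraphAut.e1_ne_zero 1 one_ne_zero
    obtain ⟨y, hy⟩ := isConj_iff.1 hsc
    obtain ⟨Y, rfl⟩ := QuotientGroup.mk_surjective y
    have hSb : ∀ w : W, f w (Sp4GraphAut.S b • w) = 0 := by
      intro w
      rw [smul_def, Sp4GraphAut.S_mulVec, sympForm_add_right, sympForm_add_right, sympForm_self,
        sympForm_smul_right, sympForm_smul_right]
      have e1 : f w (Sp4GraphAut.e1 F) = w (Sum.inr 0) := sympForm_single_inl_right 0 w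
      have e2 : f w (Sp4GraphAut.e2 F) = w (Sum.inr 1) := sympForm_single_inl_right 1 w
      rw [e1, e2, zero_add]
      have : b * w (Sum.inr 1) * w (Sum.inr 0) + b * w (Sum.inr 0) * w (Sum.inr 1) =
        b * w (Sum.inr 1) * w (Sum.inr 0) + b * w (Sum.inr 1) * w (Sum.inr 0) := by ring
      rw [this, CharTwo.add_self_eq_zero]
    have hSS : Sp4GraphAut.S b * Sp4GraphAut.S b = 1 := by
      apply ext_smul
      intro w
      rw [mul_smul, one_smul, smul_def, smul_def, Sp4GraphAut.S_mulVec, Sp4GraphAut.S_mulVec]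
      ext i
      rcases i with i | i <;> (revert i; simp only [Sp4GraphAut.e1, Sp4GraphAut.e2, add_assoc, CharTwo.add_self_eq_zero, _root_.Fin.forall_fin_succ, Fin.isValue, _root_.Pi.add_apply, _root_.Pi.smul_apply, _root_.ne_eq, reduceCtorEq, _root_.not_false_eq_true, _root_.Pi.single_eq_of_ne, _root_.smul_eq_mul, _root_.MulZeroClass.mul_zero, _root_.add_zero, _root_.add_eq_left, _root_.Pi.single_eq_same, _root_.mul_one, _root_.Sum.inl.injEq, _root_.zero_ne_one, _root_.zero_add, _root_.Fin.succ_ne_zero, _root_.implies_true, _root_.and_self])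
    have hS1 : Sp4GraphAut.S b ≠ 1 := by
      intro h2
      apply Sp4GraphAut.S_ne_transv hb (0 : W) 0
      rw [h2, transv_zero]
    obtain ⟨g', hg'⟩ := alt_conj hSS hS1 hSb
    -- `φ g₀ t = C A C⁻¹`
    obtain ⟨C, hC⟩ : ∃ C : Sp, C = Y * g' * g⁻¹ := ⟨_, rfl⟩
    have h2 : g₀ * ρ (transv (Sp4GraphAut.e1 F) 1) * g₀⁻¹ = ρ (C * A * C⁻¹) := by
      rw [← hR.act, ← hy, ← QuotientGroup.mk_inv, ← QuotientGroup.mk_mul, ← QuotientGroup.mk_mul]
      congr 1
      rw [hC, hg', hg]
      group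
    obtain ⟨D, hD⟩ := hR.surj (g₀⁻¹ * ρ C * g₀) (by
      have := h.norm.conj_mem (ρ C) (hR.mem C) g₀⁻¹
      rwa [inv_inv] at this)
    have h3 : transv (Sp4GraphAut.e1 F) 1 = D * A * D⁻¹ := by
      apply hR.inj
      rw [map_mul, map_mul, map_inv, hD]
      have hc : g₀⁻¹ * ρ A * g₀ = ρ A := by
        rw [mul_assoc, ← (h.comm hg₀ hAV).eq]
        group
      calc ρ (transv (Sp4GraphAut.e1 F) 1) = g₀⁻¹ * (g₀ * ρ (transv (Sp4GraphAut.e1 F) 1) * g₀⁻¹) * g₀ := by group
        _ = g₀⁻¹ * (ρ C * ρ A * (ρ C)⁻¹) * g₀ := by rw [h2, map_mul, map_mul, map_inv]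
        _ = (g₀⁻¹ * ρ C * g₀) * (g₀⁻¹ * ρ A * g₀) * (g₀⁻¹ * ρ C * g₀)⁻¹ := by group
        _ = _ := by rw [hc]
    apply hT A hAV
    refine ⟨D⁻¹ • Sp4GraphAut.e1 F, smul_ne_zero' _ Sp4GraphAut.e1_ne_zero, 1, one_ne_zero, ?_⟩
    rw [← conj_transv, h3]
    group
  -- (C)
  obtain ⟨A, rfl⟩ := hR.surj v₀ hv₀K
  have hA1 : A ≠ 1 := by rintro rfl; exact hv₀1 (map_one ρ)
  have hAA : A * A = 1 := by
    apply hR.inj
    rw [map_mul, map_one]
    exact h.sq hv₀V
  obtain ⟨w₀, hw₀⟩ := hA A hv₀V hA1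
  obtain ⟨x, hxo, hxi, hxB, ⟨A', hA'1, hA'A', hA'A, hA'x⟩, hxs⟩ := sp4_key hAA hw₀ hl
  have hxo' : Odd (orderOf (ρ x)) := by rwa [orderOf_injective ρ hR.inj]
  have hxi' : ρ A * ρ x * (ρ A)⁻¹ = (ρ x)⁻¹ := by
    rw [← map_mul, ← map_inv, ← map_mul, hxi, map_inv]
  obtain ⟨w, hwV, hw1, hwx⟩ := h.t0 hv₀V hxo' hxi'
  have hwA : Commute w (ρ A) := h.comm hwV hv₀V
  by_cases hwK : w ∈ K
  · obtain ⟨B, rfl⟩ := hR.surj w hwK
    apply hT B hwV
    apply hxB B
    · apply hR.inj
      rw [map_mul, map_one]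
      exact h.sq hwV
    · rintro rfl
      exact hw1 (map_one ρ)
    · apply hR.inj
      rw [map_mul, map_mul]
      exact hwA.eq
    · apply hR.inj
      rw [map_mul, map_mul]
      exact hwx.eq
  · have hA'1' : A' ≠ 1 := fun h1 => hT A hv₀V (hA'1 h1)
    obtain ⟨b, hb, k, hk, hbk⟩ := hxB A' hA'A' hA'1' hA'A hA'x
    obtain ⟨B, hBw⟩ := hR.surj (w * ρ A' * w⁻¹) (h.norm.conj_mem _ (hR.mem A') w)
    have hBB : B * B = 1 := by
      apply hR.inj
      rw [map_mul, map_one, hBw]
      calc w * ρ A' * w⁻¹ * (w * ρ A' * w⁻¹) = w * (ρ A' * ρ A') * w⁻¹ := by group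
        _ = 1 := by rw [← map_mul, hA'A', map_one]; group
    have hB1 : B ≠ 1 := by
      rintro rfl
      apply hA'1'
      apply hR.inj
      rw [map_one] at hBw ⊢
      calc ρ A' = w⁻¹ * (w * ρ A' * w⁻¹) * w := by group
        _ = 1 := by rw [← hBw]; group
    have hBA : B * A = A * B := by
      apply hR.inj
      rw [map_mul, map_mul, hBw]
      have e1 : Commute (ρ A') (ρ A) := by
        change ρ A' * ρ A = ρ A * ρ A'
        rw [← map_mul, ← map_mul, hA'A]
      exact ((hwA.mul_left e1).mul_left hwA.inv_left).eq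
    have hBx : B * x = x * B := by
      apply hR.inj
      rw [map_mul, map_mul, hBw]
      have e1 : Commute (ρ A') (ρ x) := by
        change ρ A' * ρ x = ρ x * ρ A'
        rw [← map_mul, ← map_mul, hA'x]
      exact ((hwx.mul_left e1).mul_left hwx.inv_left).eq
    obtain ⟨b', hb', k', hk', hbk'⟩ := hxB B hBB hB1 hBA hBx
    have hwP : φ w ∈ (Psi 2 F).range := by
      refine mem_range_of_transv hm hb hb' hk hk' ?_
      rw [hR.act, ← hbk, ← hbk', hBw]
    obtain ⟨s, σ, l', hs⟩ := hR.semi hwP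
    exact hlσ w hwV hwK s σ l' hs (hxs s σ hs.2.1.1 hs.2.1.2.1 s.injective (fun y => hs.comm hR hwA y)
      (fun y => hs.comm hR hwx y))

end Two

/-- **The row `PSp_2m(q)`, `q` even.** -/
theorem row_psp : DeadS.{u} fun K _ => Cfsg.Agent.H731.SK.PspEven K := by
  intro G' _ _ V K h hK
  obtain ⟨F, _, _, _, m, hm, hm2, ⟨e⟩⟩ := hK
  obtain ⟨ρ, φ, hR⟩ := exists_rep h e
  by_cases hP : ∀ g ∈ V, φ g ∈ (Psi m F).range
  · exact false_of_semi h (by omega) hR hP
  push Not at hP
  obtain ⟨g₀, hg₀, hg₀P⟩ := hP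
  rcases Nat.lt_or_ge m 3 with hm3 | hm3
  · obtain rfl : m = 2 := by omega
    have ht : ∃ t : F, t ≠ 0 ∧ t ≠ 1 := by
      classical
      by_contra hcon
      push Not at hcon
      have h1 : (Finset.univ : Finset F) ⊆ {0, 1} := by
        intro t _
        by_cases h0 : t = 0
        · simp only [h0, _root_.Finset.mem_insert, _root_.Finset.mem_singleton, _root_.zero_ne_one, _root_.or_false]
        · simp only [hcon t h0, _root_.Finset.mem_insert, _root_.one_ne_zero, _root_.Finset.mem_singleton, _root_.or_true]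
      have h2 := Finset.card_le_card h1
      have h3 : ({0, 1} : Finset F).card ≤ 2 := Finset.card_le_two
      have h4 := hm2 rfl
      rw [Finset.card_univ] at h2
      omega
    exact false_of_graph h hR ht hg₀ hg₀P
  · exact hg₀P (SympAutExists.exists_semi hm (φ g₀) (SympAutOddA.recog hm (Or.inl hm3) (φ g₀)))

end Cfsg.Agent.H736.SK
end

-- part: H748/SK/Odd
section
/-!
# S3010: the argument of `H465.SK.OddCore` for a group `X` without outer automorphisms (helper748)

* `Good p w` : the condition of `HasQ` on one element, invariant under conjugation;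
* `good_of_index_two` : `|C(x)| = 2 p ^ m` and no involution centralises a group of order `p ^ m`;
* `false_of` : `Cx V K`, `K = ⊤`, `G ≃* X`, `NoCent p X`, `HasQ p X`, `p` divides the orders of the centralisers of the
  involutions of `X`: `False`;
* `eq_top_of_inner` : `Cx V K`, all automorphisms of `K` inner: `K = ⊤`.
-/

set_option autoImplicit false
set_option linter.unusedSectionVars false
set_option linter.style.haveILetI false

universe u

namespace Cfsg.Agent.H748.SK

open Cfsg Subgroup Cfsg.Agent.H465.SK Cfsg.Agent.H282.SK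

section Gen

variable {G X : Type*} [Group G] [Group X] [Finite G] [Finite X]

/-- `(T1)` under an isomorphism -/
theorem t1_map (e : G ≃* X) {V : Subgroup G} (h : T1 V) : T1 (V.map e.toMonoidHom) := by
  rintro _ ⟨v, hv, rfl⟩ x hx1 hxo hvx
  obtain ⟨y, rfl⟩ := e.surjective x
  have hy1 : y ≠ 1 := fun h => hx1 (by rw [h, map_one])
  have hyo : Odd (orderOf y) := by rwa [e.orderOf_eq] at hxo
  have hvx' : e v * e y * (e v)⁻¹ = (e y)⁻¹ := hvx
  have hvy : v * y * v⁻¹ = y⁻¹ := e.injective (by rw [map_mul, map_mul, map_inv, map_inv]; exact hvx')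
  obtain ⟨r, hr, hr1, hrv, hry, R, hrR, hR, hRn⟩ := h v hv y hy1 hyo hvy
  refine ⟨e r, ⟨r, hr, rfl⟩, fun h => hr1 (e.injective (by rw [h, map_one])), ?_, ?_, R.map e.toMonoidHom,
    ⟨r, hrR, rfl⟩, hR.map _, ?_⟩
  · show e r * e v = e v * e r
    rw [← map_mul, ← map_mul, hrv]
  · show e r * e y = e y * e r
    rw [← map_mul, ← map_mul, hry]
  · rintro c hcv hcy _ ⟨z, hz, rfl⟩
    obtain ⟨c, rfl⟩ := e.surjective c
    refine ⟨c * z * c⁻¹, hRn c ?_ ?_ z hz, ?_⟩
    · have hcv' : e c * e v = e v * e c := hcv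
      exact e.injective (by rw [map_mul, map_mul]; exact hcv')
    · exact e.injective (by rw [map_mul, map_mul]; exact hcy)
    · show e (c * z * c⁻¹) = e c * e z * (e c)⁻¹
      rw [map_mul, map_mul, map_inv]

/-- the condition of `HasQ` on one element of the whole group -/
def Good (p : ℕ) (w : G) : Prop := ∃ Q : Subgroup G, IsPGroup p Q ∧ w ∈ Q ∧
  (∀ g : G, (∀ q ∈ Q, g * q = q * g) → g ∈ Q) ∧
  ∀ g : G, g * w * g⁻¹ = w ∨ g * w * g⁻¹ = w⁻¹ → ∀ q ∈ Q, g * q * g⁻¹ ∈ Q

theorem Good.conj {p : ℕ} {w : G} (h : Good p w) (a : G) : Good p (a * w * a⁻¹) := by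
  obtain ⟨Q, hQ, hw, hc, hn⟩ := h
  refine ⟨Q.map (MulAut.conj a).toMonoidHom, hQ.map _, ⟨w, hw, rfl⟩, ?_, ?_⟩
  · intro g hg
    refine ⟨a⁻¹ * g * a, hc _ ?_, ?_⟩
    · intro q hq
      have h1 : g * (a * q * a⁻¹) = (a * q * a⁻¹) * g := hg (a * q * a⁻¹) ⟨q, hq, rfl⟩
      calc a⁻¹ * g * a * q = a⁻¹ * (g * (a * q * a⁻¹)) * a := by group
        _ = a⁻¹ * ((a * q * a⁻¹) * g) * a := by rw [h1]
        _ = q * (a⁻¹ * g * a) := by group
    · show a * (a⁻¹ * g * a) * a⁻¹ = g
      group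
  · rintro g hg _ ⟨q, hq, rfl⟩
    refine ⟨(a⁻¹ * g * a) * q * (a⁻¹ * g * a)⁻¹, hn _ ?_ q hq, ?_⟩
    · rcases hg with hg | hg
      · left
        calc (a⁻¹ * g * a) * w * (a⁻¹ * g * a)⁻¹ = a⁻¹ * (g * (a * w * a⁻¹) * g⁻¹) * a := by group
          _ = w := by rw [hg]; group
      · right
        calc (a⁻¹ * g * a) * w * (a⁻¹ * g * a)⁻¹ = a⁻¹ * (g * (a * w * a⁻¹) * g⁻¹) * a := by group
          _ = w⁻¹ := by rw [hg]; group
    · show a * ((a⁻¹ * g * a) * q * (a⁻¹ * g * a)⁻¹) * a⁻¹ = g * (a * q * a⁻¹) * g⁻¹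
      group

theorem Good.of_isConj {p : ℕ} {w x : G} (h : Good p x) (hc : IsConj w x) : Good p w := by
  obtain ⟨g, hg⟩ := isConj_iff.1 (isConj_comm.1 hc)
  rw [← hg]
  exact h.conj g

theorem hasQ_of_good {p : ℕ} (h : ∀ x : G, x ≠ 1 → (∃ k : ℕ, x ^ p ^ k = 1) → Good p x) : HasQ p (⊤ : Subgroup G) := by
  intro x _ hx1 hx
  obtain ⟨Q, hQ, hxQ, hc, hn⟩ := h x hx1 hx
  exact ⟨Q, le_top, hQ, hxQ, fun g _ hg => hc g hg, hn⟩

/-- `|C(x)| = 2 p ^ m` and no involution centralises a group of order `p ^ m` -/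
theorem good_of_index_two {p m : ℕ} [hp : Fact p.Prime] (hp2 : p ≠ 2) {x : G} (hx : orderOf x = p)
    (hc : Nat.card (centralizer ({x} : Set G)) = 2 * p ^ m)
    (h2 : ∀ t : G, orderOf t = 2 → ¬ p ^ m ∣ Nat.card (centralizer ({t} : Set G))) : Good p x := by
  classical
  obtain ⟨C, hC⟩ : ∃ C : Subgroup G, C = centralizer ({x} : Set G) := ⟨_, rfl⟩
  rw [← hC] at hc
  have hmem : ∀ g : G, g ∈ C ↔ g * x = x * g := fun g => by rw [hC, mem_centralizer_singleton_iff]
  obtain ⟨P⟩ : Nonempty (Sylow p C) := inferInstance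
  have hfac : (Nat.card C).factorization p = m := by
    rw [hc, Nat.factorization_mul two_ne_zero (pow_ne_zero _ hp.out.ne_zero), Finsupp.add_apply,
      hp.out.factorization_pow, Finsupp.single_eq_same, Nat.factorization_eq_zero_of_not_dvd
      (fun h => hp2 ((Nat.prime_dvd_prime_iff_eq hp.out Nat.prime_two).1 h)), zero_add]
  have hP : Nat.card P = p ^ m := by rw [P.card_eq_multiplicity, hfac]
  have hi : (P : Subgroup C).index = 2 := by
    have h1 := (P : Subgroup C).card_mul_index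
    have h3 : Nat.card (P : Subgroup C) = p ^ m := hP
    rw [h3, hc, mul_comm] at h1
    exact Nat.eq_of_mul_eq_mul_right (pow_pos hp.out.pos m) h1
  -- the `p`-elements of `C` are in `P`
  have key : ∀ y : C, (∃ k, y ^ p ^ k = 1) → y ∈ (P : Subgroup C) := by
    rintro y ⟨k, hk⟩
    have h1 : y ^ 2 ∈ (P : Subgroup C) := Subgroup.sq_mem_of_index_two hi y
    obtain ⟨j, hj⟩ : Odd (p ^ k) := (hp.out.odd_of_ne_two hp2).pow
    have h3 : y = (y ^ 2) ^ (j + 1) := by
      rw [← pow_mul, show 2 * (j + 1) = p ^ k + 1 by omega, pow_succ, hk, one_mul]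
    rw [h3]
    exact pow_mem h1 _
  have hPe : ∀ q : C, q ∈ (P : Subgroup C) → ∃ k, (q : G) ^ p ^ k = 1 := by
    intro q hq
    obtain ⟨k, hk⟩ := P.isPGroup' ⟨q, hq⟩
    refine ⟨k, ?_⟩
    have := congrArg (fun t : P => ((t : C) : G)) hk
    simpa only [_root_.SubmonoidClass.mk_pow, _root_.SubmonoidClass.coe_pow, _root_.OneMemClass.coe_one] using this
  have hxC : x ∈ C := (hmem x).2 rfl
  refine ⟨(P : Subgroup C).map C.subtype, P.isPGroup'.map _, ?_, ?_, ?_⟩
  · refine ⟨⟨x, hxC⟩, key _ ⟨1, Subtype.ext ?_⟩, rfl⟩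
    show x ^ p ^ 1 = 1
    rw [pow_one, ← hx, pow_orderOf_eq_one]
  · intro g hg
    have hxP : x ∈ (P : Subgroup C).map C.subtype := by
      refine ⟨⟨x, hxC⟩, key _ ⟨1, Subtype.ext ?_⟩, rfl⟩
      show x ^ p ^ 1 = 1
      rw [pow_one, ← hx, pow_orderOf_eq_one]
    have hgC : g ∈ C := (hmem g).2 (hg x hxP)
    have h3 : (g ^ p ^ m) ^ 2 = 1 := by
      rw [← pow_mul, mul_comm, ← hc]
      have h4 : (⟨g, hgC⟩ : C) ^ Nat.card C = 1 := pow_card_eq_one'
      exact congrArg Subtype.val h4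
    have h4 : g ^ p ^ m = 1 := by
      by_contra hne
      have h5 : orderOf (g ^ p ^ m) = 2 := orderOf_eq_prime h3 hne
      apply h2 _ h5
      have h6 : (P : Subgroup C).map C.subtype ≤ centralizer ({g ^ p ^ m} : Set G) := by
        intro q hq
        rw [mem_centralizer_singleton_iff]
        exact ((show Commute g q from hg q hq).pow_left _).eq.symm
      have h7 := card_dvd_of_le h6
      rwa [card_map_of_injective C.subtype_injective, show Nat.card (P : Subgroup C) = p ^ m from hP] at h7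
    exact ⟨⟨g, hgC⟩, key _ ⟨m, Subtype.ext h4⟩, rfl⟩
  · rintro g hg _ ⟨q, hq, rfl⟩
    obtain ⟨k, hk⟩ := hPe q hq
    have hqx : Commute (q : G) x := (hmem q).1 q.2
    have h3 : Commute (g * q * g⁻¹) (g * x * g⁻¹) := by
      show g * q * g⁻¹ * (g * x * g⁻¹) = g * x * g⁻¹ * (g * q * g⁻¹)
      calc g * q * g⁻¹ * (g * x * g⁻¹) = g * (q * x) * g⁻¹ := by group
        _ = g * (x * q) * g⁻¹ := by rw [hqx.eq]
        _ = _ := by group
    have h4 : g * q * g⁻¹ ∈ C := by
      rw [hmem]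
      rcases hg with hg | hg
      · rw [hg] at h3
        exact h3
      · rw [hg] at h3
        exact (Commute.inv_right_iff.1 h3).eq
    refine ⟨⟨g * q * g⁻¹, h4⟩, key _ ⟨k, Subtype.ext ?_⟩, rfl⟩
    show (g * q * g⁻¹) ^ p ^ k = 1
    rw [conj_pow, hk]
    group

/-- no involution centralises a Sylow `p`-subgroup -/
theorem noCent_of {p m : ℕ} [hp : Fact p.Prime] (hd : p ^ m ∣ Nat.card G)
    (h2 : ∀ t : G, orderOf t = 2 → ¬ p ^ m ∣ Nat.card (centralizer ({t} : Set G))) : NoCent p (⊤ : Subgroup G) := by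
  intro r hr hr1 P _ hP hmax
  by_contra hcon
  push Not at hcon
  obtain ⟨Q, hQ⟩ := hP.exists_le_sylow
  have h3 : (Q : Subgroup G) = P := hmax Q hQ le_top Q.isPGroup'
  have h4 : p ^ m ∣ Nat.card P := by
    rw [← h3]
    exact Q.pow_dvd_card_of_pow_dvd_card hd
  have h5 : P ≤ centralizer ({r} : Set G) := fun u hu => mem_centralizer_singleton_iff.2 (hcon u hu).symm
  exact h2 r (orderOf_eq_prime (by rw [pow_two, hr]) hr1) (h4.trans (card_dvd_of_le h5))

end Gen

section

variable {G : Type u} [Group G] [Finite G] {V K : Subgroup G}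

/-- the tool `(T1)` (as `H465.SK.Cx.toT1`) -/
theorem toT1 (h : Cx V K) : T1 V := by
  intro v hv x hx1 hxo hvx
  have hv1 : v ≠ 1 := by
    rintro rfl
    apply hx1
    have h1 : x * x = 1 := by
      have h2 : x = x⁻¹ := by simpa using hvx
      nth_rewrite 2 [h2]
      exact mul_inv_cancel x
    have h4 : orderOf x ∣ 2 := orderOf_dvd_of_pow_eq_one (by rw [pow_two, h1])
    rcases (Nat.dvd_prime Nat.prime_two).1 h4 with h5 | h5
    · exact orderOf_eq_one_iff.1 h5
    · rw [h5] at hxo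
      exact absurd hxo (by decide)
  obtain ⟨w, hw, hw1, hwx, hwO⟩ := h.t1 hv hv1 hxo hvx
  exact ⟨w, hw, hw1, (h.comm hw hv).eq, hwx.eq, _, hwO, isPGroup_O2 _, fun c hcv hcx y hy =>
    conj_mem_O2 (mem_inf.2 ⟨mem_centralizer_singleton_iff.2 hcv, mem_centralizer_singleton_iff.2 hcx⟩) hy⟩

/-- all automorphisms of `K` are inner: `G = K` -/
theorem eq_top_of_inner (h : Cx V K) (hin : ∀ α : MulAut K, ∃ p : K, α = MulAut.conj p) : K = ⊤ := by
  haveI := h.norm
  rw [eq_top_iff]
  intro g _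
  obtain ⟨p, hp⟩ := hin (MulAut.conjNormal g)
  have hk : ∀ k ∈ K, g * k * g⁻¹ = (p : G) * k * (p : G)⁻¹ := by
    intro k hk
    have h1 := MulAut.conjNormal_apply (H := K) g ⟨k, hk⟩
    rw [hp] at h1
    exact h1.symm
  have h1 : (p : G)⁻¹ * g = 1 := by
    apply h.eq_one_of_comm
    intro k hk'
    calc (p : G)⁻¹ * g * k = (p : G)⁻¹ * (g * k * g⁻¹) * g := by group
      _ = (p : G)⁻¹ * ((p : G) * k * (p : G)⁻¹) * g := by rw [hk k hk']
      _ = k * ((p : G)⁻¹ * g) := by group
  rw [← inv_mul_eq_one.1 h1]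
  exact p.2

/-- **The argument of `H465.SK.OddCore` for `G ≃* X`.** -/
theorem false_of {X : Type*} [Group X] [Finite X] (h : Cx V K) (e : G ≃* X) {p : ℕ} [hp : Fact p.Prime] (hp2 : p ≠ 2)
    (hN : NoCent p (⊤ : Subgroup X)) (hQ : HasQ p (⊤ : Subgroup X))
    (hd : ∀ t : X, orderOf t = 2 → p ∣ Nat.card (centralizer ({t} : Set X))) : False := by
  obtain ⟨v, hv, hv1⟩ : ∃ v ∈ V, v ≠ 1 := by
    by_contra hcon
    push Not at hcon
    exact h.V_ne_bot (eq_bot_iff.2 fun v hv => mem_bot.2 (hcon v hv))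
  have hv1' : e v ≠ 1 := fun h => hv1 (e.injective (by rw [h, map_one]))
  have hvo : orderOf (e v) = 2 := orderOf_eq_prime (by rw [pow_two, ← map_mul, h.sq hv, map_one]) hv1'
  obtain ⟨x, hx⟩ := exists_prime_orderOf_dvd_card' p (hd _ hvo)
  refine no_centralized (K := (⊤ : Subgroup X)) (V := V.map e.toMonoidHom) (p := p) inferInstance hp2 hN hQ ?_ ?_
    (t1_map e (toT1 h)) (v := e v) (x := (x : X)) ⟨v, hv, rfl⟩ hv1' (mem_top _) ?_ ⟨1, ?_⟩
    (mem_centralizer_singleton_iff.1 x.2).symm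
  · rintro _ ⟨a, ha, rfl⟩
    show e a * e a = 1
    rw [← map_mul, h.sq ha, map_one]
  · rintro _ ⟨a, ha, rfl⟩ _ ⟨b, hb, rfl⟩
    show e a * e b = e b * e a
    rw [← map_mul, ← map_mul, (h.comm ha hb).eq]
  · intro h1
    rw [← Subgroup.orderOf_coe, h1, orderOf_one] at hx
    exact hp.out.one_lt.ne hx
  · rw [pow_one, ← hx, ← Subgroup.orderOf_coe, pow_orderOf_eq_one]

end

end Cfsg.Agent.H748.SK
end

-- part: H748/SK/J4
section
/-!
# S3010, the row `J4` (helper748, task 3725)

`p = 11` in the argument of `H465.SK.OddCore`: `Q = U = 11 ^ (1 + 2)` for the elements conjugate to the generator `c` of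
its centre, `Q = 11 ^ 2` for the others (`|C(x)| = 242`); the orders of the involution centralisers are divisible by 11
and not by `11 ^ 2`.
-/

set_option autoImplicit false
set_option linter.style.haveILetI false

universe u

namespace Cfsg.Agent.H748.SK.J4

open Cfsg Subgroup Cfsg.Agent.H465.SK Cfsg.Agent.H282.SK Cfsg.Agent.H859

theorem fact_eleven : Fact (Nat.Prime 11) := ⟨by norm_num⟩

/-! ### the involution centralizers (copied from `H877.IMJ4`) -/

theorem card_cent_z {G : Type*} [Group G] [Finite G] {z : G} (h : IsOfJankoFourTypeAt z) :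
    Nat.card (centralizer ({z} : Set G)) = 21799895040 := by
  obtain ⟨P, -, -, hQ, -, ⟨N, -, hNC, -, hN, ⟨hn, ⟨e⟩⟩, -⟩, -⟩ := h
  rw [card_eq_card_quotient_mul_card_subgroup (N.subgroupOf (centralizer ({z} : Set G))),
    Nat.card_congr e.toEquiv, Nat.card_congr (subgroupOfEquivOfLe hNC).toEquiv, hN, hQ,
    Cfsg.Agent.H856.AutM22.card_aut]
  norm_num

theorem card_cent {G : Type*} [Group G] [Finite G] [IsSimpleGroup G] (hG : ¬ IsMulCommutative G) {z : G}
    (h : IsOfJankoFourTypeAt z) {t : G} (ht : orderOf t = 2) :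
    Nat.card (centralizer ({t} : Set G)) = 21799895040 ∨ Nat.card (centralizer ({t} : Set G)) = 1816657920 := by
  by_cases hzt : IsConj z t
  · left
    rw [← card_cent_z h]
    exact (Cfsg.Agent.H859.ClassEleven.card_centralizer_conj hzt).symm
  · right
    obtain ⟨V, K, hV, hK, hn, hea, hc, hi, hs, ⟨e⟩⟩ := Cfsg.Agent.S5569.result hG z h t ht hzt
    have hVn : (V.subgroupOf (centralizer ({t} : Set G))).Normal := by
      constructor
      intro x hx y
      rw [mem_subgroupOf] at hx ⊢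
      exact ((mem_normalizer_iff.1 (hn y.2)) x).1 hx
    have hcomp : IsComplement' (V.subgroupOf (centralizer ({t} : Set G)))
        (K.subgroupOf (centralizer ({t} : Set G))) := by
      apply isComplement'_of_disjoint_and_mul_eq_univ
      · rw [disjoint_iff, eq_bot_iff]
        rintro x ⟨h1, h2⟩
        rw [mem_bot]
        apply Subtype.ext
        have h3 : (x : G) ∈ K ⊓ V := ⟨h2, h1⟩
        rw [hi] at h3
        exact mem_bot.1 h3
      · rw [Set.eq_univ_iff_forall]
        rintro ⟨x, hx⟩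
        have h3 : x ∈ K ⊔ V := by rw [hs]; exact hx
        have hKn : K ≤ normalizer (V : Set G) := hK.trans hn
        have h4 : x ∈ ((V ⊔ K : Subgroup G) : Set G) := by rw [sup_comm]; exact h3
        rw [coe_mul_of_right_le_normalizer_left V K hKn] at h4
        obtain ⟨v, hv, k, hk, rfl⟩ := h4
        exact ⟨⟨v, hV hv⟩, hv, ⟨k, hK hk⟩, hk, rfl⟩
    have h5 := hcomp.card_mul
    rw [← h5, Nat.card_congr (subgroupOfEquivOfLe hV).toEquiv, Nat.card_congr (subgroupOfEquivOfLe hK).toEquiv, hc,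
      Nat.card_congr e.toEquiv, Cfsg.Agent.H856.AutM22.card_aut]
    norm_num

/-! ### the facts on `J4` -/

theorem nonab : ¬ IsMulCommutative Spor.J4 := by
  intro hm
  have h1 : centralizer ({SylEleven.x} : Set Spor.J4) = ⊤ :=
    eq_top_iff.2 fun g _ => mem_centralizer_singleton_iff.2 (hm.1.1 g SylEleven.x)
  have h2 := SylEleven.card_centralizer_x_eq
  rw [h1, Nat.card_congr Subgroup.topEquiv.toEquiv, Cfsg.Agent.S1703.result.2] at h2
  norm_num at h2

theorem eleven {t : Spor.J4} (ht : orderOf t = 2) : 11 ∣ Nat.card (centralizer ({t} : Set Spor.J4)) ∧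
    ¬ 11 ^ 2 ∣ Nat.card (centralizer ({t} : Set Spor.J4)) := by
  have hsim : IsSimpleGroup Spor.J4 := Cfsg.Agent.S1703.result.1
  have : Finite Spor.J4 := SylEleven.finite_J4
  obtain ⟨z, hz⟩ := Cfsg.Agent.H337.isOfJankoFourType_of_isoJ4 (G := Spor.J4) ⟨MulEquiv.refl _⟩
  rcases card_cent nonab hz ht with h | h <;> rw [h] <;> norm_num

theorem good_c : Good 11 NU.c := by
  refine ⟨NU.U, SylEleven.isPGroup_U, SylEleven.c_mem, fun g hg => CentC.centralizer_U_le ?_, ?_⟩
  · rw [mem_centralizer_iff]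
    exact fun q hq => (hg q hq).symm
  · intro g hg q hq
    have h1 : g ∈ normalizer ((zpowers NU.c : Subgroup Spor.J4) : Set Spor.J4) := by
      have h2 : (zpowers NU.c).map (MulAut.conj g).toMonoidHom = zpowers NU.c := by
        rw [MonoidHom.map_zpowers]
        show zpowers (g * NU.c * g⁻¹) = _
        rcases hg with hg | hg
        · rw [hg]
        · rw [hg, zpowers_inv]
      rw [mem_normalizer_iff_map_conj_eq]
      exact h2
    exact (mem_normalizer_iff.1 (CentC.normalizer_c_le h1) q).1 hq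

theorem good_x : Good 11 SylEleven.x := by
  have := fact_eleven
  have : Finite Spor.J4 := SylEleven.finite_J4
  exact good_of_index_two (m := 2) (by norm_num) ClassEleven.orderOf_x
    (by rw [SylEleven.card_centralizer_x_eq]; norm_num) fun t ht => (eleven ht).2

theorem hasQ : HasQ 11 (⊤ : Subgroup Spor.J4) := by
  have := fact_eleven
  have : Finite Spor.J4 := SylEleven.finite_J4
  refine hasQ_of_good fun w hw1 hw => ?_
  have hwo : orderOf w = 11 := by
    obtain ⟨g, hg⟩ := SylEleven.exists_conj_mem SylEleven.isPGroup_U SylEleven.not_dvd_U hw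
    have h1 := Heis.pow_p NU.rel (by norm_num) hg
    rw [conj_pow] at h1
    have h2 : w ^ 11 = 1 := by
      calc w ^ 11 = g⁻¹ * (g * w ^ 11 * g⁻¹) * g := by group
        _ = 1 := by rw [h1]; group
    exact orderOf_eq_prime h2 hw1
  rcases ClassEleven.isConj_or hwo with h | h
  · exact good_x.of_isConj h
  · exact good_c.of_isConj h

theorem noCent : NoCent 11 (⊤ : Subgroup Spor.J4) := by
  have := fact_eleven
  have : Finite Spor.J4 := SylEleven.finite_J4
  refine noCent_of (m := 2) ?_ fun t ht => (eleven ht).2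
  rw [Cfsg.Agent.S1703.result.2]
  norm_num

/-- **S3010, the row `J4`.** -/
theorem dead : DeadS.{u} (fun K _ => Cfsg.Spor.IsoJ4 K) := by
  intro G _ _ V K h hK
  have := fact_eleven
  have : Finite Spor.J4 := SylEleven.finite_J4
  obtain ⟨hfin, hsim, ⟨F⟩⟩ := KFacts.J4.Base.exists_full hK
  have hKt := eq_top_of_inner h (KFacts.J4.SheetJ4.inner F)
  obtain ⟨e⟩ := hK
  let e' : G ≃* Spor.J4 := (Subgroup.topEquiv.symm.trans (MulEquiv.subgroupCongr hKt.symm)).trans e
  exact false_of h e' (p := 11) (by norm_num) noCent hasQ fun t ht => (eleven ht).1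

end Cfsg.Agent.H748.SK.J4
end

-- part: H980/SK/SuzWords
section
/-!
# The Suzuki group: an involution inverting `E = 3²` and centralising `A₆`, one inverting an element of order 13 (helper980)

* `v0` of class 2A inverts `E` and centralises a subgroup `B` of `X = C(E) = C(x)` (`1 ≠ x ∈ E`) of order 360, with
  `B ≅ X / E` simple.
* `e0` of class 2B inverts an element of order 13.
* the fixed subgroup of an outer involutory automorphism has no order divisible by 81 or 13.
-/

set_option autoImplicit false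
set_option maxRecDepth 100000
set_option exponentiation.threshold 5000

namespace Cfsg.Agent.H980.SK.SuzW

open Subgroup Cfsg
open Cfsg.Spor Cfsg.Agent.Lib.PermNet Cfsg.Agent.Lib.PermNetOrbit Cfsg.Agent.SporadicRecognition.SuzPhi
  Cfsg.Agent.SporadicRecognition.SuzBound Cfsg.Agent.SporadicRecognition.SuzOrder
  Cfsg.Agent.SuzThree.Nets Cfsg.Agent.SuzThree.Basic Cfsg.Agent.SuzThree.Elts
open Cfsg.Agent.SuzThree.CentA (z0)
open Cfsg.Agent.KFacts.SuzLFour
open Cfsg.Agent.PreUniq.Spor.SuzP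

/-! ### The involution `v0` -/

def vu : List Suz.Gen := [.g, .f, .b, .g, .a, .b]
def vw : List Suz.Gen := cw vu [.a]

noncomputable def v0 : Suz := el vw

theorem v0_eq : v0 = el vu * z0 * (el vu)⁻¹ := el_cw vu [.a]

theorem v0_sq : v0 * v0 = 1 := by
  rw [v0_eq]
  have h1 : z0 * z0 = 1 := gen_sq .a
  calc el vu * z0 * (el vu)⁻¹ * (el vu * z0 * (el vu)⁻¹) = el vu * (z0 * z0) * (el vu)⁻¹ := by group
    _ = 1 := by rw [h1]; group

theorem v0_x1 : v0 * el x1w * v0⁻¹ = (el x1w)⁻¹ := by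
  have h1 : v0⁻¹ = v0 := inv_eq_of_mul_eq_one_left v0_sq
  rw [h1, ← el_reverse, v0, ← el_append, ← el_append]
  exact weq (by decide +kernel)

theorem v0_x2 : v0 * el x2w * v0⁻¹ = (el x2w)⁻¹ := by
  have h1 : v0⁻¹ = v0 := inv_eq_of_mul_eq_one_left v0_sq
  rw [h1, ← el_reverse, v0, ← el_append, ← el_append]
  exact weq (by decide +kernel)

theorem v0_w0 : v0 * el w0 = el w0 * v0 := _root_.Cfsg.Agent.KFacts.SuzLFour.comm_of (by decide +kernel)
theorem v0_g1 : v0 * el g1w = el g1w * v0 := _root_.Cfsg.Agent.KFacts.SuzLFour.comm_of (by decide +kernel)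
theorem v0_e0 : v0 * e0 = e0 * v0 := _root_.Cfsg.Agent.KFacts.SuzLFour.comm_of (by decide +kernel)
set_option Elab.async false in
theorem v0_u : v0 * u = u * v0 := _root_.Cfsg.Agent.KFacts.SuzLFour.comm_of (by (rewrite [Cfsg.Agent.Lib.PermNetFast.checkEq_fast]; decide +kernel))

theorem v0_x0 : v0 * x0 = x0 * v0 := v0_w0

theorem v0_e1 : v0 * e1 = e1 * v0 := by
  have h1 : Commute v0 x0 := v0_x0
  have h2 : Commute v0 e0 := v0_e0
  exact ((h1.mul_right h2).mul_right h1.inv_right).eq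

theorem v0_y : v0 * y = y * v0 := by
  have h1 : Commute v0 (el w0) := v0_w0
  have h2 : Commute v0 e0 := v0_e0
  have h3 : Commute v0 (el g1w) := v0_g1
  have h4 : y = el g2w * el g1w := el_append _ _
  rw [h4, g2_eq]
  exact (((h2.mul_right h1).mul_right h2).mul_right h3).eq

/-- `v0` inverts `E` -/
theorem v0_inv {x : Suz} (hx : x ∈ E) : v0 * x * v0⁻¹ = x⁻¹ := by
  let S : Subgroup Suz :=
    { carrier := {x | x ∈ E ∧ v0 * x * v0⁻¹ = x⁻¹}
      one_mem' := ⟨one_mem _, by group⟩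
      mul_mem' := by
        rintro a b ⟨ha, ha'⟩ ⟨hb, hb'⟩
        refine ⟨mul_mem ha hb, ?_⟩
        calc v0 * (a * b) * v0⁻¹ = (v0 * a * v0⁻¹) * (v0 * b * v0⁻¹) := by group
          _ = a⁻¹ * b⁻¹ := by rw [ha', hb']
          _ = (b * a)⁻¹ := by group
          _ = (a * b)⁻¹ := by rw [E_ab b hb a ha]
      inv_mem' := by
        rintro a ⟨ha, ha'⟩
        refine ⟨inv_mem ha, ?_⟩
        calc v0 * a⁻¹ * v0⁻¹ = (v0 * a * v0⁻¹)⁻¹ := by group
          _ = _ := by rw [ha'] }
  have h1 : E ≤ S := by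
    rw [E, closure_le]
    rintro _ (rfl | h)
    · exact ⟨x1E, v0_x1⟩
    · rw [Set.mem_singleton_iff] at h
      subst h
      exact ⟨x2E, v0_x2⟩
  exact (h1 hx).2

theorem cube_E {x : Suz} (hx : x ∈ E) : x ^ 3 = 1 := CpAutSuz.ThreeC.cube_E hx

theorem eq_one_of_sq_E {x : Suz} (hx : x ∈ E) (h : x ^ 2 = 1) : x = 1 := by
  have h3 := cube_E hx
  calc x = x ^ 3 * (x ^ 2)⁻¹ := by group
    _ = 1 := by rw [h3, h]; group

/-! ### The subgroup `B ≅ A₆` -/

noncomputable def B : Subgroup Suz := X ⊓ centralizer ({v0} : Set Suz)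

theorem mem_B {g : Suz} : g ∈ B ↔ g ∈ X ∧ v0 * g = g * v0 := by
  rw [B, mem_inf, mem_centralizer_singleton_iff]
  exact ⟨fun h => ⟨h.1, h.2.symm⟩, fun h => ⟨h.1, h.2.symm⟩⟩

theorem E_inf_B {x : Suz} (hx : x ∈ E) (hb : x ∈ B) : x = 1 := by
  apply eq_one_of_sq_E hx
  have h1 := v0_inv hx
  rw [(mem_B.1 hb).2, mul_inv_cancel_right] at h1
  rw [pow_two]
  nth_rw 1 [h1]
  exact inv_mul_cancel _

theorem F_le_B : F ≤ B := by
  intro f hf
  refine mem_B.2 ⟨A_le (F_le_A hf), ?_⟩
  have h1 : F ≤ centralizer ({v0} : Set Suz) := by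
    rw [F, closure_le]
    rintro _ (rfl | h)
    · exact mem_centralizer_singleton_iff.2 v0_w0.symm
    · rw [Set.mem_singleton_iff] at h
      subst h
      exact mem_centralizer_singleton_iff.2 v0_g1.symm
  exact (mem_centralizer_singleton_iff.1 (h1 hf)).symm

theorem y_mem_B : y ∈ B := mem_B.2 ⟨A_le y_mem, v0_y⟩

theorem D_le_B : D ≤ B := by
  intro d hd
  refine mem_B.2 ⟨D_le hd, ?_⟩
  have h1 : D ≤ centralizer ({v0} : Set Suz) := by
    rw [D, closure_le]
    rintro _ (rfl | h)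
    · exact mem_centralizer_singleton_iff.2 v0_e1.symm
    · rw [Set.mem_singleton_iff] at h
      subst h
      exact mem_centralizer_singleton_iff.2 v0_u.symm
  exact (mem_centralizer_singleton_iff.1 (h1 hd)).symm

theorem dvd_B : 360 ∣ Nat.card B := by
  have := finSuz
  have h9 : 9 ∣ Nat.card B := by rw [← card_F]; exact card_dvd_of_le F_le_B
  have h8 : 8 ∣ Nat.card B := by
    obtain ⟨f⟩ := dih
    have h1 : Nat.card D = 8 := by rw [Nat.card_congr f.toEquiv, DihedralGroup.nat_card]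
    rw [← h1]; exact card_dvd_of_le D_le_B
  have h5 : 5 ∣ Nat.card B := by
    have : Fact (Nat.Prime 5) := ⟨Nat.prime_five⟩
    have h1 : orderOf (⟨y, y_mem_B⟩ : B) ∣ Nat.card B := _root_.orderOf_dvd_natCard _
    have h2 : orderOf (⟨y, y_mem_B⟩ : B) = 5 :=
      orderOf_eq_prime (Subtype.ext y_five) (fun h => y_ne (congrArg Subtype.val h))
    rwa [h2] at h1
  omega

/-- `B → X / E` -/
noncomputable def toQ : B →* X ⧸ E.subgroupOf X :=
  (QuotientGroup.mk' (E.subgroupOf X)).comp (Subgroup.inclusion (inf_le_left : B ≤ X))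

theorem toQ_inj : Function.Injective toQ := by
  rw [injective_iff_map_eq_one]
  intro b hb
  have h1 : Subgroup.inclusion (inf_le_left : B ≤ X) b ∈ E.subgroupOf X :=
    (QuotientGroup.eq_one_iff _).1 hb
  exact Subtype.ext (E_inf_B (mem_subgroupOf.1 h1) b.2)

theorem card_B : Nat.card B = 360 := by
  have := finSuz
  have h1 := Nat.card_le_card_of_injective toQ toQ_inj
  rw [CpAutSuz.ThreeC.card_quot] at h1
  have h2 := Nat.le_of_dvd Nat.card_pos dvd_B
  omega

theorem toQ_bij : Function.Bijective toQ := by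
  have := finSuz
  exact (Nat.bijective_iff_injective_and_card toQ).2 ⟨toQ_inj, by rw [card_B, CpAutSuz.ThreeC.card_quot]⟩

theorem simple_B : IsSimpleGroup B := by
  have := simple_X
  exact (MulEquiv.ofBijective toQ toQ_bij).isSimpleGroup

/-- `B` has no nontrivial normal 2-subgroup -/
theorem B_no_two {R : Subgroup Suz} (hR : R ≤ B) (hn : ∀ b ∈ B, ∀ r ∈ R, b * r * b⁻¹ ∈ R) (h2 : IsPGroup 2 R) :
    R = ⊥ := by
  have := finSuz
  have := simple_B
  have hN : (R.subgroupOf B).Normal := ⟨fun r hr b => hn b b.2 r hr⟩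
  rcases IsSimpleGroup.eq_bot_or_eq_top_of_normal _ hN with h | h
  · rw [subgroupOf_eq_bot] at h
    rw [← inf_eq_left.2 hR]
    exact disjoint_iff.1 h
  · exfalso
    have h1 : B ≤ R := subgroupOf_eq_top.1 h
    have h3 : IsPGroup 2 B := h2.to_le h1
    obtain ⟨n, hn⟩ := IsPGroup.iff_card.1 h3
    rw [card_B] at hn
    have h5 : 3 ∣ 2 ^ n := by rw [← hn]; norm_num
    have h6 := Nat.prime_three.dvd_of_dvd_pow h5
    omega

/-- the center of `X` -/
theorem center_X {z : Suz} (hz : z ∈ X) (hc : ∀ g ∈ X, g * z = z * g) : z ∈ E := by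
  have := simple_X
  have h1 : (QuotientGroup.mk' (E.subgroupOf X) ⟨z, hz⟩) ∈ center (X ⧸ E.subgroupOf X) := by
    rw [mem_center_iff]
    intro q
    obtain ⟨g, rfl⟩ := QuotientGroup.mk'_surjective _ q
    rw [← map_mul, ← map_mul]
    congr 1
    exact Subtype.ext (hc g g.2)
  rcases IsSimpleGroup.eq_bot_or_eq_top_of_normal (center (X ⧸ E.subgroupOf X)) inferInstance with h | h
  · rw [h, mem_bot, QuotientGroup.mk'_apply, QuotientGroup.eq_one_iff] at h1
    exact mem_subgroupOf.1 h1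
  · exfalso
    have := finSuz
    have hcm : ∀ a b : X ⧸ E.subgroupOf X, a * b = b * a := fun a b => by
      have h2 : b ∈ center (X ⧸ E.subgroupOf X) := h ▸ mem_top b
      exact mem_center_iff.1 h2 a
    let _ : CommGroup (X ⧸ E.subgroupOf X) := { (inferInstance : Group (X ⧸ E.subgroupOf X)) with mul_comm := hcm }
    have h3 := (IsSimpleGroup.prime_card (α := X ⧸ E.subgroupOf X))
    rw [CpAutSuz.ThreeC.card_quot] at h3
    exact absurd h3 (by norm_num)

/-- an automorphism fixing `x ∈ E#` normalises `E` -/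
theorem aut_E {α : MulAut Suz} {x : Suz} (hx : x ∈ E) (hx1 : x ≠ 1) (hα : α x = x) {e : Suz} (he : e ∈ E) :
    α e ∈ E := by
  have hX : ∀ β : MulAut Suz, β x = x → ∀ g ∈ X, β g ∈ X := by
    intro β hβ g hg
    apply CpAutSuz.ThreeC.cent_x hx hx1
    have h1 := congrArg β (comm_X hg hx)
    rw [map_mul, map_mul, hβ] at h1
    exact h1.symm
  have hα' : α⁻¹ x = x := by
    have h1 : α⁻¹ (α x) = x := by rw [← MulAut.mul_apply, inv_mul_cancel]; rfl
    rwa [hα] at h1
  apply center_X (hX α hα e (E_le_X he))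
  intro g hg
  have h1 := comm_X (hX α⁻¹ hα' g hg) he
  have h2 := congrArg α h1
  have h3 : α (α⁻¹ g) = g := by rw [← MulAut.mul_apply, mul_inv_cancel]; rfl
  rw [map_mul, map_mul, h3] at h2
  exact h2.symm

/-! ### Outer involutory automorphisms -/

theorem not81 {α : MulAut Suz} (h2 : α * α = 1) (ho : ¬ ∃ g, α = MulAut.conj g) :
    ¬ 81 ∣ Nat.card ↥(fixedSubgroup α) := by
  have hcj : ∀ (g : Suz) (β : MulAut Suz), MulAut.congr (MulAut.conj g) β = MulAut.conj g * β * (MulAut.conj g)⁻¹ := by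
    intro g β
    apply MulEquiv.ext
    intro a
    rfl
  rcases KFacts.SuzInvol.outer h2 (fun s hs => ho ⟨s, hs⟩) with ⟨g, hg⟩ | ⟨g, hg⟩
  · rw [hg, ← hcj, ← Nat.card_congr (CpAut.fixEquiv _ _).toEquiv]
    exact KFacts.SuzFix.card_rho fun g => Iff.rfl
  · rw [hg, ← hcj, ← Nat.card_congr (CpAut.fixEquiv _ _).toEquiv,
      KFacts.SuzFix.card_tau (F := fixedSubgroup (KFacts.SuzRho.rho * MulAut.conj (PresentedGroup.of Suz.Gen.e)))
        (fun g => by
          have h : KFacts.SuzRho.rho * MulAut.conj (PresentedGroup.of Suz.Gen.e) = KFacts.SuzFix.tau := by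
            rw [KFacts.SuzFix.tau]
            congr 2
          rw [h]
          exact Iff.rfl)]
    norm_num

/-- an outer involutory automorphism does not fix `E` and `F` -/
theorem not_fix {α : MulAut Suz} (h2 : α * α = 1) (ho : ¬ ∃ g, α = MulAut.conj g) (hE : ∀ e ∈ E, α e = e)
    (hF : ∀ f ∈ F, α f = f) : False := by
  have := finSuz
  apply not81 h2 ho
  have h1 : E ⊔ F ≤ fixedSubgroup α := sup_le (fun e he => hE e he) (fun f hf => hF f hf)
  have h3 := card_dvd_of_le h1
  rwa [card_sup] at h3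

/-! ### Order 13 -/

def tu : List Suz.Gen := [.d, .c, .b, .f, .e, .d, .c, .d, .e, .d, .a, .b, .c, .d]
def zw : List Suz.Gen := .e :: cw tu [.e]

noncomputable def z13 : Suz := el zw

theorem z13_eq : z13 = e0 * (el tu * e0 * (el tu)⁻¹) := by
  rw [z13, zw, el_cons, el_cw]
  rfl

theorem inv_z13 : e0 * z13 * e0⁻¹ = z13⁻¹ := by
  have h1 : e0⁻¹ = e0 := e0_inv
  rw [z13_eq]
  have h2 : e0 * (e0 * (el tu * e0 * (el tu)⁻¹)) * e0⁻¹ = (e0 * e0) * (el tu * e0 * (el tu)⁻¹) * e0⁻¹ := by group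
  rw [h2, e0_sq, mul_inv_rev, mul_inv_rev, mul_inv_rev, inv_inv, h1]
  group

set_option Elab.async false in
theorem order_z13 : orderOf z13 = 13 := by
  have : Fact (Nat.Prime 13) := ⟨by norm_num⟩
  refine orderOf_eq_prime ?_ (ne_one_of 1 (by decide +kernel))
  rw [z13, CpAutSuz.Fix.el_pow]
  exact one_of (by (rewrite [Cfsg.Agent.Lib.PermNetFast.checkEq_fast]; decide +kernel))

/-- no involution commutes with an element of order 13 -/
theorem cent13 {x s : Suz} (hx : orderOf x = 13) (hs : s * x = x * s) (h2 : s * s = 1) : s = 1 := by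
  have := finSuz
  obtain ⟨z, hz, hc⟩ := H474.Suz13.suz_thirteen
  obtain ⟨g, hg⟩ := CpAutSuz.Fix.isConj_zpowers (l := 13) (by norm_num) (by rw [card_Suz]; norm_num) hx hz
  have h1 : z ∈ zpowers (g * x * g⁻¹) := hg ▸ mem_zpowers z
  obtain ⟨k, hk⟩ := mem_zpowers_iff.1 h1
  have h3 : Commute (g * s * g⁻¹) (g * x * g⁻¹) := by
    show g * s * g⁻¹ * (g * x * g⁻¹) = g * x * g⁻¹ * (g * s * g⁻¹)
    calc g * s * g⁻¹ * (g * x * g⁻¹) = g * (s * x) * g⁻¹ := by group
      _ = g * (x * s) * g⁻¹ := by rw [hs]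
      _ = _ := by group
  have h4 : Commute (g * s * g⁻¹) z := by rw [← hk]; exact h3.zpow_right k
  have h5 : orderOf (g * s * g⁻¹) ∣ 13 := by
    rw [← hc]
    exact Subgroup.orderOf_dvd_natCard _ (mem_centralizer_singleton_iff.2 h4.eq)
  have h6 : orderOf (g * s * g⁻¹) ∣ 2 := by
    apply orderOf_dvd_of_pow_eq_one
    calc (g * s * g⁻¹) ^ 2 = g * (s * s) * g⁻¹ := by rw [pow_two]; group
      _ = 1 := by rw [h2]; group
  have h7 : orderOf (g * s * g⁻¹) = 1 := Nat.Coprime.eq_one_of_dvd (by norm_num) (Nat.dvd_gcd h5 h6)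
  have h8 := orderOf_eq_one_iff.1 h7
  calc s = g⁻¹ * (g * s * g⁻¹) * g := by group
    _ = 1 := by rw [h8]; group

/-- no involutory automorphism fixes an element of order 13 -/
theorem aut13 {α : MulAut Suz} (h2 : α * α = 1) {x : Suz} (hx : orderOf x = 13) (hα : α x = x) : α = 1 := by
  by_contra h1
  have := finSuz
  by_cases ho : ∃ g, α = MulAut.conj g
  · obtain ⟨s, rfl⟩ := ho
    apply h1
    have h3 : s * s = 1 := KFacts.SuzInvol.conj_eq_one (by rw [map_mul, h2])
    have h4 : s * x * s⁻¹ = x := hα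
    rw [cent13 hx (mul_inv_eq_iff_eq_mul.1 h4) h3, map_one]
  · apply H323.SuzOut.not13 h2 ho
    have h3 := Subgroup.orderOf_dvd_natCard (fixedSubgroup α) (x := x) hα
    rwa [hx] at h3

end Cfsg.Agent.H980.SK.SuzW
end

-- part: H980/SK/Suz
section
/-!
# S3010 (Sidki pairs): the row of the Suzuki group (helper980)
-/

set_option autoImplicit false
set_option linter.unusedVariables false
set_option linter.style.haveILetI false
set_option linter.unusedSectionVars false

universe u

open Subgroup Cfsg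
open Cfsg.Spor Cfsg.Agent.H282.SK
open Cfsg.Agent.KFacts.SuzLFour Cfsg.Agent.H980.SK.SuzW Cfsg.Agent.SporadicRecognition.SuzOrder
open Cfsg.Agent.SuzThree.CentA (z0)
open Cfsg.Agent.PreUniq.Spor.SuzP

namespace Cfsg.Agent.H980.SK.Suz

variable {G : Type u} [Group G] [Finite G] {V K : Subgroup G}

/-- the maps `G → Aut(Suz)` and `Suz → K` of a counterexample with `K ≃* Suz` -/
structure Dat (K : Subgroup G) where
  φ : G →* MulAut Spor.Suz
  i : Spor.Suz →* G
  φinj : Function.Injective φ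
  iinj : Function.Injective i
  hi : ∀ s, φ (i s) = MulAut.conj s
  mem : ∀ s, i s ∈ K
  ex : ∀ k ∈ K, ∃ s, i s = k

theorem exists_dat (h : Cx V K) (e : K ≃* Spor.Suz) : Nonempty (Dat K) := by
  obtain ⟨φ, hφ, hφK, -⟩ := h.exists_toAut e
  refine ⟨⟨φ, K.subtype.comp e.symm.toMonoidHom, hφ, ?_, ?_, ?_, ?_⟩⟩
  · intro a b hab
    exact e.symm.injective (Subtype.ext hab)
  · intro s
    show φ (e.symm s : K) = _
    rw [hφK, MulEquiv.apply_symm_apply]
  · intro s
    exact (e.symm s).2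
  · intro k hk
    refine ⟨e ⟨k, hk⟩, ?_⟩
    show ((e.symm (e ⟨k, hk⟩) : K) : G) = k
    rw [MulEquiv.symm_apply_apply]

namespace Dat

variable (d : Dat K)

theorem conj_eq (g : G) (s : Spor.Suz) : g * d.i s * g⁻¹ = d.i (d.φ g s) := by
  apply d.φinj
  rw [map_mul, map_mul, map_inv, d.hi, d.hi, KFacts.AutChain.conj_apply_eq]

theorem fix {g : G} {s : Spor.Suz} (h : Commute g (d.i s)) : d.φ g s = s := by
  apply d.iinj
  rw [← d.conj_eq, h.eq, mul_inv_cancel_right]

theorem sq (h : Cx V K) {w : G} (hw : w ∈ V) : d.φ w * d.φ w = 1 := by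
  rw [← map_mul, h.sq hw, map_one]

theorem eq_one {w : G} (hw : d.φ w = 1) : w = 1 := d.φinj (by rw [hw, map_one])

theorem kill_e0 (h : Cx V K) {g : Spor.Suz} (hv : d.i (g * e0 * g⁻¹) ∈ V) : False := by
  have ho : orderOf (g * z13 * g⁻¹) = 13 := by
    rw [CpAutSuz.Classes.orderOf_conj, order_z13]
  have ho' : orderOf (d.i (g * z13 * g⁻¹)) = 13 := by
    rw [orderOf_injective d.i d.iinj, ho]
  obtain ⟨w, hwV, hw1, hc⟩ := h.t0 hv (x := d.i (g * z13 * g⁻¹)) (by rw [ho']; decide) (by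
    rw [← map_inv, ← map_mul, ← map_mul, ← map_inv]
    congr 1
    calc g * e0 * g⁻¹ * (g * z13 * g⁻¹) * (g * e0 * g⁻¹)⁻¹ = g * (e0 * z13 * e0⁻¹) * g⁻¹ := by group
      _ = (g * z13 * g⁻¹)⁻¹ := by rw [inv_z13]; group)
  exact hw1 (d.eq_one (aut13 (d.sq h hwV) ho (d.fix hc)))

/-- `v0 ∈ V`: every `x ∈ E#` is centralised by an element of `V` inducing an outer automorphism that centralises `B`. -/
theorem step (h : Cx V K) (hv : d.i v0 ∈ V) {x : Spor.Suz} (hx : x ∈ E) (hx1 : x ≠ 1) :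
    ∃ w ∈ V, d.φ w x = x ∧ (¬ ∃ g, d.φ w = MulAut.conj g) ∧ ∀ b ∈ B, d.φ w b = b := by
  have := SporadicRecognition.SuzBound.finite_Suz
  have hv01 : v0 ≠ 1 := by
    intro h1
    have h2 := v0_inv hx
    rw [h1] at h2
    apply hx1
    apply eq_one_of_sq_E hx
    rw [pow_two]
    have h3 : x = x⁻¹ := by simpa using h2
    nth_rw 1 [h3]
    exact inv_mul_cancel x
  have hv1 : d.i v0 ≠ 1 := by
    intro h1
    exact hv01 (d.iinj (by rw [h1, map_one]))
  have ho : Odd (orderOf (d.i x)) := by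
    rw [orderOf_injective d.i d.iinj]
    have h3 : orderOf x ∣ 3 := orderOf_dvd_of_pow_eq_one (cube_E hx)
    exact Odd.of_dvd_nat (by decide) h3
  obtain ⟨w, hwV, hw1, hwx, hwO⟩ := h.t1 hv hv1 ho (by
    rw [← map_inv, ← map_mul, ← map_mul, ← map_inv, v0_inv hx])
  set H : Subgroup G := centralizer ({d.i v0} : Set G) ⊓ centralizer ({d.i x} : Set G) with hH
  have hO : ∀ r : Spor.Suz, d.i r ∈ O2 H → r = 1 := by
    intro r hr
    have hR : (O2 H).comap d.i = ⊥ := by
      apply B_no_two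
      · intro r hr
        have h1 : d.i r ∈ H := O2_le H hr
        obtain ⟨h2, h3⟩ := mem_inf.1 h1
        have h2' := mem_centralizer_singleton_iff.1 h2
        have h3' := mem_centralizer_singleton_iff.1 h3
        rw [← map_mul, ← map_mul] at h2' h3'
        exact mem_B.2 ⟨CpAutSuz.ThreeC.cent_x hx hx1 (d.iinj h3'), (d.iinj h2').symm⟩
      · intro b hb r hr
        have h1 : d.i b ∈ H := by
          obtain ⟨h2, h3⟩ := mem_B.1 hb
          refine mem_inf.2 ⟨mem_centralizer_singleton_iff.2 ?_, mem_centralizer_singleton_iff.2 ?_⟩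
          · rw [← map_mul, ← map_mul, h3]
          · rw [← map_mul, ← map_mul, comm_X h2 hx]
        have h4 := conj_mem_O2 h1 (show d.i r ∈ O2 H from hr)
        show d.i (b * r * b⁻¹) ∈ O2 H
        rwa [map_mul, map_mul, map_inv]
      · exact (isPGroup_O2 H).comap_of_injective _ d.iinj
    have h1 : r ∈ (O2 H).comap d.i := hr
    rwa [hR, mem_bot] at h1
  refine ⟨w, hwV, d.fix hwx, ?_, ?_⟩
  · rintro ⟨s, hs⟩
    have h1 : w = d.i s := d.φinj (by rw [hs, d.hi])
    apply hw1
    rw [h1] at hwO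
    rw [h1, hO s hwO, map_one]
  · intro b hb
    have h1 : d.i b ∈ H := by
      obtain ⟨h2, h3⟩ := mem_B.1 hb
      refine mem_inf.2 ⟨mem_centralizer_singleton_iff.2 ?_, mem_centralizer_singleton_iff.2 ?_⟩
      · rw [← map_mul, ← map_mul, h3]
      · rw [← map_mul, ← map_mul, comm_X h2 hx]
    have h2 : d.i (d.φ w b * b⁻¹) ∈ O2 H := by
      rw [map_mul, ← d.conj_eq, map_inv]
      have h3 : w * d.i b * w⁻¹ * (d.i b)⁻¹ = w * (d.i b * w⁻¹ * (d.i b)⁻¹) := by group
      rw [h3]
      exact (O2 H).mul_mem hwO (conj_mem_O2 h1 ((O2 H).inv_mem hwO))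
    exact mul_inv_eq_one.1 (hO _ h2)

theorem inv_self_E {x : Spor.Suz} (hx : x ∈ E) (h : x⁻¹ = x) : x = 1 := by
  apply eq_one_of_sq_E hx
  rw [pow_two]
  nth_rw 1 [← h]
  exact inv_mul_cancel x

theorem kill_v0 (h : Cx V K) (hv : d.i v0 ∈ V) : False := by
  have := SporadicRecognition.SuzBound.finite_Suz
  obtain ⟨x, hx, hx1⟩ : ∃ x ∈ E, x ≠ 1 := by
    by_contra hc
    push Not at hc
    have h1 : E = ⊥ := (Subgroup.eq_bot_iff_forall _).2 hc
    have h2 := card_E
    rw [h1, Subgroup.card_bot] at h2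
    omega
  obtain ⟨w, hwV, hwx, hwo, hwB⟩ := d.step h hv hx hx1
  have hα2 := d.sq h hwV
  set α := d.φ w with hα
  have hαE : ∀ e ∈ E, α e ∈ E := fun e he => aut_E hx hx1 hwx he
  have hαα : ∀ e, α (α e) = e := by
    intro e
    rw [← MulAut.mul_apply, hα2, MulAut.one_apply]
  by_cases hfix : ∀ e ∈ E, α e = e
  · exact not_fix hα2 hwo hfix fun f hf => hwB f (F_le_B hf)
  push Not at hfix
  obtain ⟨e, he, hne⟩ := hfix
  obtain ⟨f, hf⟩ : ∃ f : Spor.Suz, f = e * (α e)⁻¹ := ⟨_, rfl⟩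
  have hfE : f ∈ E := by rw [hf]; exact mul_mem he (inv_mem (hαE e he))
  have hf1 : f ≠ 1 := by
    intro h1
    rw [hf] at h1
    exact hne (mul_inv_eq_one.1 h1).symm
  have hαf : α f = f⁻¹ := by
    rw [hf, map_mul, map_inv, hαα, mul_inv_rev, inv_inv]
  have hxf1 : x * f ≠ 1 := by
    intro h1
    have h2 : f = x⁻¹ := (inv_eq_of_mul_eq_one_right h1).symm
    apply hf1
    apply inv_self_E hfE
    rw [← hαf]
    rw [h2, map_inv, hwx]
  have hxfE : x * f ∈ E := mul_mem hx hfE
  obtain ⟨w', hwV', hwx', hwo', hwB'⟩ := d.step h hv hxfE hxf1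
  have hβ2 := d.sq h hwV'
  set β := d.φ w' with hβ
  have hβE : ∀ e ∈ E, β e ∈ E := fun e he => aut_E hxfE hxf1 hwx' he
  have hαβ : ∀ e, α (β e) = β (α e) := by
    intro e
    rw [← MulAut.mul_apply, ← MulAut.mul_apply, hα, hβ, ← map_mul, ← map_mul, (h.comm hwV hwV').eq]
  have hprod : β x * β f = x * f := by rw [← map_mul, hwx']
  set t : Spor.Suz := β x * x⁻¹ with ht
  have htE : t ∈ E := mul_mem (hβE x hx) (inv_mem hx)
  have ht' : t = f * (β f)⁻¹ := by
    rw [ht, mul_inv_eq_iff_eq_mul]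
    have h1 : β x = x * f * (β f)⁻¹ := by rw [← hprod]; group
    rw [h1, mul_assoc, E_ab x hx _ (mul_mem hfE (inv_mem (hβE f hfE)))]
  have h1 : α t = t := by
    rw [ht, map_mul, map_inv, hαβ, hwx]
  have h2 : α t = t⁻¹ := by
    rw [ht', map_mul, map_inv, hαβ, hαf, map_inv, inv_inv, mul_inv_rev, inv_inv]
    exact E_ab _ (inv_mem hfE) _ (hβE f hfE)
  have ht1 : t = 1 := inv_self_E htE (by rw [← h2, h1])
  have hβx : β x = x := mul_inv_eq_one.1 ht1
  have hβf : β f = f := by
    rw [ht'] at ht1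
    exact (mul_inv_eq_one.1 ht1).symm
  -- `E = ⟨x, f⟩`
  have h3 : E ≤ fixedSubgroup β := by
    let S : Subgroup Spor.Suz := E ⊓ fixedSubgroup β
    have hS : Nat.card S ∣ 9 := by
      rw [← card_E]
      exact Subgroup.card_dvd_of_le inf_le_left
    have hz : zpowers x ≤ S := zpowers_le.2 ⟨hx, hβx⟩
    have ho : orderOf x = 3 := by
      have : Fact (Nat.Prime 3) := ⟨Nat.prime_three⟩
      exact orderOf_eq_prime (cube_E hx) hx1
    have hne : zpowers x ≠ S := by
      intro h4
      have h5 : f ∈ zpowers x := by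
        rw [h4]
        exact ⟨hfE, hβf⟩
      obtain ⟨k, hk⟩ := mem_zpowers_iff.1 h5
      apply hf1
      apply inv_self_E hfE
      rw [← hαf, ← hk, map_zpow, hwx]
    have h3 : 3 < Nat.card S := by
      rw [← ho, ← Nat.card_zpowers]
      refine lt_of_le_of_ne (Nat.card_le_card_of_injective _ (Subgroup.inclusion_injective hz)) ?_
      intro h5
      exact hne (Subgroup.eq_of_le_of_card_ge hz h5.ge)
    have h9 : Nat.card S = 9 := by
      have h5 := Nat.le_of_dvd (by norm_num) hS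
      interval_cases (Nat.card S) <;> omega
    have h6 : S = E := Subgroup.eq_of_le_of_card_ge inf_le_left (by rw [h9, card_E])
    rw [← h6]
    exact inf_le_right
  exact not_fix hβ2 hwo' (fun e he => h3 he) fun f hf => hwB' f (F_le_B hf)

theorem kill_z0 (h : Cx V K) {g : Spor.Suz} (hv : d.i (g * z0 * g⁻¹) ∈ V) : False := by
  have h1 := H738.SK.conj h (d.i (el vu * g⁻¹))
  apply d.kill_v0 h1
  refine ⟨_, hv, ?_⟩
  show d.i (el vu * g⁻¹) * d.i (g * z0 * g⁻¹) * (d.i (el vu * g⁻¹))⁻¹ = d.i v0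
  rw [← map_inv, ← map_mul, ← map_mul, v0_eq]
  congr 1
  group

end Dat

theorem index_le (h : Cx V K) (e : K ≃* Spor.Suz) : K.index ≤ 2 := by
  obtain ⟨d⟩ := exists_dat h e
  have h1 : K = (MulAut.conj : Spor.Suz →* MulAut Spor.Suz).range.comap d.φ := by
    ext k
    constructor
    · intro hk
      obtain ⟨s, rfl⟩ := d.ex k hk
      exact ⟨s, (d.hi s).symm⟩
    · rintro ⟨s, hs⟩
      have : k = d.i s := d.φinj (by rw [← hs, d.hi])
      rw [this]
      exact d.mem s
  have hn : (MulAut.conj : Spor.Suz →* MulAut Spor.Suz).range.Normal := by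
    constructor
    rintro _ ⟨s, rfl⟩ α
    exact ⟨α s, KFacts.AutChain.conj_apply_eq α s⟩
  rw [h1, Subgroup.index_comap]
  have h2 := Subgroup.relIndex_dvd_index_of_normal (MulAut.conj : Spor.Suz →* MulAut Spor.Suz).range d.φ.range
  rcases KFacts.SuzOut.index_eq with h3 | h3
  · rw [h3] at h2
    have := Nat.le_of_dvd (by norm_num) h2
    omega
  · rw [h3] at h2
    exact Nat.le_of_dvd (by norm_num) h2

theorem dead : DeadS.{u} (fun K _ => Spor.IsoSuz K) := by
  intro G _ _ V K h hK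
  obtain ⟨e⟩ := hK
  obtain ⟨d⟩ := exists_dat h e
  obtain ⟨v, hv, hvK, hv1⟩ := H738.SK.exists_mem_K h (index_le h e)
  obtain ⟨t, rfl⟩ := d.ex v hvK
  have ht1 : t ≠ 1 := by
    rintro rfl
    exact hv1 (map_one _)
  have ht2 : t ^ 2 = 1 := by
    apply d.iinj
    rw [map_pow, pow_two, h.sq hv, map_one]
  have : Fact (Nat.Prime 2) := ⟨Nat.prime_two⟩
  rcases CpAutSuz.Classes.exists_conj_inv (orderOf_eq_prime ht2 ht1) with ⟨g, hg⟩ | ⟨g, hg⟩
  · exact d.kill_z0 h (g := g) (by rw [hg]; exact hv)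
  · exact d.kill_e0 h (g := g) (by rw [hg]; exact hv)

end Cfsg.Agent.H980.SK.Suz
end

private theorem dce_12df5b74ceb3 : _root_.True := by
  try have : _root_.True := by simp only [_root_.Cfsg.Agent.H980.SK.SuzW.B.eq_1]
  try have : _root_.True := by simp only [_root_.Cfsg.Agent.H980.SK.SuzW.z13.eq_1]
  try have : _root_.True := by simp only [_root_.Cfsg.Agent.KFacts.SuzFix.tau.eq_1]
  try have : _root_.True := by simp only [_root_.Cfsg.Agent.H980.SK.SuzW.zw.eq_1]
  try have : _root_.True := by simp only [_root_.Cfsg.Agent.H980.SK.SuzW.v0.eq_1]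
  exact _root_.True.intro
end

-- part: H877/SK/Tool
section
prune_inst 0x300000000000000000000000000000002
set_option linter.all false
open scoped Cfsg.Agent.FastGrp

/-!
# S3010 (Sidki pairs): tools for the rows with `G = K` (helper877)

* `Dead1 v` : `v` inverts an element `x` of odd order with `|C(x)|` odd, or with `C(v) ∩ C(x)` isomorphic to a simple
  group which is not a 2-group;
* `deadS_of` : all automorphisms of `X` are inner and all involutions of `X` are dead ⟹ the row `X` is dead;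
* `exists_split` : a real element `x` of odd order such that `C(x) / ⟨x⟩` is complete is inverted by an involution `s` with
  `C(s) ∩ C(x) ≅ C(x) / ⟨x⟩`.
-/

set_option autoImplicit false

open Subgroup Cfsg

namespace Cfsg.Agent.H877.SK

open Cfsg.Agent.H282.SK
open Cfsg.Agent.LThreeMB (XX Zx mk exists_mk mk_eq_mk mk_mul)

universe u v w

/-- `v` inverts an element of odd order whose centralizer has odd order, or commutes with no 2-element. -/
def Dead1 {G : Type u} [Group G] (a : G) : Prop :=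
  ∃ x : G, Odd (orderOf x) ∧ a * x * a⁻¹ = x⁻¹ ∧ (Odd (Nat.card (centralizer ({x} : Set G))) ∨
    ∃ (T : Type) (_ : Group T), IsSimpleGroup T ∧ ¬ IsPGroup 2 T ∧
      Nonempty (↥(centralizer ({a} : Set G) ⊓ centralizer ({x} : Set G)) ≃* T))

section gen

variable {G : Type u} [Group G]

theorem map_cent {H : Type v} [Group H] (e : G ≃* H) (x : G) :
    (centralizer ({x} : Set G)).map e.toMonoidHom = centralizer ({e x} : Set H) := by
  ext g
  rw [mem_map, mem_centralizer_singleton_iff]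
  constructor
  · rintro ⟨c, hc, rfl⟩
    have := mem_centralizer_singleton_iff.1 hc
    show e c * e x = e x * e c
    rw [← map_mul, this, map_mul]
  · intro hg
    refine ⟨e.symm g, mem_centralizer_singleton_iff.2 (e.injective ?_), e.apply_symm_apply g⟩
    rw [map_mul, map_mul, e.apply_symm_apply, hg]

theorem Dead1.map {H : Type v} [Group H] (e : G ≃* H) {a : G} (h : Dead1 a) : Dead1 (e a) := by
  obtain ⟨x, hx, hi, h⟩ := h
  refine ⟨e x, by rwa [MulEquiv.orderOf_eq], by rw [← map_inv, ← map_mul, ← map_mul, hi, map_inv], ?_⟩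
  rcases h with h | ⟨T, _, hT, hT2, ⟨f⟩⟩
  · left
    rw [← map_cent]
    rwa [card_map_of_injective (f := e.toMonoidHom) e.injective]
  · right
    refine ⟨T, inferInstance, hT, hT2, ?_⟩
    rw [← map_cent, ← map_cent, ← map_inf _ _ _ e.injective]
    exact ⟨(equivMapOfInjective _ e.toMonoidHom e.injective).symm.trans f⟩

theorem Dead1.conj {a : G} (h : Dead1 a) (g : G) : Dead1 (g * a * g⁻¹) := h.map (MulAut.conj g)

variable [Finite G] {V K : Subgroup G}

/-- The core of a simple group which is not a 2-group. -/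
theorem pCore_eq_bot_of_simple {T : Type v} [Group T] [Finite T] [hT : IsSimpleGroup T] (hT2 : ¬ IsPGroup 2 T) :
    pCore 2 T = ⊥ := by
  rcases hT.eq_bot_or_eq_top_of_normal (pCore 2 T) (Lib.Cores.pCore_normal 2) with h | h
  · exact h
  · exfalso
    apply hT2
    have h1 : IsPGroup 2 (pCore 2 T) := Lib.Cores.pCore_isPGroup 2
    rw [h] at h1
    exact h1.of_equiv Subgroup.topEquiv

theorem O2_eq_bot {H : Subgroup G} {T : Type v} [Group T] (hT : IsSimpleGroup T) (hT2 : ¬ IsPGroup 2 T)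
    (e : Nonempty (H ≃* T)) : O2 H = ⊥ := by
  obtain ⟨e⟩ := e
  have : Nontrivial H := e.symm.injective.nontrivial
  have : IsSimpleGroup H := IsSimpleGroup.isSimpleGroup_of_surjective e.symm.toMonoidHom e.symm.surjective
  have h1 : pCore 2 H = ⊥ := pCore_eq_bot_of_simple fun h => hT2 (h.of_equiv e)
  rw [O2, h1, Subgroup.map_bot]

/-- **No dead element in `V`.** -/
theorem not_dead {h : Cx V K} {a : G} (ha : a ∈ V) (ha1 : a ≠ 1) : ¬ Dead1 a := by
  rintro ⟨x, hx, hi, hd⟩
  obtain ⟨w, hw, hw1, hwx, hwO⟩ := h.t1 ha ha1 hx hi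
  rcases hd with hd | ⟨T, _, hT, hT2, he⟩
  · have h1 : w ∈ centralizer ({x} : Set G) := mem_centralizer_singleton_iff.2 hwx.eq
    have h2 : orderOf w ∣ 2 := orderOf_dvd_of_pow_eq_one (by rw [pow_two, h.sq hw])
    have h3 := orderOf_dvd_natCard (⟨w, h1⟩ : centralizer ({x} : Set G))
    rw [Subgroup.orderOf_mk] at h3
    rcases (Nat.dvd_prime Nat.prime_two).1 h2 with h4 | h4
    · exact hw1 (orderOf_eq_one_iff.1 h4)
    · rw [h4] at h3
      exact (Nat.not_even_iff_odd.2 hd) (even_iff_two_dvd.2 h3)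
  · rw [O2_eq_bot hT hT2 he, mem_bot] at hwO
    exact hw1 hwO

/-- All automorphisms of `K` are inner: `G = K`. -/
theorem eq_top_of_inner (h : Cx V K) (hin : ∀ α : MulAut K, ∃ k : K, α = MulAut.conj k) : K = ⊤ := by
  have := h.norm
  rw [eq_top_iff]
  intro g _
  obtain ⟨k, hk⟩ := hin (MulAut.conjNormal g)
  have h1 : (k : G)⁻¹ * g = 1 := by
    apply h.eq_one_of_comm
    intro y hy
    have h2 := congrArg (fun α : MulAut K => ((α ⟨y, hy⟩ : K) : G)) hk
    simp only [MulAut.conjNormal_apply, MulAut.conj_apply, Subgroup.coe_mul, InvMemClass.coe_inv] at h2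
    have h3 : g * y = (k : G) * y * (k : G)⁻¹ * g := by rw [← h2]; group
    calc (k : G)⁻¹ * g * y = (k : G)⁻¹ * (g * y) := by group
      _ = (k : G)⁻¹ * ((k : G) * y * (k : G)⁻¹ * g) := by rw [h3]
      _ = y * ((k : G)⁻¹ * g) := by group
  rw [inv_mul_eq_one] at h1
  rw [← h1]
  exact k.2

theorem inner_congr {X : Type v} {Y : Type w} [Group X] [Group Y] (e : X ≃* Y)
    (h : ∀ α : MulAut Y, ∃ g : Y, α = MulAut.conj g) (α : MulAut X) : ∃ g : X, α = MulAut.conj g := by
  obtain ⟨g, hg⟩ := h (e.symm.trans (α.trans e))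
  refine ⟨e.symm g, ?_⟩
  ext x
  have h1 : e (α (e.symm (e x))) = g * e x * g⁻¹ := by
    have := congrArg (fun t : MulAut _ => t (e x)) hg
    exact this
  rw [e.symm_apply_apply] at h1
  rw [MulAut.conj_apply]
  apply e.injective
  rw [h1, map_mul, map_mul, map_inv, e.apply_symm_apply]

end gen

/-- **The criterion for a row without outer automorphisms.** -/
theorem deadS_of {X : Type v} [Group X] (hin : ∀ α : MulAut X, ∃ k : X, α = MulAut.conj k)
    (hd : ∀ a : X, a * a = 1 → a ≠ 1 → Dead1 a) : DeadS.{u} (fun K _ => Nonempty (K ≃* X)) := by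
  intro G _ _ V K h he
  obtain ⟨e⟩ := he
  have hK := eq_top_of_inner h (inner_congr e hin)
  let f : G ≃* X := (Subgroup.topEquiv.symm.trans (MulEquiv.subgroupCongr hK.symm)).trans e
  obtain ⟨a, ha, ha1⟩ : ∃ a ∈ V, a ≠ 1 := by
    by_contra hcon
    push Not at hcon
    exact h.V_ne_bot ((Subgroup.eq_bot_iff_forall V).2 hcon)
  refine not_dead (h := h) ha ha1 ?_
  have h1 := (hd (f a) (by rw [← map_mul, h.sq ha, map_one]) (fun h' => ha1 (f.injective (by rw [h', map_one])))).map
    f.symm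
  rwa [f.symm_apply_apply] at h1

/-! ### Real elements with a complete quotient -/

section split

variable {G : Type u} [Group G]

theorem comm_conj {x n c : G} (hn : n * x * n⁻¹ = x⁻¹) (hc : c * x = x * c) : (n * c * n⁻¹) * x = x * (n * c * n⁻¹) := by
  have h1 : x = n * x⁻¹ * n⁻¹ := by
    calc x = (x⁻¹)⁻¹ := (inv_inv x).symm
      _ = (n * x * n⁻¹)⁻¹ := by rw [hn]
      _ = n * x⁻¹ * n⁻¹ := by group
  have h2 : c * x⁻¹ = x⁻¹ * c := ((show Commute c x from hc).inv_right).eq
  calc (n * c * n⁻¹) * x = (n * c * n⁻¹) * (n * x⁻¹ * n⁻¹) := by rw [← h1]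
    _ = n * (c * x⁻¹) * n⁻¹ := by group
    _ = n * (x⁻¹ * c) * n⁻¹ := by rw [h2]
    _ = (n * x⁻¹ * n⁻¹) * (n * c * n⁻¹) := by group
    _ = x * (n * c * n⁻¹) := by rw [← h1]

theorem inv_conj {x n : G} (hn : n * x * n⁻¹ = x⁻¹) : n⁻¹ * x * n⁻¹⁻¹ = x⁻¹ := by
  have h1 : x = n * x⁻¹ * n⁻¹ := by
    calc x = (x⁻¹)⁻¹ := (inv_inv x).symm
      _ = (n * x * n⁻¹)⁻¹ := by rw [hn]
      _ = n * x⁻¹ * n⁻¹ := by group
  calc n⁻¹ * x * n⁻¹⁻¹ = n⁻¹ * (n * x⁻¹ * n⁻¹) * n⁻¹⁻¹ := by rw [← h1]
    _ = x⁻¹ := by group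

/-- The automorphism of `C(x)` induced by an element inverting `x`. -/
def autC {x n : G} (hn : n * x * n⁻¹ = x⁻¹) : ↥(centralizer ({x} : Set G)) ≃* ↥(centralizer ({x} : Set G)) where
  toFun c := ⟨n * c * n⁻¹, mem_centralizer_singleton_iff.2 (comm_conj hn (mem_centralizer_singleton_iff.1 c.2))⟩
  invFun c := ⟨n⁻¹ * c * n⁻¹⁻¹, mem_centralizer_singleton_iff.2
    (comm_conj (inv_conj hn) (mem_centralizer_singleton_iff.1 c.2))⟩
  left_inv c := Subtype.ext (by show n⁻¹ * (n * (c : G) * n⁻¹) * n⁻¹⁻¹ = c; group)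
  right_inv c := Subtype.ext (by show n * (n⁻¹ * (c : G) * n⁻¹⁻¹) * n⁻¹ = c; group)
  map_mul' a b := Subtype.ext (by
    show n * ((a : G) * b) * n⁻¹ = n * a * n⁻¹ * (n * b * n⁻¹)
    group)

/-- The induced automorphism of `C(x) / ⟨x⟩`. -/
noncomputable def autX {x n : G} (hn : n * x * n⁻¹ = x⁻¹) : MulAut (XX x) :=
  QuotientGroup.congr (Zx x) (Zx x) (autC hn) (by
    have h1 : (autC hn : ↥(centralizer ({x} : Set G)) →* ↥(centralizer ({x} : Set G))) (LThreeMB.self x) =
        (LThreeMB.self x)⁻¹ := Subtype.ext hn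
    rw [Zx, MonoidHom.map_zpowers, h1, zpowers_inv])

theorem autX_mk {x n c : G} (hn : n * x * n⁻¹ = x⁻¹) (hc : c * x = x * c) :
    autX hn (mk x hc) = mk x (comm_conj hn hc) := rfl

/-- **A real element of odd order with a complete quotient.** -/
theorem exists_split {x n : G} (hx : Odd (orderOf x)) (hx1 : x ≠ 1) (hn : n * x * n⁻¹ = x⁻¹)
    (hin : ∀ α : MulAut (XX x), ∃ y : XX x, α = MulAut.conj y) (hcen : center (XX x) = ⊥) :
    ∃ s : G, s * s = 1 ∧ s ≠ 1 ∧ s * x * s⁻¹ = x⁻¹ ∧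
      Nonempty (↥(centralizer ({s} : Set G) ⊓ centralizer ({x} : Set G)) ≃* XX x) := by
  obtain ⟨y, hy⟩ := hin (autX hn)
  obtain ⟨c, hc, rfl⟩ := exists_mk y
  set s := c⁻¹ * n with hs
  have hcx : c⁻¹ * x⁻¹ * c = x⁻¹ := by
    have h1 : Commute c x⁻¹ := (show Commute c x from hc).inv_right
    rw [mul_assoc, ← h1.eq]
    group
  have hsx : s * x * s⁻¹ = x⁻¹ := by
    calc s * x * s⁻¹ = c⁻¹ * (n * x * n⁻¹) * c := by rw [hs]; group
      _ = x⁻¹ := by rw [hn, hcx]
  -- `s` acts trivially on `C(x) / ⟨x⟩`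
  have hact : ∀ d : G, d * x = x * d → ∃ i : ℤ, s * d * s⁻¹ = d * x ^ i := by
    intro d hd
    have h1 := congrArg (fun α : MulAut (XX x) => α (mk x hd)) hy
    simp only [MulAut.conj_apply] at h1
    rw [autX_mk hn hd] at h1
    have hcc : c⁻¹ * x = x * c⁻¹ := ((show Commute c x from hc).inv_left).eq
    have h2 : mk x hc * mk x hd * (mk x hc)⁻¹ = mk x (LThreeMB.conj_comm hc hd) := rfl
    rw [h2] at h1
    obtain ⟨i, hi⟩ := (mk_eq_mk _ _).1 h1.symm
    refine ⟨i, ?_⟩
    have h3 : Commute c (x ^ i) := (show Commute c x from hc).zpow_right i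
    calc s * d * s⁻¹ = c⁻¹ * (n * d * n⁻¹) * c := by rw [hs]; group
      _ = c⁻¹ * (c * d * c⁻¹ * x ^ i) * c := by rw [hi]
      _ = d * c⁻¹ * (x ^ i * c) := by group
      _ = d * c⁻¹ * (c * x ^ i) := by rw [h3.eq]
      _ = d * x ^ i := by group
  have hinvpow : ∀ i : ℤ, s * x ^ i * s⁻¹ = x ^ (-i) := by
    intro i
    rw [← conj_zpow, hsx, inv_zpow, zpow_neg]
  have hodd : ∀ i : ℤ, x ^ i = x ^ (-i) → x ^ i = 1 := by
    intro i hi
    have h1 : x ^ (2 * i) = 1 := by
      rw [two_mul, zpow_add]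
      nth_rewrite 1 [hi]
      rw [← zpow_add, neg_add_cancel, zpow_zero]
    rw [← orderOf_dvd_iff_zpow_eq_one] at h1 ⊢
    have h2 : IsCoprime (orderOf x : ℤ) 2 := by
      rw [Int.isCoprime_iff_gcd_eq_one]
      have := (Nat.coprime_two_right (n := orderOf x)).2 hx
      exact this
    exact h2.dvd_of_dvd_mul_left h1
  -- `s² ∈ ⟨x⟩`
  have hssx : (s * s) * x = x * (s * s) := by
    have h1 : s * s * x * (s * s)⁻¹ = x := by
      calc s * s * x * (s * s)⁻¹ = s * (s * x * s⁻¹) * s⁻¹ := by group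
        _ = s * x ^ (-1 : ℤ) * s⁻¹ := by rw [hsx, zpow_neg_one]
        _ = x := by rw [hinvpow, neg_neg, zpow_one]
    rwa [mul_inv_eq_iff_eq_mul] at h1
  have hss : mk x hssx ∈ center (XX x) := by
    rw [mem_center_iff]
    intro g
    obtain ⟨d, hd, rfl⟩ := exists_mk g
    obtain ⟨i, hi⟩ := hact d hd
    have h1 : (s * s) * d * (s * s)⁻¹ = d := by
      calc (s * s) * d * (s * s)⁻¹ = s * (s * d * s⁻¹) * s⁻¹ := by group
        _ = s * (d * x ^ i) * s⁻¹ := by rw [hi]
        _ = (s * d * s⁻¹) * (s * x ^ i * s⁻¹) := by group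
        _ = d * x ^ i * x ^ (-i) := by rw [hi, hinvpow]
        _ = d := by rw [mul_assoc, ← zpow_add, add_neg_cancel, zpow_zero, mul_one]
    have h2 : (s * s) * d = d * (s * s) := by rwa [mul_inv_eq_iff_eq_mul] at h1
    have h3 : d * (s * s) * x = x * (d * (s * s)) := by rw [mul_assoc, hssx, ← mul_assoc, hd, mul_assoc]
    have h4 : (s * s) * d * x = x * ((s * s) * d) := by rw [h2]; exact h3
    rw [mk_mul hd hssx h3, mk_mul hssx hd h4]
    exact LThreeMB.mk_congr _ _ h2.symm
  rw [hcen, mem_bot, LThreeMB.mk_eq_one] at hss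
  obtain ⟨i, hi⟩ := hss
  have hs2 : s * s = 1 := by
    rw [← hi]
    apply hodd
    rw [← hinvpow, hi]
    group
  have hs1 : s ≠ 1 := by
    intro h1
    rw [h1, one_mul, inv_one, mul_one] at hsx
    apply hx1
    have := hodd 1 (by rw [zpow_one, zpow_neg_one]; exact hsx)
    rwa [zpow_one] at this
  refine ⟨s, hs2, hs1, hsx, ?_⟩
  -- the isomorphism
  let f : ↥(centralizer ({s} : Set G) ⊓ centralizer ({x} : Set G)) →* XX x :=
    (QuotientGroup.mk' (Zx x)).comp (Subgroup.inclusion inf_le_right)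
  have hf : ∀ d, f d = mk x (mem_centralizer_singleton_iff.1 (mem_inf.1 d.2).2) := fun d => rfl
  refine ⟨MulEquiv.ofBijective f ⟨?_, ?_⟩⟩
  · rw [injective_iff_map_eq_one]
    intro d hd
    rw [hf, LThreeMB.mk_eq_one] at hd
    obtain ⟨j, hj⟩ := hd
    have h1 : (d : G) * s = s * d := mem_centralizer_singleton_iff.1 (mem_inf.1 d.2).1
    apply Subtype.ext
    show (d : G) = 1
    rw [← hj]
    apply hodd
    rw [← hinvpow, hj, ← h1]
    group
  · intro g
    obtain ⟨d, hd, rfl⟩ := exists_mk g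
    obtain ⟨i, hi⟩ := hact d hd
    obtain ⟨m, hm⟩ := hx
    -- `x ^ (2 j) = x ^ i`
    obtain ⟨j, hj⟩ : ∃ j : ℤ, x ^ i = x ^ (j + j) := by
      refine ⟨i * (m + 1), ?_⟩
      have h1 : i * ((m : ℤ) + 1) + i * (m + 1) = i + i * (orderOf x) := by
        rw [hm]; push_cast; ring
      rw [h1, zpow_add, mul_comm i, zpow_mul, zpow_natCast, pow_orderOf_eq_one, one_zpow, mul_one]
    have hdj : (d * x ^ j) * x = x * (d * x ^ j) := by
      rw [mul_assoc, ← zpow_add_one, add_comm, zpow_one_add, ← mul_assoc, hd, mul_assoc]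
    have hds : (d * x ^ j) * s = s * (d * x ^ j) := by
      have h1 : s * (d * x ^ j) * s⁻¹ = d * x ^ j := by
        calc s * (d * x ^ j) * s⁻¹ = (s * d * s⁻¹) * (s * x ^ j * s⁻¹) := by group
          _ = d * x ^ (j + j) * x ^ (-j) := by rw [hi, hinvpow, hj]
          _ = d * x ^ j := by rw [mul_assoc, ← zpow_add]; congr 2; ring
      rw [mul_inv_eq_iff_eq_mul] at h1
      exact h1.symm
    refine ⟨⟨d * x ^ j, mem_inf.2 ⟨mem_centralizer_singleton_iff.2 hds, mem_centralizer_singleton_iff.2 hdj⟩⟩, ?_⟩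
    rw [hf]
    exact ((mk_eq_mk hd hdj).2 ⟨j, rfl⟩).symm

end split

end Cfsg.Agent.H877.SK

private theorem dce_ec9d8402ab41 : _root_.True := by
  try have : _root_.True := by simp only [_root_.Cfsg.Agent.LThreeMB.mk.congr_simp]
  try have : _root_.True := by simp only [_root_.Cfsg.Agent.H282.SK.O2.eq_1]
  try have : _root_.True := by simp only [_root_.Cfsg.Agent.H877.SK.autX.congr_simp]
  exact _root_.True.intro
end
end
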